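import Mathlib
import Cfsg.Prelude.Def_Characters
import Cfsg.Agent.Lib.Helper19.IndFun

/-!
# Mackey by hand for `H ≀ Q ≤ D ≀ Q` (rung EXT of the DADE ladder)
-/

set_option autoImplicit false

namespace Cfsg.Agent.Lib.Helper16.Dade

open Cfsg Cfsg.Agent.Lib.Helper19

/-- `H ≀ᵣ Q` as a subgroup of `D ≀ᵣ Q`. -/
def wrSub {Q : Type*} [Group Q] {D : Type*} [Group D] (H : Subgroup D) :
    Subgroup (RegularWreathProduct D Q) where
  carrier := {w | ∀ i, w.left i ∈ H}
  mul_mem' := by
    intro a b ha hb i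
    exact H.mul_mem (ha i) (hb _)
  one_mem' := fun _ => H.one_mem
  inv_mem' := by
    intro a ha i
    exact H.inv_mem (ha _)

theorem mem_wrSub {Q : Type*} [Group Q] {D : Type*} [Group D] (H : Subgroup D)
    (w : RegularWreathProduct D Q) : w ∈ wrSub (Q := Q) H ↔ ∀ i, w.left i ∈ H := Iff.rfl

/-- The product linear character of `H ≀ᵣ Q`. -/
noncomputable def wrLin {Q : Type*} [Group Q] [Fintype Q] {D : Type*} [Group D]
    (H : Subgroup D) (lam : ↥H →* ℂˣ) : ↥(wrSub (Q := Q) H) →* ℂˣ where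
  toFun w := ∏ i, lam ⟨w.1.left i, w.2 i⟩
  map_one' := by
    apply Finset.prod_eq_one
    intro i _
    exact map_one lam
  map_mul' a b := by
    have h1 : ∏ i, lam ⟨b.1.left i, b.2 i⟩
        = ∏ i, lam ⟨b.1.left (a.1.right⁻¹ * i), b.2 _⟩ :=
      (Equiv.prod_comp (Equiv.mulLeft a.1.right⁻¹) (fun j => lam ⟨b.1.left j, b.2 j⟩)).symm
    rw [h1, ← Finset.prod_mul_distrib]
    apply Finset.prod_congr rfl
    intro i _
    rw [← map_mul]
    rfl

theorem extendByZero_wrLin {Q : Type*} [Group Q] [Fintype Q] {D : Type*} [Group D]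
    (H : Subgroup D) (lam : ↥H →* ℂˣ) (w : RegularWreathProduct D Q) :
    extendByZero (wrSub (Q := Q) H) (fun h => (wrLin H lam h : ℂ)) w
      = ∏ i, extendByZero H (fun h => (lam h : ℂ)) (w.left i) := by
  by_cases hy : w ∈ wrSub (Q := Q) H
  · rw [extendByZero_of_mem _ _ hy]
    simp only [wrLin, MonoidHom.coe_mk, OneHom.coe_mk, Units.coe_prod]
    apply Finset.prod_congr rfl
    intro i _
    rw [extendByZero_of_mem _ _ (hy i)]
  · rw [extendByZero_of_not_mem _ _ hy]
    have : ∃ i, w.left i ∉ H := by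
      by_contra hcon
      push Not at hcon
      exact hy hcon
    obtain ⟨i, hi⟩ := this
    symm
    apply Finset.prod_eq_zero (Finset.mem_univ i)
    exact extendByZero_of_not_mem _ _ hi

theorem card_wrSub {Q : Type*} [Group Q] [Fintype Q] {D : Type*} [Group D]
    (H : Subgroup D) :
    Nat.card ↥(wrSub (Q := Q) H) = Nat.card ↥H ^ Nat.card Q * Nat.card Q := by
  rw [← Nat.card_fun, ← Nat.card_prod]
  apply Nat.card_congr
  exact
    { toFun := fun h => (fun i => ⟨h.1.left i, h.2 i⟩, h.1.right)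
      invFun := fun k => ⟨⟨fun i => (k.1 i).1, k.2⟩, fun i => (k.1 i).2⟩
      left_inv := fun _ => rfl
      right_inv := fun _ => rfl }

theorem conj_left {Q : Type*} [Group Q] {D : Type*} [Group D] (β : Q → D)
    (w : RegularWreathProduct D Q) (i : Q) :
    (w⁻¹ * (⟨β, 1⟩ : RegularWreathProduct D Q) * w).left i
      = (w.left (w.right * i))⁻¹ * β (w.right * i) * w.left (w.right * i) := by
  simp

theorem ext_restrict {Q : Type*} [Group Q] [Fintype Q] {D : Type*} [Group D] [Fintype D]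
    [Fintype (RegularWreathProduct D Q)] (H : Subgroup D) (lam : ↥H →* ℂˣ) :
    ∃ (Ht : Subgroup (RegularWreathProduct D Q)) (mu : ↥Ht →* ℂˣ), ∀ β : Q → D,
      indFun Ht (fun h => (mu h : ℂ)) ⟨β, 1⟩ = ∏ i, indFun H (fun h => (lam h : ℂ)) (β i) := by
  classical
  refine ⟨wrSub H, wrLin H lam, fun β => ?_⟩
  simp only [indFun_apply]
  have hterm : ∀ w : RegularWreathProduct D Q,
      extendByZero (wrSub (Q := Q) H) (fun h => (wrLin H lam h : ℂ))
        (w⁻¹ * (⟨β, 1⟩ : RegularWreathProduct D Q) * w)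
      = ∏ j, extendByZero H (fun h => (lam h : ℂ)) ((w.left j)⁻¹ * β j * w.left j) := by
    intro w
    rw [extendByZero_wrLin]
    simp only [conj_left]
    exact Equiv.prod_comp (Equiv.mulLeft w.right)
      (fun j => extendByZero H (fun h => (lam h : ℂ)) ((w.left j)⁻¹ * β j * w.left j))
  have hsum : ∑ w : RegularWreathProduct D Q,
      extendByZero (wrSub (Q := Q) H) (fun h => (wrLin H lam h : ℂ))
        (w⁻¹ * (⟨β, 1⟩ : RegularWreathProduct D Q) * w)
      = (Nat.card Q : ℂ) * ∏ j, ∑ d : D,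
          extendByZero H (fun h => (lam h : ℂ)) (d⁻¹ * β j * d) := by
    simp only [hterm]
    rw [← Equiv.sum_comp (RegularWreathProduct.equivProd D Q).symm, Fintype.sum_prod_type]
    rw [Finset.prod_univ_sum, Fintype.piFinset_univ, Finset.mul_sum]
    apply Finset.sum_congr rfl
    intro y _
    have : ∀ q : Q, ((RegularWreathProduct.equivProd D Q).symm (y, q)).left = y := fun _ => rfl
    simp only [this, Finset.sum_const, Finset.card_univ, nsmul_eq_mul, Nat.card_eq_fintype_card]
  rw [hsum, Finset.prod_mul_distrib, card_wrSub, Finset.prod_const, Finset.card_univ,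
    Nat.card_eq_fintype_card (α := Q)]
  have hQ : (Fintype.card Q : ℂ) ≠ 0 := by
    exact_mod_cast Fintype.card_ne_zero
  push_cast
  rw [mul_inv, ← mul_assoc, mul_assoc _ _ (Fintype.card Q : ℂ), inv_mul_cancel₀ hQ, mul_one,
    inv_pow]

end Cfsg.Agent.Lib.Helper16.Dade
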