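import Mathlib
import Cfsg.Prelude.Def_Characters
import Cfsg.Agent.Lib.Helper19.IndFun

/-!
# Induction of a product character from `Subgroup.pi` (rung INDPI of the DADE ladder)
-/

set_option autoImplicit false

namespace Cfsg.Agent.Lib.Helper16.Dade

open Cfsg Cfsg.Agent.Lib.Helper19

/-- The product linear character of `Subgroup.pi Set.univ H`. -/
noncomputable def piLin {ι : Type*} [Fintype ι] {D : Type*} [Group D]
    (H : ι → Subgroup D) (lam : ∀ i, ↥(H i) →* ℂˣ) : ↥(Subgroup.pi Set.univ H) →* ℂˣ where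
  toFun h := ∏ i, lam i ⟨h.1 i, h.2 i (Set.mem_univ i)⟩
  map_one' := by
    apply Finset.prod_eq_one
    intro i _
    exact map_one (lam i)
  map_mul' a b := by
    rw [← Finset.prod_mul_distrib]
    apply Finset.prod_congr rfl
    intro i _
    rw [← map_mul]
    rfl

theorem extendByZero_piLin {ι : Type*} [Fintype ι] {D : Type*} [Group D]
    (H : ι → Subgroup D) (lam : ∀ i, ↥(H i) →* ℂˣ) (y : ι → D) :
    extendByZero (Subgroup.pi Set.univ H) (fun h => (piLin H lam h : ℂ)) y
      = ∏ i, extendByZero (H i) (fun h => (lam i h : ℂ)) (y i) := by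
  by_cases hy : y ∈ Subgroup.pi Set.univ H
  · rw [extendByZero_of_mem _ _ hy]
    simp only [piLin, MonoidHom.coe_mk, OneHom.coe_mk, Units.coe_prod]
    apply Finset.prod_congr rfl
    intro i _
    rw [extendByZero_of_mem _ _ (hy i (Set.mem_univ i))]
  · rw [extendByZero_of_not_mem _ _ hy]
    have : ∃ i, y i ∉ H i := by
      by_contra hcon
      push Not at hcon
      exact hy (fun i _ => hcon i)
    obtain ⟨i, hi⟩ := this
    symm
    apply Finset.prod_eq_zero (Finset.mem_univ i)
    exact extendByZero_of_not_mem _ _ hi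

theorem card_pi_univ {ι : Type*} [Fintype ι] {D : Type*} [Group D]
    (H : ι → Subgroup D) :
    Nat.card ↥(Subgroup.pi Set.univ H) = ∏ i, Nat.card ↥(H i) := by
  rw [← Nat.card_pi]
  apply Nat.card_congr
  exact
    { toFun := fun h i => ⟨h.1 i, h.2 i (Set.mem_univ i)⟩
      invFun := fun k => ⟨fun i => (k i).1, fun i _ => (k i).2⟩
      left_inv := fun _ => rfl
      right_inv := fun _ => rfl }

theorem indFun_pi {ι : Type*} [Fintype ι] {D : Type*} [Group D] [Fintype D] [Fintype (ι → D)]
    (H : ι → Subgroup D) (lam : ∀ i, ↥(H i) →* ℂˣ) :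
    ∃ mu : ↥(Subgroup.pi Set.univ H) →* ℂˣ, ∀ x : ι → D,
      indFun (Subgroup.pi Set.univ H) (fun h => (mu h : ℂ)) x
        = ∏ i, indFun (H i) (fun h => (lam i h : ℂ)) (x i) := by
  classical
  refine ⟨piLin H lam, fun x => ?_⟩
  obtain rfl : ‹Fintype (ι → D)› = Pi.instFintype := Subsingleton.elim _ _
  simp only [indFun_apply]
  rw [Finset.prod_mul_distrib, card_pi_univ, Nat.cast_prod, Finset.prod_inv_distrib]
  congr 1
  rw [Finset.prod_univ_sum, Fintype.piFinset_univ]
  apply Finset.sum_congr rfl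
  intro y _
  rw [extendByZero_piLin]
  rfl

end Cfsg.Agent.Lib.Helper16.Dade
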