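import Mathlib
import Cfsg.Prelude.Def_Characters
import Cfsg.Agent.Lib.Helper20.CharOrth
import Cfsg.Agent.Lib.Helper81.ClassAlg

/-!
# A shift-invariant product of irreducible characters has equal factors (rung INV, DADE ladder)
-/

set_option autoImplicit false

namespace Cfsg.Agent.Lib.Helper16.Dade

open Cfsg Cfsg.Agent.Lib.Helper20

theorem irr_eq_of_smul {D : Type*} [Group D] [Finite D] {χ ψ : D → ℂ}
    (hχ : IsIrrCharacter D χ) (hψ : IsIrrCharacter D ψ) {a b : ℂ} (ha : a ≠ 0) (hb : b ≠ 0)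
    (h : ∀ d, χ d * a = ψ d * b) : χ = ψ := by
  classical
  have := Fintype.ofFinite D
  by_contra hne
  have h0 := classInner_irr_ne hχ hψ hne
  have h1 := classInner_irr_self hψ
  have h2 : χ = (b / a) • ψ := by
    funext d
    simp only [Pi.smul_apply, smul_eq_mul]
    field_simp
    rw [h d, mul_comm]
  rw [h2, classInner_smul_left, h1, mul_one] at h0
  exact (div_ne_zero hb ha) h0

theorem const_of_shift_invariant {Q : Type*} [Group Q] [Fintype Q] {D : Type*} [Group D] [Finite D]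
    (φ : Q → D → ℂ) (hφ : ∀ i, IsIrrCharacter D (φ i))
    (hinv : ∀ (q : Q) (x : Q → D), ∏ i, φ i (x (q⁻¹ * i)) = ∏ i, φ i (x i)) :
    ∀ i j, φ i = φ j := by
  classical
  intro i j
  have hne : ∀ k : Q, ∏ l ∈ Finset.univ.erase k, φ l 1 ≠ 0 := by
    intro k
    apply Finset.prod_ne_zero_iff.2
    intro l _
    exact Cfsg.Agent.Lib.Helper81.irr_one_ne_zero (hφ l)
  apply irr_eq_of_smul (hφ i) (hφ j) (hne i) (hne j)
  intro d
  have h := hinv (i * j⁻¹) (Pi.mulSingle j d)
  rw [← Finset.mul_prod_erase Finset.univ _ (Finset.mem_univ i),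
    ← Finset.mul_prod_erase Finset.univ _ (Finset.mem_univ j)] at h
  have e1 : (i * j⁻¹)⁻¹ * i = j := by group
  rw [e1, Pi.mulSingle_eq_same] at h
  have e2 : ∏ l ∈ Finset.univ.erase i, φ l ((Pi.mulSingle j d : Q → D) ((i * j⁻¹)⁻¹ * l))
      = ∏ l ∈ Finset.univ.erase i, φ l 1 := by
    apply Finset.prod_congr rfl
    intro l hl
    have hl' : l ≠ i := Finset.ne_of_mem_erase hl
    rw [Pi.mulSingle_eq_of_ne]
    intro hcon
    apply hl'
    have h5 : l = (i * j⁻¹) * ((i * j⁻¹)⁻¹ * l) := by group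
    rw [h5, hcon]; group
  have e3 : ∏ l ∈ Finset.univ.erase j, φ l ((Pi.mulSingle j d : Q → D) l)
      = ∏ l ∈ Finset.univ.erase j, φ l 1 := by
    apply Finset.prod_congr rfl
    intro l hl
    rw [Pi.mulSingle_eq_of_ne (Finset.ne_of_mem_erase hl)]
  rw [e2, e3] at h
  exact h

end Cfsg.Agent.Lib.Helper16.Dade
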