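import Mathlib

/-!
# Krasner-Kaloujnine embedding (rung KK of the DADE ladder)
-/

set_option autoImplicit false

namespace Cfsg.Agent.Lib.Helper16.Dade

universe u

theorem kk_mem {G : Type u} [Group G] (N : Subgroup G) [N.Normal] (x : G ⧸ N) (g : G) :
    (Quotient.out x : G)⁻¹ * g * (Quotient.out (((g : G ⧸ N))⁻¹ * x) : G) ∈ N := by
  rw [← QuotientGroup.eq_one_iff]
  simp only [QuotientGroup.mk_mul, QuotientGroup.mk_inv, QuotientGroup.out_eq']
  group

theorem exists_embedding {G : Type u} [Group G] (N : Subgroup G) [N.Normal] {D : Type u} [Group D]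
    (f : ↥N →* D) (hf : Function.Injective f) :
    ∃ F : G →* RegularWreathProduct D (G ⧸ N), Function.Injective F := by
  refine ⟨MonoidHom.mk' (fun g => ⟨fun x => f ⟨_, kk_mem N x g⟩, (g : G ⧸ N)⟩) ?_, ?_⟩
  · intro g h
    apply RegularWreathProduct.ext
    · funext x
      simp only [RegularWreathProduct.mul_left, Pi.mul_apply]
      rw [← map_mul]
      congr 1
      apply Subtype.ext
      simp only [Subgroup.coe_mul, QuotientGroup.mk_mul, mul_inv_rev, mul_assoc]
      simp
    · rfl
  · intro g h hgh
    have h1 : (g : G ⧸ N) = (h : G ⧸ N) := congrArg RegularWreathProduct.right hgh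
    have h2 := congrFun (congrArg RegularWreathProduct.left hgh) 1
    simp only [MonoidHom.mk'_apply] at h2
    have h3 := congrArg Subtype.val (hf h2)
    simp only [h1] at h3
    simpa using h3

end Cfsg.Agent.Lib.Helper16.Dade
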