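import Mathlib
import Cfsg.Prelude.Def_Characters
import Cfsg.Agent.S0188
import Cfsg.Agent.Lib.Helper5.Clifford
import Cfsg.Agent.Lib.Helper82.LinCount

/-!
# Irreducible characters of a direct power are products (rung PI, DADE ladder)
-/

set_option autoImplicit false

namespace Cfsg.Agent.Lib.Helper16.Dade

open Cfsg

/-- Reindexing a direct power. -/
def reidx {α β : Type*} (D : Type*) [Group D] (e : α ≃ β) : (α → D) ≃* (β → D) where
  toFun x := x ∘ e.symm
  invFun y := y ∘ e
  left_inv x := by funext i; simp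
  right_inv y := by funext i; simp
  map_mul' _ _ := rfl

/-- Splitting off the `none` coordinate. -/
def optSplit (α : Type*) (D : Type*) [Group D] : (D × (α → D)) ≃* (Option α → D) where
  toFun p := fun o => Option.elim o p.1 p.2
  invFun x := (x none, fun a => x (some a))
  left_inv p := rfl
  right_inv x := by funext o; cases o <;> rfl
  map_mul' p q := by funext o; cases o <;> rfl

theorem irr_pi_aux (D : Type*) [Group D] [Finite D] (ι : Type*) [Finite ι] :
    ∀ (_ : Fintype ι) (θ : (ι → D) → ℂ), IsIrrCharacter (ι → D) θ →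
      ∃ φ : ι → D → ℂ, (∀ i, IsIrrCharacter D (φ i)) ∧ ∀ x, θ x = ∏ i, φ i (x i) := by
  refine Finite.induction_empty_option
    (P := fun ι => ∀ (_ : Fintype ι) (θ : (ι → D) → ℂ), IsIrrCharacter (ι → D) θ →
      ∃ φ : ι → D → ℂ, (∀ i, IsIrrCharacter D (φ i)) ∧ ∀ x, θ x = ∏ i, φ i (x i)) ?_ ?_ ?_ ι
  · intro α β e ih instβ θ hθ
    have instα : Fintype α := Fintype.ofEquiv β e.symm
    obtain ⟨φ, hφ, hprod⟩ := ih instα (θ ∘ reidx D e)
      (Cfsg.Agent.Lib.Helper5.isIrrCharacter_comp_equiv (reidx D e) hθ)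
    refine ⟨fun j => φ (e.symm j), fun j => hφ _, fun y => ?_⟩
    have h1 := hprod (y ∘ e)
    have h2 : (θ ∘ reidx D e) (y ∘ e) = θ y := by
      show θ ((y ∘ e) ∘ e.symm) = θ y
      congr 1
      funext j
      simp
    rw [h2] at h1
    rw [h1]
    rw [← Equiv.prod_comp e (fun j => φ (e.symm j) (y j))]
    apply Finset.prod_congr rfl
    intro i _
    simp
  · intro inst θ hθ
    refine ⟨fun i => i.elim, fun i => i.elim, fun x => ?_⟩
    have hx : x = 1 := Subsingleton.elim _ _
    rw [hx, Cfsg.Agent.Lib.Helper82.isIrr_one_eq_one_of_comm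
      (fun a b => Subsingleton.elim _ _) hθ]
    simp
  · intro α instα ih inst θ hθ
    obtain rfl : inst = instFintypeOption := Subsingleton.elim _ _
    have h1 := Cfsg.Agent.Lib.Helper5.isIrrCharacter_comp_equiv (optSplit α D) hθ
    obtain ⟨φ0, ψ, hφ0, hψ, heq⟩ := (Cfsg.Agent.S0188.result _).1 h1
    obtain ⟨φ, hφ, hprod⟩ := ih instα ψ hψ
    refine ⟨fun o => Option.elim o φ0 φ, ?_, fun x => ?_⟩
    · intro o
      cases o with
      | none => exact hφ0
      | some a => exact hφ a
    · rw [Fintype.prod_option]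
      have h2 := congrFun heq (x none, fun a => x (some a))
      have h3 : (θ ∘ optSplit α D) (x none, fun a => x (some a)) = θ x := by
        show θ (optSplit α D ((optSplit α D).symm x)) = θ x
        rw [MulEquiv.apply_symm_apply]
      rw [h3] at h2
      rw [h2, hprod]
      rfl

theorem irr_pi {ι : Type*} [Fintype ι] {D : Type*} [Group D] [Finite D] (θ : (ι → D) → ℂ)
    (hθ : IsIrrCharacter (ι → D) θ) :
    ∃ φ : ι → D → ℂ, (∀ i, IsIrrCharacter D (φ i)) ∧ ∀ x, θ x = ∏ i, φ i (x i) :=
  irr_pi_aux D ι _ θ hθ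

end Cfsg.Agent.Lib.Helper16.Dade
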