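import Cfsg.Agent.Lib.Helper39.BG11Defs
import Cfsg.Agent.S1410
import Cfsg.Agent.Lib.Helper31.PLength

/-!
B-G S1417 ladder, rung 11: `M ≤ N(M_σ A)` (B-G 12.5(c)).
-/

set_option autoImplicit false

namespace Cfsg.Agent.Lib.Helper16.BG11

open Subgroup Cfsg.Agent.Lib.Helper30 Cfsg.Agent.Lib.Helper39.BG11

universe u
variable {G : Type u} [Group G] [Finite G] {M A A₀ : Subgroup G} {p : ℕ} [Fact p.Prime]

theorem le_normalizer_sup_of {X Y N : Subgroup G} (hX : N ≤ normalizer (X : Set G))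
    (hY : N ≤ normalizer (Y : Set G)) : N ≤ normalizer ((X ⊔ Y : Subgroup G) : Set G) := by
  intro g hg
  apply Cfsg.Agent.Lib.Helper28.BG12.mem_normalizer_of_cj_le'
  rw [cj_sup, cj_eq_of_mem_normalizer (hX hg), cj_eq_of_mem_normalizer (hY hg)]

theorem le_of_forall_sylow {K N : Subgroup G}
    (h : ∀ (r : ℕ) [Fact r.Prime], ∃ T, IsSylowIn r T K ∧ T ≤ N) : K ≤ N := by
  have h1 : (K ⊓ N).relIndex K = 1 := by
    by_contra hne
    obtain ⟨r, hr, hdvd⟩ := Nat.exists_prime_and_dvd hne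
    haveI : Fact r.Prime := ⟨hr⟩
    obtain ⟨T, hT, hTN⟩ := h r
    have := relIndex_mul_relIndex T (K ⊓ N) K (le_inf hT.le hTN) inf_le_left
    exact hT.not_dvd (this ▸ Dvd.dvd.mul_left hdvd _)
  have h2 : K ≤ K ⊓ N := relIndex_eq_one.1 h1
  exact h2.trans inf_le_right

theorem sC (hG : Cfsg.IsMinSimpleOddOrder G) (h11 : T11 G) (h10 : S10 G) : SC G := by
  intro M p _ A A₀ h
  have res := h11 M p A A₀ h
  have hMtop : M ≠ ⊤ := h.max.1
  have hAp : IsPGroup p A := IsPGroup.of_card h.card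
  obtain ⟨P, hP, hAP⟩ := exists_isSylowIn_ge h.le hAp
  obtain ⟨S, hS⟩ := hP.exists_sylow
  have hpl := Cfsg.Agent.S1410.result hG p M hMtop
  have hst := (Cfsg.Agent.Lib.Helper31.plength_one_structure hpl S).2
  have hMs := Cfsg.Agent.Lib.Helper28.BG12.le_normalizer_sigmaCore M
  have hPC : P ≤ centralizer (A : Set G) := by
    intro x hx
    rw [mem_centralizer_iff]
    intro y hy
    exact res.comm P hP y (hAP hy) x hx
  have hM : M = Cfsg.Agent.Lib.Helper28.opPrimeIn p M ⊔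
      (normalizer ((S : Subgroup M) : Set M)).map M.subtype := by
    unfold Cfsg.Agent.Lib.Helper28.opPrimeIn
    rw [← Subgroup.map_sup, hst, ← MonoidHom.range_eq_map, Subgroup.range_subtype]
  have hN : (normalizer ((S : Subgroup M) : Set M)).map M.subtype ≤
      normalizer ((Cfsg.sigmaCore M ⊔ A : Subgroup G) : Set G) := by
    apply le_normalizer_sup_of
    · exact (map_subtype_le _).trans hMs
    · rintro _ ⟨n, hn, rfl⟩
      apply Cfsg.Agent.Lib.Helper28.BG12.mem_normalizer_of_cj_le'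
      rintro _ ⟨a, ha, rfl⟩
      have haP : a ∈ P := hAP ha
      have hconj : (n : G) * a * (n : G)⁻¹ ∈ P := by
        rw [← hS] at haP ⊢
        obtain ⟨a', ha', rfl⟩ := haP
        exact ⟨n * a' * n⁻¹, (mem_normalizer_iff.1 hn a').1 ha', by simp⟩
      have hpow : ((n : G) * a * (n : G)⁻¹) ^ p = 1 := by
        rw [conj_pow, (res.omega a (hPC haP)).2 ha]; simp
      exact (res.omega _ (hPC hconj)).1 hpow
  have hK : Cfsg.Agent.Lib.Helper28.opPrimeIn p M ≤
      normalizer ((Cfsg.sigmaCore M ⊔ A : Subgroup G) : Set G) := by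
    apply le_of_forall_sylow
    intro r _
    have hKM := Cfsg.Agent.Lib.Helper28.opPrimeIn_le p M
    obtain ⟨T, hT, hAT⟩ := exists_invariant_isSylowIn (A := A)
      (K := Cfsg.Agent.Lib.Helper28.opPrimeIn p M)
      (h.le.trans (Cfsg.Agent.Lib.Helper28.le_normalizer_opPrimeIn p M))
      (by rw [h.card]; exact Nat.Coprime.pow_left 2 (Cfsg.Agent.Lib.Helper28.opPrimeIn_coprime p M).symm)
      (Or.inr (solvable_of_ne_top hG (ne_top_of_le_ne_top hMtop hKM))) r
    refine ⟨T, hT, ?_⟩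
    by_cases hr : r ∈ Cfsg.sigma M
    · exact ((Cfsg.Agent.Lib.Helper28.BG12.isPGroup_le_sigmaCore hG h.max hr (hT.le.trans hKM)
        hT.isPGroup).trans le_sup_left).trans le_normalizer
    · have hTC := h10 M p A A₀ r T h hr hT hAT
      exact le_normalizer_sup_of ((hT.le.trans hKM).trans hMs)
        (hTC.trans (centralizer_le_normalizer' A))
  calc M = _ := hM
    _ ≤ _ := sup_le hK hN

end Cfsg.Agent.Lib.Helper16.BG11
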