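import Cfsg.Agent.Lib.Helper2.BG139A

/-!
Ladder BG139 (B-G 13.9), rung R3.
-/

set_option autoImplicit false
set_option linter.unusedSectionVars false

namespace Cfsg.Agent.Lib.Helper16.BG139

open Subgroup Cfsg.Agent.Lib.Helper30 Cfsg.Agent.Lib.Helper2 Cfsg.Agent.Lib.Helper2.BG12
  Cfsg.Agent.Lib.Helper68 Cfsg.Agent.Lib.Helper2.BG139

universe u

variable {G : Type u} [Group G]

theorem Cfg.factor [Finite G] (T : Texts G) {q : ℕ} {M N S : Subgroup G} (h : Cfg q M N S) :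
    ∀ m ∈ M, ∃ b ∈ Cfsg.piCoreOf (Cfsg.beta M) M, ∃ d ∈ normalizer (S : Set G), m = b * d := by
  have : Fact q.Prime := ⟨h.prime⟩
  obtain ⟨hβ, H, hH, hHnil⟩ := T.t14 M h.hM
  have hMsM : Cfsg.sigmaCore M ≤ M := (T.t50 M h.hM).1
  have hMnMs : M ≤ normalizer (Cfsg.sigmaCore M : Set G) := le_normalizer_piCoreOf (Cfsg.sigma M) M
  have hMnMb : M ≤ normalizer (Cfsg.piCoreOf (Cfsg.beta M) M : Set G) :=
    le_normalizer_piCoreOf (Cfsg.beta M) M
  have hSs : IsSylowIn q S (Cfsg.sigmaCore M) := isSylowIn_of_top h.hS (h.le_sigmaCore T)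
  have hqβ : q ∉ Cfsg.beta M := fun hq => (h.not_alpha T).2 hq.1
  -- `M_β ≤ M_σ`
  have hMbMs : Cfsg.piCoreOf (Cfsg.beta M) M ≤ Cfsg.sigmaCore M := by
    apply le_piCoreOf (π := Cfsg.sigma M) hβ.1 hMnMb
    intro r hr hrd
    exact mem_sigma_of_mem_alpha T.hG T.hU h.hM (hβ.2.1 r hr hrd).1
  -- a Sylow `q`-subgroup of `H`
  obtain ⟨R'⟩ : Nonempty (Sylow q ↥H) := inferInstance
  have hS1 : IsSylowIn q ((R' : Subgroup ↥H).map H.subtype) H := isSylowIn_of_sylow R'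
  have hn : (R' : Subgroup ↥H).Normal := inferInstance
  have hHN : H ≤ normalizer (((R' : Subgroup ↥H).map H.subtype : Subgroup G) : Set G) :=
    Cfsg.Agent.Lib.Helper28.le_normalizer_map_subtype hn
  have hS1s : IsSylowIn q ((R' : Subgroup ↥H).map H.subtype) (Cfsg.sigmaCore M) := by
    refine ⟨hS1.le.trans hH.1, hS1.isPGroup, ?_⟩
    rw [← relIndex_mul_relIndex _ H _ hS1.le hH.1]
    intro hd
    rcases (Nat.Prime.dvd_mul h.prime).1 hd with h1 | h1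
    · exact hS1.not_dvd h1
    · exact hH.2.2 q h.prime ⟨h.prime, hqβ⟩ h1
  obtain ⟨k, hk, hkS⟩ := hS1s.conj hSs
  have hH1N : cj k H ≤ normalizer (S : Set G) := by
    rw [hkS, normalizer_cj]; exact cj_mono k hHN
  have hH1Ms : cj k H ≤ Cfsg.sigmaCore M := by
    have := cj_mono k hH.1
    rwa [cj_eq_of_mem hk] at this
  have hH1idx : (cj k H).relIndex (Cfsg.sigmaCore M) = H.relIndex (Cfsg.sigmaCore M) := by
    conv_lhs => rw [← cj_eq_of_mem hk]
    exact relIndex_cj k H _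
  -- `M_σ = M_β H₁`
  have hsup : Cfsg.sigmaCore M ≤ Cfsg.piCoreOf (Cfsg.beta M) M ⊔ cj k H := by
    have hle : Cfsg.piCoreOf (Cfsg.beta M) M ⊔ cj k H ≤ Cfsg.sigmaCore M := sup_le hMbMs hH1Ms
    have h1 : (Cfsg.piCoreOf (Cfsg.beta M) M ⊔ cj k H).relIndex (Cfsg.sigmaCore M) = 1 := by
      by_contra hne
      obtain ⟨r, hr, hdvd⟩ := Nat.exists_prime_and_dvd hne
      by_cases hrβ : r ∈ Cfsg.beta M
      · apply hβ.2.2 r hr hrβ
        rw [← relIndex_mul_relIndex _ _ M hMbMs hMsM,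
          ← relIndex_mul_relIndex _ _ (Cfsg.sigmaCore M) le_sup_left hle]
        exact Dvd.dvd.mul_right (Dvd.dvd.mul_left hdvd _) _
      · apply hH.2.2 r hr ⟨hr, hrβ⟩
        rw [← hH1idx, ← relIndex_mul_relIndex _ _ (Cfsg.sigmaCore M) le_sup_right hle]
        exact Dvd.dvd.mul_left hdvd _
    exact relIndex_eq_one.1 h1
  intro m hm
  -- Frattini
  have hcS : IsSylowIn q (cj m S) (Cfsg.sigmaCore M) := by
    have := hSs.cj m
    rwa [cj_eq_of_mem_normalizer (hMnMs hm)] at this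
  obtain ⟨a, ha, haS⟩ := hSs.conj hcS
  have hd : a⁻¹ * m ∈ normalizer (S : Set G) := by
    apply mem_normalizer_of_cj_eq
    rw [cj_mul, haS, cj_inv_cj]
  have ha' : a ∈ Cfsg.piCoreOf (Cfsg.beta M) M ⊔ cj k H := hsup ha
  rw [← SetLike.mem_coe, Subgroup.coe_mul_of_right_le_normalizer_left _ _
    ((hH1Ms.trans hMsM).trans hMnMb), Set.mem_mul] at ha'
  obtain ⟨b, hb, c, hc, hbc⟩ := ha'
  refine ⟨b, hb, c * (a⁻¹ * m), mul_mem (hH1N hc) hd, ?_⟩
  rw [← mul_assoc, hbc]; group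

theorem Cfg.alpha_eq_beta [Finite G] (T : Texts G) {q : ℕ} {M N S : Subgroup G}
    (h : Cfg q M N S) : Cfsg.alpha M = Cfsg.beta M := by
  apply Set.eq_of_subset_of_subset ?_ (fun r hr => hr.1)
  intro r hr
  by_contra hrβ
  have : Fact r.Prime := ⟨hr.1⟩
  obtain ⟨E, hEM, hE, hEc⟩ := exists_elementary_of_not_pRankLE hr.2
  obtain ⟨hβ, -⟩ := T.t14 M h.hM
  obtain ⟨n, hn⟩ := IsPGroup.iff_card.1 (ea_isPGroup hE)
  obtain ⟨g, hgM, hgE⟩ := exists_cj_le (solvable_of_ne_top T.hG h.hM.1) hβ.1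
    (le_normalizer_piCoreOf _ M) (coprime_of_hall hβ) h.hDM (Cfg.factor T h) hEM (by
      rw [hn]
      apply Nat.Coprime.pow_left
      rw [Nat.Prime.coprime_iff_not_dvd hr.1]
      exact fun hd => hrβ (hβ.2.1 r hr.1 hd))
  exact h.not_uniq hgE (uniq_of_ea_cube T.hU h.hM (hgE.trans h.hDM) (ea_cj hE g)
    (by rw [card_cj]; exact hEc))

end Cfsg.Agent.Lib.Helper16.BG139
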