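import Cfsg.Agent.Lib.Helper2.BG139A

/-!
Ladder BG139 (B-G 13.9), rung R8.
-/

set_option autoImplicit false
set_option linter.unusedSectionVars false

namespace Cfsg.Agent.Lib.Helper16.BG139

open Subgroup Cfsg.Agent.Lib.Helper30 Cfsg.Agent.Lib.Helper2 Cfsg.Agent.Lib.Helper2.BG12
  Cfsg.Agent.Lib.Helper68 Cfsg.Agent.Lib.Helper2.BG139

universe u

variable {G : Type u} [Group G]

theorem Cfg2.rank_S [Finite G] (T : Texts G) {q p : ℕ} {M N S P : Subgroup G}
    (h : Cfg2 q p M N S P) :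
    Cfsg.RankLE 1 ↥(Cfsg.alphaCore M ⊓ centralizer (S : Set G)) := by
  by_contra hcon
  have : Fact q.Prime := ⟨h.toCfg.prime⟩
  have hSM : S ≤ M := le_normalizer.trans h.hDM
  have hu := T.t06 M h.hM S hSM (fun r hr hrS => by
    obtain ⟨n, hn⟩ := IsPGroup.iff_card.1 h.hS.isPGroup
    have hrq : r = q := (Nat.prime_dvd_prime_iff_eq hr h.toCfg.prime).1
      (hr.dvd_of_dvd_pow (hn ▸ hrS))
    rw [hrq]; exact (h.toCfg.not_alpha T).2) hcon
  exact h.toCfg.not_uniq (X := M ⊓ centralizer (S : Set G))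
    (inf_le_right.trans (centralizer_le_normalizer' S)) hu

theorem Cfg2.rank_P [Finite G] (T : Texts G) {q p : ℕ} {M N S P : Subgroup G}
    (h : Cfg2 q p M N S P) :
    Cfsg.RankLE 1 ↥(Cfsg.alphaCore M ⊓ centralizer (P : Set G)) := by
  by_contra hcon
  have : Fact p.Prime := ⟨h.hpp⟩
  have hPM : P ≤ M := h.hPD.trans h.hDM
  have hu := T.t06 M h.hM P hPM (fun r hr hrP => by
    rw [h.hP] at hrP
    have hrp : r = p := (Nat.prime_dvd_prime_iff_eq hr h.hpp).1 hrP
    rw [hrp]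
    exact fun hα => h.hpM (mem_sigma_of_mem_alpha T.hG T.hU h.hM hα)) hcon
  have hP1 : P ≠ ⊥ := by
    intro hb
    have := h.hP
    rw [hb, card_bot] at this
    exact h.hpp.one_lt.ne this
  have hPtop : P ≠ ⊤ := fun ht => h.hM.1 (top_le_iff.mp (ht ▸ hPM))
  have hN : normalizer (P : Set G) ≤ M :=
    uniq_le hu h.hM inf_le_left (inf_le_right.trans (centralizer_le_normalizer' P))
      (normalizer_ne_top T.hG hP1 hPtop)
  have h9 := T.t09 M h.hM p h.hpM P h.hP hN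
  exact h.toCfg.tau2_empty T (p := p) ⟨h.hpp, h.hpM, h9.1, h9.2⟩

end Cfsg.Agent.Lib.Helper16.BG139
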