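import Mathlib
import Cfsg.Agent.Lib.Helper73.BSW.Defs

/-!
# Brauer–Suzuki–Wall ladder: rung COMB (pure integer combinatorics)
-/

set_option autoImplicit false

namespace Cfsg.Agent.Lib.Helper16.BSWComb

open Cfsg.Agent.Lib.Helper73.BSW

theorem step {I : Type*} [DecidableEq I] (S : Finset I) (f : I → ℤ) (n : ℤ) (hn : 0 < n)
    (hn3 : n ≤ 3) (h : ∑ χ ∈ S, f χ ^ 2 = n) :
    ∃ a ∈ S, (f a = 1 ∨ f a = -1) ∧ ∑ χ ∈ S.erase a, f χ ^ 2 = n - 1 := by
  have hex : ∃ a ∈ S, f a ≠ 0 := by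
    by_contra hcon
    push Not at hcon
    have h0 : ∑ χ ∈ S, f χ ^ 2 = 0 :=
      Finset.sum_eq_zero (fun χ hχ => by rw [hcon χ hχ]; norm_num)
    omega
  obtain ⟨a, haS, ha⟩ := hex
  have hsplit : f a ^ 2 + ∑ χ ∈ S.erase a, f χ ^ 2 = n := by
    rw [Finset.add_sum_erase S (fun χ => f χ ^ 2) haS]; exact h
  have hnn : 0 ≤ ∑ χ ∈ S.erase a, f χ ^ 2 := Finset.sum_nonneg (fun χ _ => sq_nonneg _)
  have h1 : f a = 1 ∨ f a = -1 := by
    have h3 : f a ^ 2 ≤ 3 := by linarith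
    have hlt : f a < 2 := by nlinarith
    have hgt : -2 < f a := by nlinarith
    omega
  refine ⟨a, haS, h1, ?_⟩
  rcases h1 with h1 | h1 <;> rw [h1] at hsplit <;> linarith

theorem zero_of_sum {I : Type*} (S : Finset I) (f : I → ℤ) (h : ∑ χ ∈ S, f χ ^ 2 = 0) :
    ∀ χ ∈ S, f χ = 0 := by
  intro χ hχ
  have := (Finset.sum_eq_zero_iff_of_nonneg (fun χ _ => sq_nonneg (f χ))).1 h χ hχ
  exact pow_eq_zero_iff (two_ne_zero) |>.1 this

theorem sum3 {I R : Type*} [Fintype I] [DecidableEq I] [AddCommMonoid R] (f : I → R) (a b c : I)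
    (hab : a ≠ b) (hac : a ≠ c) (hbc : b ≠ c) (h : ∀ χ, χ ≠ a → χ ≠ b → χ ≠ c → f χ = 0) :
    ∑ χ, f χ = f a + f b + f c := by
  rw [← Finset.sum_subset (Finset.subset_univ {a, b, c}) (fun χ _ hχ => by
    simp only [Finset.mem_insert, Finset.mem_singleton, not_or] at hχ
    exact h χ hχ.1 hχ.2.1 hχ.2.2)]
  rw [Finset.sum_insert (by simp [hab, hac]), Finset.sum_insert (by simp [hbc]),
    Finset.sum_singleton, add_assoc]

theorem sum4 {I R : Type*} [Fintype I] [DecidableEq I] [AddCommMonoid R] (f : I → R) (a b c e : I)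
    (hab : a ≠ b) (hac : a ≠ c) (hae : a ≠ e) (hbc : b ≠ c) (hbe : b ≠ e) (hce : c ≠ e)
    (h : ∀ χ, χ ≠ a → χ ≠ b → χ ≠ c → χ ≠ e → f χ = 0) :
    ∑ χ, f χ = f a + f b + f c + f e := by
  rw [← Finset.sum_subset (Finset.subset_univ {a, b, c, e}) (fun χ _ hχ => by
    simp only [Finset.mem_insert, Finset.mem_singleton, not_or] at hχ
    exact h χ hχ.1 hχ.2.1 hχ.2.2.1 hχ.2.2.2)]
  rw [Finset.sum_insert (by simp [hab, hac, hae]), Finset.sum_insert (by simp [hbc, hbe]),
    Finset.sum_insert (by simp [hce]), Finset.sum_singleton]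
  simp only [add_assoc]

theorem sum5 {I R : Type*} [Fintype I] [DecidableEq I] [AddCommMonoid R] (f : I → R)
    (a b c e g : I)
    (hab : a ≠ b) (hac : a ≠ c) (hae : a ≠ e) (hag : a ≠ g) (hbc : b ≠ c) (hbe : b ≠ e)
    (hbg : b ≠ g) (hce : c ≠ e) (hcg : c ≠ g) (heg : e ≠ g)
    (h : ∀ χ, χ = a ∨ χ = b ∨ χ = c ∨ χ = e ∨ χ = g) :
    ∑ χ, f χ = f a + f b + f c + f e + f g := by
  have hu : (Finset.univ : Finset I) = {a, b, c, e, g} := by
    ext χ
    simp only [Finset.mem_univ, Finset.mem_insert, Finset.mem_singleton, true_iff]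
    exact h χ
  rw [hu, Finset.sum_insert (by simp [hab, hac, hae, hag]),
    Finset.sum_insert (by simp [hbc, hbe, hbg]),
    Finset.sum_insert (by simp [hce, hcg]), Finset.sum_insert (by simp [heg]),
    Finset.sum_singleton]
  simp only [add_assoc]

variable {I L : Type*} [Fintype I] [Fintype L] [DecidableEq I] [DecidableEq L] {m n : ℤ}
  {bar : L → L} {tau : L} {one : I} {c : L → I → ℤ} {d : I → ℤ} {sg : L → ℤ}

/-- the shape of `c l` for `l ≠ tau`. -/
structure Two (tau : L) (one : I) (c : L → I → ℤ) (l : L) (x b : I) : Prop where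
  x1 : x ≠ one
  b1 : b ≠ one
  xb : x ≠ b
  cx : c l x = c tau x
  sx : c l x = 1 ∨ c l x = -1
  tb : c tau b = 0
  sb : c l b = 1 ∨ c l b = -1
  zero : ∀ χ, χ ≠ one → χ ≠ x → χ ≠ b → c l χ = 0

theorem sq_sum (D : CData m n bar tau one c d sg) (l : L) :
    ∑ χ ∈ Finset.univ.erase one, c l χ ^ 2 = 2 + (if l = bar l then 1 else 0) := by
  have h := D.gram l l
  rw [← Finset.add_sum_erase Finset.univ _ (Finset.mem_univ one), D.c_one l] at h
  simp only [if_true] at h
  have h2 : ∑ χ ∈ Finset.univ.erase one, c l χ ^ 2 = ∑ χ ∈ Finset.univ.erase one, c l χ * c l χ :=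
    Finset.sum_congr rfl (fun χ _ => sq _)
  rw [h2]; linarith

theorem sq_sum_tau (D : CData m n bar tau one c d sg) :
    ∑ χ ∈ Finset.univ.erase one, c tau χ ^ 2 = 3 := by
  rw [sq_sum D tau, if_pos ((D.bar_eq tau).2 rfl).symm]; norm_num

theorem sq_sum_ne (D : CData m n bar tau one c d sg) {l : L} (hl : l ≠ tau) :
    ∑ χ ∈ Finset.univ.erase one, c l χ ^ 2 = 2 := by
  rw [sq_sum D l, if_neg (fun h => hl ((D.bar_eq l).1 h.symm))]; norm_num

theorem tau_bound (D : CData m n bar tau one c d sg) (χ : I) (hχ : χ ≠ one) :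
    c tau χ = 0 ∨ c tau χ = 1 ∨ c tau χ = -1 := by
  have h := sq_sum_tau D
  rw [← Finset.add_sum_erase _ _ (Finset.mem_erase.2 ⟨hχ, Finset.mem_univ χ⟩)] at h
  have hnn : 0 ≤ ∑ χ' ∈ (Finset.univ.erase one).erase χ, c tau χ' ^ 2 :=
    Finset.sum_nonneg (fun χ _ => sq_nonneg _)
  have h3 : c tau χ ^ 2 ≤ 3 := by linarith
  have hlt : c tau χ < 2 := by nlinarith
  have hgt : -2 < c tau χ := by nlinarith
  omega

theorem exists_two (D : CData m n bar tau one c d sg) {l : L} (hl : l ≠ tau) :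
    ∃ x b, Two tau one c l x b := by
  obtain ⟨a, ha, hsa, h1⟩ := step _ (c l) 2 (by norm_num) (by norm_num) (sq_sum_ne D hl)
  obtain ⟨b, hb, hsb, h0⟩ := step _ (c l) (2 - 1) (by norm_num) (by norm_num) h1
  have hz := zero_of_sum _ (c l) (by rw [h0]; norm_num)
  have ha1 : a ≠ one := (Finset.mem_erase.1 ha).1
  have hba : b ≠ a := (Finset.mem_erase.1 hb).1
  have hb1 : b ≠ one := (Finset.mem_erase.1 (Finset.mem_erase.1 hb).2).1
  have hzero : ∀ χ, χ ≠ one → χ ≠ a → χ ≠ b → c l χ = 0 := fun χ h1 h2 h3 =>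
    hz χ (Finset.mem_erase.2 ⟨h3, Finset.mem_erase.2 ⟨h2, Finset.mem_erase.2 ⟨h1, Finset.mem_univ _⟩⟩⟩)
  have hg := D.gram l tau
  rw [if_neg hl, if_neg (by rw [(D.bar_eq tau).2 rfl]; exact hl),
    sum3 _ one a b ha1.symm hb1.symm hba.symm
      (fun χ h1 h2 h3 => by rw [hzero χ h1 h2 h3, zero_mul]), D.c_one, D.c_one] at hg
  have hTa := tau_bound D a ha1
  have hTb := tau_bound D b hb1
  have hcase : (c tau a = c l a ∧ c tau b = 0) ∨ (c tau b = c l b ∧ c tau a = 0) := by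
    rcases hsa with h | h <;> rcases hsb with h' | h' <;> rcases hTa with h2 | h2 | h2 <;>
      rcases hTb with h3 | h3 | h3 <;> rw [h, h', h2, h3] at hg <;> rw [h, h', h2, h3] <;>
      omega
  rcases hcase with ⟨h1, h2⟩ | ⟨h1, h2⟩
  · exact ⟨a, b, ha1, hb1, hba.symm, h1.symm, hsa, h2, hsb, hzero⟩
  · exact ⟨b, a, hb1, ha1, hba, h1.symm, hsb, h2, hsa, fun χ h1 h2 h3 => hzero χ h1 h3 h2⟩

theorem Two.sumR {R : Type*} [CommRing R] {l : L} {x b : I} (h : Two tau one c l x b)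
    (hc1 : c l one = 1) (g : I → R) :
    ∑ χ, (c l χ : R) * g χ = g one + (c l x : R) * g x + (c l b : R) * g b := by
  rw [sum3 _ one x b h.x1.symm h.b1.symm h.xb
    (fun χ h1 h2 h3 => by rw [h.zero χ h1 h2 h3, Int.cast_zero, zero_mul]), hc1, Int.cast_one,
    one_mul]

theorem Two.sumZ {l : L} {x b : I} (h : Two tau one c l x b)
    (hc1 : c l one = 1) (g : I → ℤ) :
    ∑ χ, c l χ * g χ = g one + c l x * g x + c l b * g b := by
  have := h.sumR hc1 g
  simpa using this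

theorem Two.uniq {l : L} {x b : I} (h : Two tau one c l x b) {y : I} (hy1 : y ≠ one)
    (hy : c l y ≠ 0) (hyT : c tau y ≠ 0) : y = x := by
  by_contra hne
  by_cases hyb : y = b
  · rw [hyb] at hyT; exact hyT h.tb
  · exact hy (h.zero y hy1 hne hyb)

theorem Two.uniq_b {l : L} {x b : I} (h : Two tau one c l x b) {y : I} (hy1 : y ≠ one)
    (hy : c l y ≠ 0) (hyT : c tau y = 0) : y = b := by
  by_contra hne
  by_cases hyx : y = x
  · rw [hyx, ← h.cx] at hyT
    rcases h.sx with h1 | h1 <;> rw [h1] at hyT <;> omega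
  · exact hy (h.zero y hy1 hyx hne)

theorem Two.cx_ne {l : L} {x b : I} (h : Two tau one c l x b) : c l x ≠ 0 := by
  rcases h.sx with h1 | h1 <;> rw [h1] <;> norm_num

theorem Two.tx_ne {l : L} {x b : I} (h : Two tau one c l x b) : c tau x ≠ 0 := by
  rw [← h.cx]; exact h.cx_ne

theorem Two.cb_ne {l : L} {x b : I} (h : Two tau one c l x b) : c l b ≠ 0 := by
  rcases h.sb with h1 | h1 <;> rw [h1] <;> norm_num

theorem n_ne_zero (D : CData m n bar tau one c d sg) (hm : 4 ≤ m) : (n : ℚ) ≠ 0 := by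
  intro h0
  have h := D.frel tau
  rw [h0, zero_mul] at h
  have hm' : (m : ℚ) ≠ 0 := by
    have : m ≠ 0 := by omega
    exact_mod_cast this
  have : (m : ℚ) ^ 2 = 0 := by linarith
  exact hm' (pow_eq_zero_iff two_ne_zero |>.1 this)

theorem x_eq (D : CData m n bar tau one c d sg) (hm : 4 ≤ m) {l k : L} {x b x' b' : I}
    (hlT : l ≠ tau) (hkT : k ≠ tau)
    (hl : Two tau one c l x b) (hk : Two tau one c k x' b') : x = x' := by
  by_contra hne
  -- (1)
  have hlx' : c l x' = 0 := by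
    by_contra h0
    exact hne (hl.uniq hk.x1 h0 hk.tx_ne).symm
  have hkx : c k x = 0 := by
    by_contra h0
    exact hne (hk.uniq hl.x1 h0 hl.tx_ne)
  have hlk : l ≠ k := by
    rintro rfl
    exact hk.cx_ne hlx'
  have hlbk : l ≠ bar k := by
    intro h
    rw [h, D.c_bar] at hlx'
    exact hk.cx_ne hlx'
  have hblk : bar l ≠ k := by
    intro h
    rw [← h, D.c_bar] at hkx
    exact hl.cx_ne hkx
  have hbl : bar l ≠ l := fun h => hlT ((D.bar_eq l).1 h)
  have hbk : bar k ≠ k := fun h => hkT ((D.bar_eq k).1 h)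
  have hblT : bar l ≠ tau := by
    intro h
    have := D.bar_bar l
    rw [h, (D.bar_eq tau).2 rfl] at this
    exact hlT this.symm
  have hbkT : bar k ≠ tau := by
    intro h
    have := D.bar_bar k
    rw [h, (D.bar_eq tau).2 rfl] at this
    exact hkT this.symm
  have hblbk : bar l ≠ bar k := by
    intro h
    have := congrArg bar h
    rw [D.bar_bar, D.bar_bar] at this
    exact hlk this
  -- (2)
  have hg := D.gram l k
  rw [if_neg hlk, if_neg hlbk, hl.sumZ (D.c_one l), D.c_one, hkx] at hg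
  have hprod : c l b * c k b = 1 := by linarith
  have hkb : c k b ≠ 0 := by
    intro h0; rw [h0] at hprod; omega
  have hbb : b = b' := hk.uniq_b hl.b1 hkb hl.tb
  subst hbb
  have hβ : c k b = c l b := by
    rcases hl.sb with h | h <;> rcases hk.sb with h' | h' <;> rw [h, h'] at hprod <;>
      rw [h, h'] <;> omega
  -- (3)
  have hdl := D.deg l
  have hdk := D.deg k
  rw [hl.sumZ (D.c_one l), D.d_one] at hdl
  rw [hk.sumZ (D.c_one k), D.d_one, hβ] at hdk
  have hsd : c l x * d x = c k x' * d x' := by linarith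
  have hdx := D.d_pos x
  have hdx' := D.d_pos x'
  have hs : c k x' = c l x ∧ d x' = d x := by
    rcases hl.sx with h | h <;> rcases hk.sx with h' | h' <;> rw [h, h'] at hsd <;>
      rw [h, h'] <;> constructor <;> omega
  obtain ⟨hs, hd0⟩ := hs
  -- (4)
  have hT : (∑ j, c j x * sg j) ^ 2 = (∑ j, c j x' * sg j) ^ 2 := by
    have hfl := D.frel l
    have hfk := D.frel k
    simp only [mul_div_assoc] at hfl hfk
    rw [hl.sumR (D.c_one l)] at hfl
    rw [hk.sumR (D.c_one k), hβ, hs, hd0] at hfk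
    have hn := n_ne_zero D hm
    have h1 := mul_left_cancel₀ hn (hfl.trans hfk.symm)
    have hdq : (d x : ℚ) ≠ 0 := by
      have : d x ≠ 0 := by omega
      exact_mod_cast this
    have hsq : ((c l x : ℤ) : ℚ) ≠ 0 := by exact_mod_cast hl.cx_ne
    have h2 : ((c l x : ℤ) : ℚ) * (((∑ j, c j x * sg j : ℤ) : ℚ) ^ 2 / (d x : ℚ))
        = ((c l x : ℤ) : ℚ) * (((∑ j, c j x' * sg j : ℤ) : ℚ) ^ 2 / (d x : ℚ)) := by linarith
    have h3 := mul_left_cancel₀ hsq h2
    have h4 : ((∑ j, c j x * sg j : ℤ) : ℚ) ^ 2 = ((∑ j, c j x' * sg j : ℤ) : ℚ) ^ 2 := by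
      field_simp at h3
      exact h3
    exact_mod_cast h4
  -- (5)
  have hall : ∀ j, j = tau ∨ j = l ∨ j = bar l ∨ j = k ∨ j = bar k := by
    intro j
    by_contra hj
    push Not at hj
    obtain ⟨hjT, hjl, hjbl, hjk, hjbk⟩ := hj
    obtain ⟨y, e, hjj⟩ := exists_two D hjT
    have hg1 := D.gram l j
    have hg2 := D.gram k j
    have hlbj : l ≠ bar j := by
      intro h
      have := congrArg bar h
      rw [D.bar_bar] at this
      exact hjbl this.symm
    have hkbj : k ≠ bar j := by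
      intro h
      have := congrArg bar h
      rw [D.bar_bar] at this
      exact hjbk this.symm
    rw [if_neg (Ne.symm hjl), if_neg hlbj, hl.sumZ (D.c_one l), D.c_one] at hg1
    rw [if_neg (Ne.symm hjk), if_neg hkbj, hk.sumZ (D.c_one k), D.c_one, hβ, hs] at hg2
    have hxx : c j x = c j x' := by
      have : c l x * c j x = c l x * c j x' := by linarith
      exact mul_left_cancel₀ hl.cx_ne this
    have hjx : c j x = 0 := by
      by_contra h0
      have e1 := hjj.uniq hl.x1 h0 hl.tx_ne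
      have e2 := hjj.uniq hk.x1 (hxx ▸ h0) hk.tx_ne
      exact hne (e1.trans e2.symm)
    have hjx' : c j x' = 0 := hxx ▸ hjx
    rw [hjx] at hg1
    have hjb : c l b * c j b = 1 := by linarith
    have hjb0 : c j b ≠ 0 := by
      intro h0; rw [h0] at hjb; omega
    have hbe : b = e := hjj.uniq_b hl.b1 hjb0 hl.tb
    subst hbe
    have hjβ : c j b = c l b := by
      rcases hl.sb with h | h <;> rcases hjj.sb with h' | h' <;> rw [h, h'] at hjb <;>
        rw [h, h'] <;> omega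
    have hyx : y ≠ x := by
      rintro rfl; exact hjj.cx_ne hjx
    have hyx' : y ≠ x' := by
      rintro rfl; exact hjj.cx_ne hjx'
    have hdj := D.deg j
    rw [hjj.sumZ (D.c_one j), D.d_one, hjβ] at hdj
    -- support of `c tau`
    have h3 := sq_sum_tau D
    rw [← Finset.add_sum_erase _ _ (Finset.mem_erase.2 ⟨hl.x1, Finset.mem_univ x⟩),
      ← Finset.add_sum_erase _ _ (Finset.mem_erase.2 ⟨Ne.symm hne,
        Finset.mem_erase.2 ⟨hk.x1, Finset.mem_univ x'⟩⟩),
      ← Finset.add_sum_erase _ _ (Finset.mem_erase.2 ⟨hyx', Finset.mem_erase.2 ⟨hyx,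
        Finset.mem_erase.2 ⟨hjj.x1, Finset.mem_univ y⟩⟩⟩)] at h3
    have q1 : c tau x ^ 2 = 1 := by
      rw [← hl.cx]; rcases hl.sx with h | h <;> rw [h] <;> norm_num
    have q2 : c tau x' ^ 2 = 1 := by
      rw [← hk.cx]; rcases hk.sx with h | h <;> rw [h] <;> norm_num
    have q3 : c tau y ^ 2 = 1 := by
      rw [← hjj.cx]; rcases hjj.sx with h | h <;> rw [h] <;> norm_num
    rw [q1, q2, q3] at h3
    have hz := zero_of_sum _ (c tau) (by linarith)
    have hdT := D.deg tau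
    rw [sum4 _ one x x' y hl.x1.symm hk.x1.symm hjj.x1.symm hne hyx.symm hyx'.symm
      (fun χ h1 h2 h3 h4 => by
        rw [hz χ (Finset.mem_erase.2 ⟨h4, Finset.mem_erase.2 ⟨h3, Finset.mem_erase.2 ⟨h2,
          Finset.mem_erase.2 ⟨h1, Finset.mem_univ _⟩⟩⟩⟩), zero_mul]),
      D.c_one, D.d_one, ← hl.cx, ← hk.cx, ← hjj.cx, hs, hd0] at hdT
    have h13 : 1 + 3 * (c l x * d x) = 0 := by linarith
    omega
  -- (6)
  have hTx : ∑ j, c j x * sg j = c l x * sg tau + 2 * (c l x * sg l) := by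
    rw [sum5 _ tau l (bar l) k (bar k) hlT.symm hblT.symm hkT.symm hbkT.symm hbl.symm hlk hlbk
      hblk hblbk hbk.symm hall, D.c_bar, D.c_bar, hkx, ← hl.cx, D.sg_bar]
    ring
  have hTx' : ∑ j, c j x' * sg j = c l x * sg tau + 2 * (c l x * sg k) := by
    rw [sum5 _ tau l (bar l) k (bar k) hlT.symm hblT.symm hkT.symm hbkT.symm hbl.symm hlk hlbk
      hblk hblbk hbk.symm hall, D.c_bar, D.c_bar, hlx', ← hk.cx, hs, D.sg_bar k]
    ring
  have hsum := D.sg_sum
  rw [sum5 _ tau l (bar l) k (bar k) hlT.symm hblT.symm hkT.symm hbkT.symm hbl.symm hlk hlbk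
      hblk hblbk hbk.symm hall, D.sg_bar, D.sg_bar] at hsum
  rw [hTx, hTx'] at hT
  rcases hl.sx with h | h <;> rcases D.sg_sq tau with h1 | h1 <;> rcases D.sg_sq l with h2 | h2 <;>
    rcases D.sg_sq k with h3 | h3 <;> rw [h1, h2, h3] at hsum <;> rw [h, h1, h2, h3] at hT <;>
    omega

end Cfsg.Agent.Lib.Helper16.BSWComb

namespace Cfsg.Agent.Lib.Helper16

open Cfsg.Agent.Lib.Helper73.BSW Cfsg.Agent.Lib.Helper16.BSWComb

variable {I L : Type*} [Fintype I] [Fintype L] [DecidableEq I] [DecidableEq L] {m n : ℤ}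
  {bar : L → L} {tau : L} {one : I} {c : L → I → ℤ} {d : I → ℤ} {sg : L → ℤ}

theorem comb (D : CData m n bar tau one c d sg) (hm : 4 ≤ m) :
    ∃ (X : I) (δ : ℤ), X ≠ one ∧ (δ = 1 ∨ δ = -1) ∧ ∀ l, c l X = δ := by
  have hex : ∃ l : L, l ≠ tau := by
    by_contra hcon
    push Not at hcon
    have hsub : Subsingleton L := ⟨fun a b => (hcon a).trans (hcon b).symm⟩
    have hle : Fintype.card L ≤ 1 := Fintype.card_le_one_iff_subsingleton.2 hsub
    have := D.cardL
    omega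
  obtain ⟨l, hl⟩ := hex
  obtain ⟨x, b, hlx⟩ := exists_two D hl
  refine ⟨x, c tau x, hlx.x1, ?_, ?_⟩
  · rw [← hlx.cx]; exact hlx.sx
  · intro k
    by_cases hk : k = tau
    · rw [hk]
    · obtain ⟨x', b', hkx⟩ := exists_two D hk
      have := x_eq D hm hl hk hlx hkx
      subst this
      exact hkx.cx

end Cfsg.Agent.Lib.Helper16
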