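import Mathlib
import Cfsg.Agent.Lib.Helper73.BSW.Defs
import Cfsg.Agent.Lib.Helper16.BSWComb

/-!
# Brauer–Suzuki–Wall ladder: rung ARITH
-/

set_option autoImplicit false

namespace Cfsg.Agent.Lib.Helper16.BSWArith

open Cfsg.Agent.Lib.Helper73.BSW Cfsg.Agent.Lib.Helper16.BSWComb

theorem sum2 {I R : Type*} [Fintype I] [DecidableEq I] [AddCommMonoid R] (f : I → R) (a b : I)
    (hab : a ≠ b) (h : ∀ χ, χ ≠ a → χ ≠ b → f χ = 0) :
    ∑ χ, f χ = f a + f b := by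
  rw [← Finset.sum_subset (Finset.subset_univ {a, b}) (fun χ _ hχ => by
    simp only [Finset.mem_insert, Finset.mem_singleton, not_or] at hχ
    exact h χ hχ.1 hχ.2)]
  rw [Finset.sum_insert (by simp [hab]), Finset.sum_singleton]

theorem sum1 {I R : Type*} [Fintype I] [DecidableEq I] [AddCommMonoid R] (f : I → R) (a : I)
    (h : ∀ χ, χ ≠ a → f χ = 0) :
    ∑ χ, f χ = f a :=
  Finset.sum_eq_single a (fun χ _ hχ => h χ hχ) (fun h => absurd (Finset.mem_univ a) h)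

variable {I L : Type*} [Fintype I] [Fintype L] [DecidableEq I] [DecidableEq L] {m n : ℤ}
  {bar : L → L} {tau : L} {one : I} {c : L → I → ℤ} {d : I → ℤ} {sg : L → ℤ}

theorem gramS (D : CData m n bar tau one c d sg) {X : I} {δ : ℤ} (hX : X ≠ one)
    (hδ : δ = 1 ∨ δ = -1) (hc : ∀ l, c l X = δ) (l k : L) :
    ∑ χ ∈ (Finset.univ.erase one).erase X, c l χ * c k χ
      = (if l = k then 1 else 0) + (if l = bar k then 1 else 0) := by
  have h := D.gram l k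
  rw [← Finset.add_sum_erase Finset.univ _ (Finset.mem_univ one),
    ← Finset.add_sum_erase _ _ (Finset.mem_erase.2 ⟨hX, Finset.mem_univ X⟩),
    D.c_one, D.c_one, hc, hc] at h
  have h1 : δ * δ = 1 := by rcases hδ with h | h <;> rw [h] <;> norm_num
  linarith

theorem memS {one X χ : I} (h1 : χ ≠ one) (h2 : χ ≠ X) :
    χ ∈ (Finset.univ.erase one).erase X :=
  Finset.mem_erase.2 ⟨h2, Finset.mem_erase.2 ⟨h1, Finset.mem_univ _⟩⟩

theorem bar_ne (D : CData m n bar tau one c d sg) {l : L} (hl : l ≠ tau) : l ≠ bar l :=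
  fun h => hl ((D.bar_eq l).1 h.symm)

/-- the shape of `c l` for `l ≠ tau`. -/
structure Th (one X : I) (δ : ℤ) (bar : L → L) (c : L → I → ℤ) (d : I → ℤ) (l : L) (θ : I) :
    Prop where
  n1 : θ ≠ one
  nX : θ ≠ X
  val : c l θ = -δ
  deg : d θ = d X + δ
  zero : ∀ χ, χ ≠ one → χ ≠ X → χ ≠ θ → c l χ = 0
  orth : ∀ k, k ≠ l → k ≠ bar l → c k θ = 0

theorem exists_th (D : CData m n bar tau one c d sg) {X : I} {δ : ℤ} (hX : X ≠ one)
    (hδ : δ = 1 ∨ δ = -1) (hc : ∀ l, c l X = δ) {l : L} (hl : l ≠ tau) :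
    ∃ θ, Th one X δ bar c d l θ := by
  have h1 : ∑ χ ∈ (Finset.univ.erase one).erase X, c l χ ^ 2 = 1 := by
    have h := gramS D hX hδ hc l l
    rw [if_pos rfl, if_neg (bar_ne D hl)] at h
    rw [← add_zero (1 : ℤ), ← h]
    exact Finset.sum_congr rfl (fun χ _ => sq _)
  obtain ⟨θ, hθ, hs, h0⟩ := step _ (c l) 1 (by norm_num) (by norm_num) h1
  have hz := zero_of_sum _ (c l) (by rw [h0]; norm_num)
  have hθX : θ ≠ X := (Finset.mem_erase.1 hθ).1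
  have hθ1 : θ ≠ one := (Finset.mem_erase.1 (Finset.mem_erase.1 hθ).2).1
  have hzero : ∀ χ, χ ≠ one → χ ≠ X → χ ≠ θ → c l χ = 0 := fun χ h1 h2 h3 =>
    hz χ (Finset.mem_erase.2 ⟨h3, memS h1 h2⟩)
  have hdeg := D.deg l
  rw [sum3 _ one X θ hX.symm hθ1.symm hθX.symm
    (fun χ h1 h2 h3 => by rw [hzero χ h1 h2 h3, zero_mul]), D.c_one, D.d_one, hc] at hdeg
  have hdθ := D.d_pos θ
  have hdX := D.d_pos X
  have hv : c l θ = -δ ∧ d θ = d X + δ := by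
    rcases hs with h | h <;> rcases hδ with h' | h' <;> rw [h, h'] at hdeg <;> rw [h, h'] <;>
      constructor <;> omega
  refine ⟨θ, hθ1, hθX, hv.1, hv.2, hzero, ?_⟩
  intro k hkl hkbl
  have h := gramS D hX hδ hc l k
  have hlbk : l ≠ bar k := by
    intro h
    have := congrArg bar h
    rw [D.bar_bar] at this
    exact hkbl this.symm
  rw [if_neg (Ne.symm hkl), if_neg hlbk, Finset.sum_eq_single θ
    (fun χ hχ hne => by
      rw [hzero χ (Finset.mem_erase.1 (Finset.mem_erase.1 hχ).2).1 (Finset.mem_erase.1 hχ).1 hne,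
        zero_mul])
    (fun h => absurd hθ h)] at h
  have hne : c l θ ≠ 0 := by rcases hs with h | h <;> rw [h] <;> norm_num
  rcases (by simpa using h : c l θ = 0 ∨ c k θ = 0) with h | h
  · exact absurd h hne
  · exact h

theorem T_one (D : CData m n bar tau one c d sg) : ∑ k, c k one * sg k = -1 := by
  simp only [D.c_one, one_mul, D.sg_sum]

theorem T_X (D : CData m n bar tau one c d sg) {X : I} {δ : ℤ} (hc : ∀ l, c l X = δ) :
    ∑ k, c k X * sg k = -δ := by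
  simp only [hc]
  rw [← Finset.mul_sum, D.sg_sum]; ring

theorem Th.T (D : CData m n bar tau one c d sg) {X : I} {δ : ℤ} {l : L} {θ : I}
    (h : Th one X δ bar c d l θ) (hl : l ≠ tau) : ∑ k, c k θ * sg k = -2 * δ * sg l := by
  rw [sum2 _ l (bar l) (bar_ne D hl) (fun k h1 h2 => by rw [h.orth k h1 h2, zero_mul]),
    D.c_bar, D.sg_bar, h.val]
  ring

theorem Th.sumc (D : CData m n bar tau one c d sg) {X : I} {δ : ℤ} {l : L} {θ : I}
    (h : Th one X δ bar c d l θ) (hl : l ≠ tau) : ∑ k, c k θ = -2 * δ := by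
  rw [sum2 _ l (bar l) (bar_ne D hl) (fun k h1 h2 => h.orth k h1 h2), D.c_bar, h.val]
  ring

theorem Th.sumsq (D : CData m n bar tau one c d sg) {X : I} {δ : ℤ} {l : L} {θ : I}
    (hδ : δ = 1 ∨ δ = -1)
    (h : Th one X δ bar c d l θ) (hl : l ≠ tau) : ∑ k, c k θ ^ 2 = 2 := by
  rw [sum2 _ l (bar l) (bar_ne D hl) (fun k h1 h2 => by rw [h.orth k h1 h2]; norm_num),
    D.c_bar, h.val]
  rcases hδ with h | h <;> rw [h] <;> norm_num

theorem sg_sq' (D : CData m n bar tau one c d sg) (l : L) : sg l ^ 2 = 1 := by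
  rcases D.sg_sq l with h | h <;> rw [h] <;> norm_num

/-- the relation `frel l` for `l ≠ tau`. -/
theorem Th.frel (D : CData m n bar tau one c d sg) {X : I} {δ : ℤ} {l : L} {θ : I}
    (hX : X ≠ one) (hδ : δ = 1 ∨ δ = -1) (hc : ∀ l, c l X = δ)
    (h : Th one X δ bar c d l θ) (hl : l ≠ tau) :
    (n : ℚ) * (1 + (δ : ℚ) / (d X : ℚ) - 4 * (δ : ℚ) / ((d X : ℚ) + (δ : ℚ))) = 2 * (m : ℚ) ^ 2 := by
  have hf := D.frel l
  rw [sum3 _ one X θ hX.symm h.n1.symm h.nX.symm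
    (fun χ h1 h2 h3 => by rw [h.zero χ h1 h2 h3]; simp), T_one D, T_X D hc, h.T D hl,
    D.c_one, D.d_one, hc, h.val, h.deg] at hf
  rw [← hf]
  have hs : ((sg l : ℤ) : ℚ) ^ 2 = 1 := by exact_mod_cast sg_sq' D l
  have hd2 : ((δ : ℤ) : ℚ) ^ 2 = 1 := by
    rcases hδ with h | h <;> rw [h] <;> norm_num
  congr 1
  push_cast
  have e1 : (δ : ℚ) * (-(δ : ℚ)) ^ 2 / (d X : ℚ) = (δ : ℚ) / (d X : ℚ) := by
    rw [neg_sq, hd2, mul_one]
  have e2 : -(δ : ℚ) * (-2 * (δ : ℚ) * (sg l : ℚ)) ^ 2 / ((d X : ℚ) + (δ : ℚ))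
      = - (4 * (δ : ℚ) / ((d X : ℚ) + (δ : ℚ))) := by
    have : -(δ : ℚ) * (-2 * (δ : ℚ) * (sg l : ℚ)) ^ 2 = - (4 * (δ : ℚ)) := by
      have : (-2 * (δ : ℚ) * (sg l : ℚ)) ^ 2 = 4 * ((δ : ℚ) ^ 2 * (sg l : ℚ) ^ 2) := by ring
      rw [this, hs, hd2]; ring
    rw [this, neg_div]
  rw [e1, e2]
  norm_num
  ring

/-- the shape of `c tau`. -/
structure Ps (one X : I) (tau : L) (c : L → I → ℤ) (ψ₁ ψ₂ : I) : Prop where
  n1 : ψ₁ ≠ one
  nX1 : ψ₁ ≠ X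
  n2 : ψ₂ ≠ one
  nX2 : ψ₂ ≠ X
  ne : ψ₁ ≠ ψ₂
  s1 : c tau ψ₁ = 1 ∨ c tau ψ₁ = -1
  s2 : c tau ψ₂ = 1 ∨ c tau ψ₂ = -1
  zero : ∀ χ, χ ≠ one → χ ≠ X → χ ≠ ψ₁ → χ ≠ ψ₂ → c tau χ = 0
  orth1 : ∀ k, k ≠ tau → c k ψ₁ = 0
  orth2 : ∀ k, k ≠ tau → c k ψ₂ = 0

theorem tau_th_zero (D : CData m n bar tau one c d sg) {X : I} {δ : ℤ} {k : L} {θ : I}
    (hk : k ≠ tau)
    (h : Th one X δ bar c d k θ) : c tau θ = 0 :=
  h.orth tau (Ne.symm hk) (by
    intro h'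
    have := congrArg bar h'
    rw [D.bar_bar, (D.bar_eq tau).2 rfl] at this
    exact hk this.symm)

theorem exists_ps (D : CData m n bar tau one c d sg) {X : I} {δ : ℤ} (hX : X ≠ one)
    (hδ : δ = 1 ∨ δ = -1) (hc : ∀ l, c l X = δ) :
    ∃ ψ₁ ψ₂, Ps one X tau c ψ₁ ψ₂ := by
  have h2 : ∑ χ ∈ (Finset.univ.erase one).erase X, c tau χ ^ 2 = 2 := by
    have h := gramS D hX hδ hc tau tau
    rw [if_pos rfl, if_pos ((D.bar_eq tau).2 rfl).symm] at h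
    rw [show (2 : ℤ) = 1 + 1 by norm_num, ← h]
    exact Finset.sum_congr rfl (fun χ _ => sq _)
  obtain ⟨a, ha, hsa, h1⟩ := step _ (c tau) 2 (by norm_num) (by norm_num) h2
  obtain ⟨b, hb, hsb, h0⟩ := step _ (c tau) (2 - 1) (by norm_num) (by norm_num) h1
  have hz := zero_of_sum _ (c tau) (by rw [h0]; norm_num)
  have haX : a ≠ X := (Finset.mem_erase.1 ha).1
  have ha1 : a ≠ one := (Finset.mem_erase.1 (Finset.mem_erase.1 ha).2).1
  have hba : b ≠ a := (Finset.mem_erase.1 hb).1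
  have hbX : b ≠ X := (Finset.mem_erase.1 (Finset.mem_erase.1 hb).2).1
  have hb1 : b ≠ one := (Finset.mem_erase.1 (Finset.mem_erase.1 (Finset.mem_erase.1 hb).2).2).1
  have horth : ∀ ψ, ψ ≠ one → ψ ≠ X → c tau ψ ≠ 0 → ∀ k, k ≠ tau → c k ψ = 0 := by
    intro ψ h1 h2 h3 k hk
    obtain ⟨θ, hθ⟩ := exists_th D hX hδ hc hk
    have h0 := tau_th_zero D hk hθ
    exact hθ.zero ψ h1 h2 (by rintro rfl; exact h3 h0)
  refine ⟨a, b, ha1, haX, hb1, hbX, hba.symm, hsa, hsb, ?_, ?_, ?_⟩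
  · intro χ h1 h2 h3 h4
    exact hz χ (Finset.mem_erase.2 ⟨h4, Finset.mem_erase.2 ⟨h3, memS h1 h2⟩⟩)
  · exact horth a ha1 haX (by rcases hsa with h | h <;> rw [h] <;> norm_num)
  · exact horth b hb1 hbX (by rcases hsb with h | h <;> rw [h] <;> norm_num)

theorem Ps.T1 {X : I} {ψ₁ ψ₂ : I} (h : Ps one X tau c ψ₁ ψ₂) :
    ∑ k, c k ψ₁ * sg k = c tau ψ₁ * sg tau :=
  sum1 _ tau (fun k hk => by rw [h.orth1 k hk, zero_mul])

theorem Ps.T2 {X : I} {ψ₁ ψ₂ : I} (h : Ps one X tau c ψ₁ ψ₂) :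
    ∑ k, c k ψ₂ * sg k = c tau ψ₂ * sg tau :=
  sum1 _ tau (fun k hk => by rw [h.orth2 k hk, zero_mul])

theorem Ps.sumc1 {X : I} {ψ₁ ψ₂ : I} (h : Ps one X tau c ψ₁ ψ₂) :
    ∑ k, c k ψ₁ = c tau ψ₁ :=
  sum1 _ tau (fun k hk => h.orth1 k hk)

theorem Ps.sumc2 {X : I} {ψ₁ ψ₂ : I} (h : Ps one X tau c ψ₁ ψ₂) :
    ∑ k, c k ψ₂ = c tau ψ₂ :=
  sum1 _ tau (fun k hk => h.orth2 k hk)

theorem pm_sq {e : ℤ} (h : e = 1 ∨ e = -1) : e ^ 2 = 1 := by
  rcases h with h | h <;> rw [h] <;> norm_num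

/-- the relation `frel tau`. -/
theorem Ps.frel (D : CData m n bar tau one c d sg) {X : I} {δ : ℤ} {ψ₁ ψ₂ : I}
    (hX : X ≠ one) (hδ : δ = 1 ∨ δ = -1) (hc : ∀ l, c l X = δ)
    (h : Ps one X tau c ψ₁ ψ₂) :
    (n : ℚ) * (1 + (δ : ℚ) / (d X : ℚ) + (c tau ψ₁ : ℚ) / (d ψ₁ : ℚ) + (c tau ψ₂ : ℚ) / (d ψ₂ : ℚ))
      = 2 * (m : ℚ) ^ 2 := by
  have hf := D.frel tau
  rw [sum4 _ one X ψ₁ ψ₂ hX.symm h.n1.symm h.n2.symm h.nX1.symm h.nX2.symm h.ne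
    (fun χ h1 h2 h3 h4 => by rw [h.zero χ h1 h2 h3 h4]; simp), T_one D, T_X D hc, h.T1, h.T2,
    D.c_one, D.d_one, hc] at hf
  rw [← hf]
  have hs : ((sg tau : ℤ) : ℚ) ^ 2 = 1 := by exact_mod_cast sg_sq' D tau
  have hd2 : ((δ : ℤ) : ℚ) ^ 2 = 1 := by exact_mod_cast pm_sq hδ
  have h1 : ((c tau ψ₁ : ℤ) : ℚ) ^ 2 = 1 := by exact_mod_cast pm_sq h.s1
  have h2 : ((c tau ψ₂ : ℤ) : ℚ) ^ 2 = 1 := by exact_mod_cast pm_sq h.s2
  congr 1
  push_cast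
  simp only [neg_sq, mul_pow, hd2, h1, h2, hs]
  norm_num

theorem good_case (d1 d2 u : ℤ) (h1 : d1 + d2 = u) (h2 : (d1 + d2) * u = 4 * d1 * d2) :
    2 * d1 = u ∧ 2 * d2 = u := by
  rw [← h1] at h2
  have h3 : (d1 - d2) ^ 2 = 0 := by linear_combination h2
  have h4 : d1 - d2 = 0 := pow_eq_zero_iff two_ne_zero |>.1 h3
  constructor <;> omega

theorem Ps.vals (D : CData m n bar tau one c d sg) (hm : 4 ≤ m) {X : I} {δ : ℤ} {ψ₁ ψ₂ : I}
    (hX : X ≠ one) (hδ : δ = 1 ∨ δ = -1) (hc : ∀ l, c l X = δ)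
    (h : Ps one X tau c ψ₁ ψ₂) {l : L} {θ : I} (hl : l ≠ tau) (hθ : Th one X δ bar c d l θ) :
    (c tau ψ₁ = -δ ∧ 2 * d ψ₁ = d X + δ) ∧ (c tau ψ₂ = -δ ∧ 2 * d ψ₂ = d X + δ) := by
  have hu : 0 < d X + δ := hθ.deg ▸ D.d_pos θ
  have hd1 := D.d_pos ψ₁
  have hd2 := D.d_pos ψ₂
  have hdeg := D.deg tau
  rw [sum4 _ one X ψ₁ ψ₂ hX.symm h.n1.symm h.n2.symm h.nX1.symm h.nX2.symm h.ne
    (fun χ h1 h2 h3 h4 => by rw [h.zero χ h1 h2 h3 h4, zero_mul]), D.c_one, D.d_one, hc] at hdeg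
  have hn := n_ne_zero D hm
  have e := mul_left_cancel₀ hn ((h.frel D hX hδ hc).trans (hθ.frel D hX hδ hc hl).symm)
  have e' : (c tau ψ₁ : ℚ) / (d ψ₁ : ℚ) + (c tau ψ₂ : ℚ) / (d ψ₂ : ℚ)
      = - (4 * (δ : ℚ) / ((d X : ℚ) + (δ : ℚ))) := by linarith
  have hq1 : (d ψ₁ : ℚ) ≠ 0 := by exact_mod_cast hd1.ne'
  have hq2 : (d ψ₂ : ℚ) ≠ 0 := by exact_mod_cast hd2.ne'
  have hqu : (d X : ℚ) + (δ : ℚ) ≠ 0 := by exact_mod_cast hu.ne'
  have e2 : ((c tau ψ₁ : ℚ) * (d ψ₂ : ℚ) + (c tau ψ₂ : ℚ) * (d ψ₁ : ℚ)) * ((d X : ℚ) + (δ : ℚ))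
      = - (4 * (δ : ℚ) * (d ψ₁ : ℚ) * (d ψ₂ : ℚ)) := by
    field_simp at e'
    linarith
  have E2 : (c tau ψ₁ * d ψ₂ + c tau ψ₂ * d ψ₁) * (d X + δ) = - (4 * δ * d ψ₁ * d ψ₂) := by
    exact_mod_cast e2
  have hpos := mul_pos hd1 hd2
  rcases hδ with hδ | hδ <;> rcases h.s1 with h1 | h1 <;> rcases h.s2 with h2 | h2 <;>
    rw [hδ] at hdeg E2 hu ⊢ <;> rw [h1, h2] at hdeg E2 ⊢
  · exfalso; omega
  · exfalso; nlinarith [sq_nonneg (d X + 1)]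
  · exfalso; nlinarith [sq_nonneg (d X + 1)]
  · have := good_case (d ψ₁) (d ψ₂) (d X + 1) (by linarith) (by linarith)
    exact ⟨⟨rfl, this.1⟩, rfl, this.2⟩
  · have := good_case (d ψ₁) (d ψ₂) (d X + -1) (by linarith) (by linarith)
    exact ⟨⟨by norm_num, this.1⟩, by norm_num, this.2⟩
  · exfalso; nlinarith [sq_nonneg (d X + -1)]
  · exfalso; nlinarith [sq_nonneg (d X + -1)]
  · exfalso; omega

theorem key1 (D : CData m n bar tau one c d sg) {X : I} {δ : ℤ}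
    (hX : X ≠ one) (hδ : δ = 1 ∨ δ = -1) (hc : ∀ l, c l X = δ)
    {l : L} {θ : I} (hl : l ≠ tau) (hθ : Th one X δ bar c d l θ) :
    n * (d X - δ) ^ 2 = 2 * m ^ 2 * d X * (d X + δ) := by
  have hu : 0 < d X + δ := hθ.deg ▸ D.d_pos θ
  have hq := D.d_pos X
  have hf := hθ.frel D hX hδ hc hl
  have hq' : (d X : ℚ) ≠ 0 := by exact_mod_cast hq.ne'
  have hqu : (d X : ℚ) + (δ : ℚ) ≠ 0 := by exact_mod_cast hu.ne'
  have e : (n : ℚ) * ((d X : ℚ) - δ) ^ 2 = 2 * (m : ℚ) ^ 2 * d X * (d X + δ) := by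
    have h1 : (1 + (δ : ℚ) / (d X : ℚ) - 4 * (δ : ℚ) / ((d X : ℚ) + (δ : ℚ)))
        = ((d X : ℚ) - δ) ^ 2 / (d X * (d X + δ)) := by
      field_simp
      ring
    rw [h1] at hf
    field_simp at hf
    linarith
  exact_mod_cast e

end Cfsg.Agent.Lib.Helper16.BSWArith

namespace Cfsg.Agent.Lib.Helper16

open Cfsg.Agent.Lib.Helper73.BSW Cfsg.Agent.Lib.Helper16.BSWComb Cfsg.Agent.Lib.Helper16.BSWArith

variable {I L : Type*} [Fintype I] [Fintype L] [DecidableEq I] [DecidableEq L] {m n : ℤ}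
  {bar : L → L} {tau : L} {one : I} {c : L → I → ℤ} {d : I → ℤ} {sg : L → ℤ}

theorem arith (D : CData m n bar tau one c d sg) (hm : 4 ≤ m) (hn : 0 < n) (X : I) (δ : ℤ)
    (hX : X ≠ one) (hδ : δ = 1 ∨ δ = -1) (hc : ∀ l, c l X = δ) :
    2 * m = d X - δ ∧ 2 * n = d X * (d X + δ) ∧ ∀ χ, χ ≠ one → χ ≠ X →
      (∑ k, c k χ * sg k) ^ 2 * (d X + δ) = -2 * δ * d χ * ∑ k, c k χ := by
  obtain ⟨l, hl⟩ : ∃ l : L, l ≠ tau := by
    by_contra hcon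
    push Not at hcon
    have hsub : Subsingleton L := ⟨fun a b => (hcon a).trans (hcon b).symm⟩
    have hle : Fintype.card L ≤ 1 := Fintype.card_le_one_iff_subsingleton.2 hsub
    have := D.cardL
    omega
  obtain ⟨θ, hθ⟩ := exists_th D hX hδ hc hl
  obtain ⟨ψ₁, ψ₂, hψ⟩ := exists_ps D hX hδ hc
  obtain ⟨⟨v1, w1⟩, v2, w2⟩ := hψ.vals D hm hX hδ hc hl hθ
  have hu : 0 < d X + δ := hθ.deg ▸ D.d_pos θ
  have hq := D.d_pos X
  have hδ2 : δ ^ 2 = 1 := pm_sq hδ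
  have hk1 := key1 D hX hδ hc hl hθ
  have hcls : ∀ χ, χ ≠ one → χ ≠ X →
      (∃ k, k ≠ tau ∧ Th one X δ bar c d k χ) ∨ χ = ψ₁ ∨ χ = ψ₂ ∨ ∀ k, c k χ = 0 := by
    intro χ h1 h2
    by_cases hex : ∃ k, k ≠ tau ∧ c k χ ≠ 0
    · obtain ⟨k, hk, hkχ⟩ := hex
      obtain ⟨θ', hθ'⟩ := exists_th D hX hδ hc hk
      have : χ = θ' := by
        by_contra hne
        exact hkχ (hθ'.zero χ h1 h2 hne)
      subst this
      exact Or.inl ⟨k, hk, hθ'⟩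
    · push Not at hex
      by_cases h3 : χ = ψ₁
      · exact Or.inr (Or.inl h3)
      by_cases h4 : χ = ψ₂
      · exact Or.inr (Or.inr (Or.inl h4))
      refine Or.inr (Or.inr (Or.inr fun k => ?_))
      by_cases hk : k = tau
      · rw [hk]; exact hψ.zero χ h1 h2 h3 h4
      · exact hex k hk
  have hlast : ∀ χ, χ ≠ one → χ ≠ X →
      (∑ k, c k χ * sg k) ^ 2 * (d X + δ) = -2 * δ * d χ * ∑ k, c k χ := by
    intro χ h1 h2
    rcases hcls χ h1 h2 with ⟨k, hk, hθk⟩ | rfl | rfl | h0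
    · rw [hθk.T D hk, hθk.sumc D hk, hθk.deg]
      have e : (-2 * δ * sg k) ^ 2 = 4 * (δ ^ 2 * sg k ^ 2) := by ring
      rw [e, sg_sq' D k, hδ2]
      linear_combination (-4 * (d X + δ)) * hδ2
    · rw [hψ.T1, hψ.sumc1, v1]
      have e : (-δ * sg tau) ^ 2 = δ ^ 2 * sg tau ^ 2 := by ring
      rw [e, sg_sq' D tau, hδ2]
      linear_combination (-1) * w1 + (-2 * d χ) * hδ2
    · rw [hψ.T2, hψ.sumc2, v2]
      have e : (-δ * sg tau) ^ 2 = δ ^ 2 * sg tau ^ 2 := by ring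
      rw [e, sg_sq' D tau, hδ2]
      linear_combination (-1) * w2 + (-2 * d χ) * hδ2
    · simp [h0]
  have hint := D.integ X
  have hsumc : ∑ k, c k X = (m - 1) * δ := by
    simp only [hc]
    rw [Finset.sum_const, Finset.card_univ, nsmul_eq_mul, D.cardL]
  rw [hsumc, T_X D hc] at hint
  have hdvd : 2 * m ∣ d X - δ := by
    have e : d X - δ = (d X + (m - 1) * δ - m * -δ) - 2 * m * δ := by ring
    rw [e]; exact dvd_sub hint (Dvd.intro _ rfl)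
  obtain ⟨b, hb⟩ := hdvd
  have hm0 : 0 < m := by omega
  have hb0 : 0 < b := by
    by_contra hneg
    push Not at hneg
    have h1 : d X - δ ≤ 0 := by rw [hb]; nlinarith
    have h2 : d X - δ = 0 := by rcases hδ with h | h <;> rw [h] at h1 ⊢ <;> omega
    rw [h2] at hk1
    have h3 : 0 < 2 * m ^ 2 * d X * (d X + δ) := by positivity
    rw [← hk1] at h3
    simp at h3
  have h2n : 2 * n * b ^ 2 = d X * (d X + δ) := by
    rw [hb] at hk1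
    have hm2 : (2 * m ^ 2) ≠ 0 := by positivity
    apply mul_left_cancel₀ hm2
    linear_combination hk1
  have hbound : 8 + 8 * d X ^ 2 + (4 * m - 6) * (d X + δ) ^ 2 ≤ 16 * m * n := by
    have hss := D.sumsq
    rw [← Finset.add_sum_erase Finset.univ _ (Finset.mem_univ one),
      ← Finset.add_sum_erase _ _ (Finset.mem_erase.2 ⟨hX, Finset.mem_univ X⟩), D.d_one] at hss
    have hw : ∀ χ ∈ (Finset.univ.erase one).erase X, ∑ k, c k χ ^ 2 ≤ 2 := by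
      intro χ hχ
      have h2 : χ ≠ X := (Finset.mem_erase.1 hχ).1
      have h1 : χ ≠ one := (Finset.mem_erase.1 (Finset.mem_erase.1 hχ).2).1
      rcases hcls χ h1 h2 with ⟨k, hk, hθk⟩ | rfl | rfl | h0
      · exact (hθk.sumsq D hδ hk).le
      · rw [sum1 _ tau (fun k hk => by rw [hψ.orth1 k hk]; norm_num), pm_sq hψ.s1]; norm_num
      · rw [sum1 _ tau (fun k hk => by rw [hψ.orth2 k hk]; norm_num), pm_sq hψ.s2]; norm_num
      · simp [h0]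
    have h1 : ∑ χ ∈ (Finset.univ.erase one).erase X, d χ ^ 2 * ∑ k, c k χ ^ 2
        ≤ ∑ χ ∈ (Finset.univ.erase one).erase X, d χ ^ 2 * 2 :=
      Finset.sum_le_sum (fun χ hχ => mul_le_mul_of_nonneg_left (hw χ hχ) (sq_nonneg _))
    have h2 : ∑ χ ∈ (Finset.univ.erase one).erase X, d χ ^ 2 * ∑ k, c k χ ^ 2
        = ∑ k, ∑ χ ∈ (Finset.univ.erase one).erase X, d χ ^ 2 * c k χ ^ 2 := by
      simp only [Finset.mul_sum]; exact Finset.sum_comm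
    have h3 : ∀ k, k ≠ tau →
        ∑ χ ∈ (Finset.univ.erase one).erase X, d χ ^ 2 * c k χ ^ 2 = (d X + δ) ^ 2 := by
      intro k hk
      obtain ⟨θ', hθ'⟩ := exists_th D hX hδ hc hk
      rw [Finset.sum_eq_single θ' (fun χ hχ hne => by
          rw [hθ'.zero χ (Finset.mem_erase.1 (Finset.mem_erase.1 hχ).2).1
            (Finset.mem_erase.1 hχ).1 hne]; norm_num)
        (fun h => absurd (memS hθ'.n1 hθ'.nX) h), hθ'.val, hθ'.deg, neg_sq, hδ2, mul_one]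
    have h4 : ∑ χ ∈ (Finset.univ.erase one).erase X, d χ ^ 2 * c tau χ ^ 2
        = d ψ₁ ^ 2 + d ψ₂ ^ 2 := by
      rw [← Finset.add_sum_erase _ _ (memS hψ.n1 hψ.nX1),
        ← Finset.add_sum_erase _ _ (Finset.mem_erase.2 ⟨hψ.ne.symm, memS hψ.n2 hψ.nX2⟩),
        Finset.sum_eq_zero (fun χ hχ => by
          have a1 := (Finset.mem_erase.1 hχ).1
          have a2 := (Finset.mem_erase.1 (Finset.mem_erase.1 hχ).2).1
          have a3 := (Finset.mem_erase.1 (Finset.mem_erase.1 (Finset.mem_erase.1 hχ).2).2).1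
          have a4 := (Finset.mem_erase.1 (Finset.mem_erase.1 (Finset.mem_erase.1
            (Finset.mem_erase.1 hχ).2).2).2).1
          rw [hψ.zero χ a4 a3 a2 a1]; norm_num), pm_sq hψ.s1, pm_sq hψ.s2]
      ring
    have h5 : ∑ k, ∑ χ ∈ (Finset.univ.erase one).erase X, d χ ^ 2 * c k χ ^ 2
        = d ψ₁ ^ 2 + d ψ₂ ^ 2 + (m - 2) * (d X + δ) ^ 2 := by
      rw [← Finset.add_sum_erase Finset.univ _ (Finset.mem_univ tau), h4,
        Finset.sum_congr rfl (fun k hk => h3 k (Finset.mem_erase.1 hk).1), Finset.sum_const,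
        Finset.card_erase_of_mem (Finset.mem_univ tau), Finset.card_univ, nsmul_eq_mul]
      have e : ((Fintype.card L - 1 : ℕ) : ℤ) = m - 2 := by have := D.cardL; omega
      rw [e]
    have h6 : 4 * d ψ₁ ^ 2 = (d X + δ) ^ 2 := by rw [← w1]; ring
    have h7 : 4 * d ψ₂ ^ 2 = (d X + δ) ^ 2 := by rw [← w2]; ring
    rw [← Finset.sum_mul, h2, h5] at h1
    nlinarith
  have hb1 : b = 1 := by
    by_contra hne
    have hb2 : 2 ≤ b := by omega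
    have e1 : 16 * m * n * b ^ 2 = 8 * m * (d X * (d X + δ)) := by rw [← h2n]; ring
    have e2 : 4 * (8 + 8 * d X ^ 2 + (4 * m - 6) * (d X + δ) ^ 2) ≤ 16 * m * n * b ^ 2 := by
      have hb4 : 4 ≤ b ^ 2 := by nlinarith
      have hpos : 0 ≤ 8 + 8 * d X ^ 2 + (4 * m - 6) * (d X + δ) ^ 2 :=
        add_nonneg (by positivity) (mul_nonneg (by linarith) (sq_nonneg _))
      calc 4 * (8 + 8 * d X ^ 2 + (4 * m - 6) * (d X + δ) ^ 2)
          ≤ b ^ 2 * (8 + 8 * d X ^ 2 + (4 * m - 6) * (d X + δ) ^ 2) :=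
            mul_le_mul_of_nonneg_right hb4 hpos
        _ ≤ b ^ 2 * (16 * m * n) := mul_le_mul_of_nonneg_left hbound (by positivity)
        _ = 16 * m * n * b ^ 2 := by ring
    rw [e1] at e2
    rcases hδ with h | h <;> rw [h] at e2 hu
    · nlinarith [mul_nonneg (by linarith : (0 : ℤ) ≤ m - 4) (sq_nonneg (d X + 1)),
        mul_pos hm0 hu, sq_nonneg (d X), sq_nonneg (d X + 1)]
    · nlinarith [mul_nonneg hm0.le (mul_nonneg hu.le (by linarith : (0 : ℤ) ≤ d X - 2)),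
        sq_nonneg (d X)]
  subst hb1
  refine ⟨by linarith, by linarith, hlast⟩

end Cfsg.Agent.Lib.Helper16
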