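import Cfsg.Agent.Lib.Helper16.CIFusion
import Cfsg.Agent.Lib.Helper89.ChainStab

set_option autoImplicit false
set_option linter.unusedSectionVars false

/-! Saturated fusion systems over a `p`-group whose centre has index `p ^ 2`: automorphisms of the
abelian subgroups of index `p` which move the centre. -/

namespace Cfsg.Agent.Lib.Helper16.CIFusion

open Cfsg Cfsg.FusionSystem Cfsg.Agent.Lib.Helper87 Cfsg.Agent.Lib.Helper16.CenterIndex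

variable {Ω : Type*} [Group Ω] {S : Subgroup Ω} [Finite S] {p : ℕ} [hp : Fact p.Prime]

/-- The standing hypotheses. -/
structure Setup (p : ℕ) (F : FusionSystem S) (D : Subgroup Ω) : Prop where
  hS : IsPGroup p S
  hF : F.IsSaturated p
  hidx : Nat.card S = p ^ 2 * Nat.card (ZS S)
  hDZ : D ≤ ZS S
  hDc : Nat.card D = p
  hD : ∀ x ∈ S, ∀ y ∈ S, x * y * x⁻¹ * y⁻¹ ∈ D

variable {F : FusionSystem S} {D : Subgroup Ω}

theorem Setup.hc (H : Setup p F D) : ∀ x ∈ S, ∀ y ∈ S, x * y * x⁻¹ * y⁻¹ ∈ ZS S :=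
  fun x hx y hy => H.hDZ (H.hD x hx y hy)

theorem Setup.map_D (H : Setup p F D) {B : Subgroup Ω} {k : Ω → Ω} (hk : Mor F B k) {c : Ω}
    (hc : c ∈ D) (hc1 : c ≠ 1) (hcB : c ∈ B) (hkc : k c ∈ ZS S) : ∀ d ∈ D, k d ∈ ZS S := by
  intro d hd
  obtain ⟨m, rfl⟩ := exists_pow_eq H.hDc hc hc1 hd
  rw [hk.map_pow hcB]
  exact (ZS S).pow_mem hkc m

theorem Setup.mid (H : Setup p F D) {B : Subgroup Ω} (hZB : ZS S ≤ B) {k : Ω → Ω}
    (hk : Iso F B B k) {c : Ω} (hc : c ∈ D) (hkc : k c ∉ ZS S) : ZS S < B ∧ B < S := by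
  have hcZ := H.hDZ hc
  constructor
  · refine lt_of_le_of_ne hZB (fun h => hkc ?_)
    rw [h]
    exact hk.map_mem (hZB hcZ)
  · refine lt_of_le_of_ne hk.le (fun h => hkc ?_)
    subst h
    exact aut_ZS hk hcZ

/-- `Z(S) = {y ∈ Z(S) : k y ∈ Z(S)} ⟨c⟩` for an automorphism `k` moving `c` out of the centre. -/
theorem Setup.decomp (H : Setup p F D) {B : Subgroup Ω} (hZB : ZS S ≤ B) {k : Ω → Ω}
    (hk : Iso F B B k) {c : Ω} (hc : c ∈ D) (hkc : k c ∉ ZS S) :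
    ∀ z ∈ ZS S, ∃ m : ℕ, k (z * c ^ m) ∈ ZS S := by
  obtain ⟨h1, h3⟩ := H.mid hZB hk hc hkc
  have hcB : c ∈ B := hZB (H.hDZ hc)
  have hkcB : k c ∈ B := hk.map_mem hcB
  have hBS := hk.le
  obtain ⟨x, hx, hne⟩ := exists_not_comm' (hBS hkcB) hkc
  have hxB : x ∉ B := by
    intro hxB
    apply hne
    rw [comm_of_mid H.hS H.hidx hZB h3 _ hkcB _ hxB]
    group
  intro z hz
  have hkzB : k z ∈ B := hk.map_mem (hZB hz)
  obtain ⟨m, hm⟩ := exists_pow_eq H.hDc (H.hD _ (hBS hkcB) x hx) hne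
    (D.inv_mem (H.hD _ (hBS hkzB) x hx))
  refine ⟨m, ?_⟩
  have hb : k (z * c ^ m) ∈ B := hk.map_mem (B.mul_mem (hZB hz) (B.pow_mem hcB m))
  refine mem_ZS_of_comm H.hS H.hidx h1 h3 hx hxB hb ?_
  have e1 : k (z * c ^ m) = k z * (k c) ^ m := by
    rw [hk.mor.map_mul (hZB hz) (B.pow_mem hcB m), hk.mor.map_pow hcB]
  have e2 : (k z * (k c) ^ m) * x * (k z * (k c) ^ m)⁻¹ * x⁻¹ = 1 := by
    rw [comm_mul H.hc (hBS hkzB) (S.pow_mem (hBS hkcB) m) hx, comm_pow H.hc (hBS hkcB) hx, hm]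
    group
  rw [e1]
  calc x * (k z * (k c) ^ m)
      = ((k z * (k c) ^ m) * x * (k z * (k c) ^ m)⁻¹ * x⁻¹)⁻¹ * ((k z * (k c) ^ m) * x) := by group
    _ = (k z * (k c) ^ m) * x := by rw [e2]; group

theorem Setup.inv_active (H : Setup p F D) {B : Subgroup Ω} (hZB : ZS S ≤ B) {k h : Ω → Ω}
    (hk : Iso F B B k) (hh : Iso F B B h) (hhk : ∀ x ∈ B, h (k x) = x) {c : Ω} (hc : c ∈ D)
    (hc1 : c ≠ 1) (hkc : k c ∉ ZS S) : h c ∉ ZS S := by
  intro hhc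
  have hcB : c ∈ B := hZB (H.hDZ hc)
  have h1 := (inactive H.hS H.hF H.hD H.hDZ hZB hh (H.map_D hh.mor hc hc1 hcB hhc)).2
  apply hkc
  apply h1 _ (hk.map_mem hcB)
  rw [hhk c hcB]
  exact H.hDZ hc

theorem Setup.iso_conj (H : Setup p F D) {B : Subgroup Ω} (hZB : ZS S ≤ B) (hBS : B ≤ S) {g : Ω}
    (hg : g ∈ S) : Iso F B B (fun y => g * y * g⁻¹) := by
  have : Finite B := Helper87.finite_of_le hBS
  exact (mor_conj F hBS hg).iso_self (fun y hy => conj_mem_of_D H.hD (H.hDZ.trans hZB) hBS hg hy)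

theorem conj_ZS {g z : Ω} (hg : g ∈ S) (hz : z ∈ ZS S) : g * z * g⁻¹ = z := by
  rw [ZS_comm hz hg]
  group

/-- The "central involution" `τ` of the `SL₂(p)` generated by two conjugates of `Aut_S(B)`. -/
theorem Setup.tau (H : Setup p F D) {B : Subgroup Ω} (hZB : ZS S ≤ B) {k : Ω → Ω}
    (hk : Iso F B B k) {c : Ω} (hc : c ∈ D) (hc1 : c ≠ 1) (hkc : k c ∉ ZS S) :
    ∃ τ, Iso F B B τ ∧ τ c = c⁻¹ ∧ ∀ y ∈ ZS S, k y ∈ ZS S → τ y = y := by
  obtain ⟨h, hh, hhk, hkh⟩ := hk.symm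
  have hhc := H.inv_active hZB hk hh hhk hc hc1 hkc
  have hBS := hk.le
  have hcZ := H.hDZ hc
  have hcB : c ∈ B := hZB hcZ
  have hkcB : k c ∈ B := hk.map_mem hcB
  have hhcB : h c ∈ B := hh.map_mem hcB
  -- the element `g₁`
  obtain ⟨x₁, hx₁, hne₁⟩ := exists_not_comm (hBS hhcB) hhc
  obtain ⟨i, hi⟩ := exists_pow_eq H.hDc (H.hD x₁ hx₁ _ (hBS hhcB)) hne₁ hc
  rw [← comm_pow H.hc hx₁ (hBS hhcB)] at hi
  have hg₁ : x₁ ^ i ∈ S := S.pow_mem hx₁ i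
  set g₁ := x₁ ^ i with hg₁def
  -- the element `g₂`
  obtain ⟨x₂, hx₂, hne₂⟩ := exists_not_comm (hBS hkcB) hkc
  obtain ⟨j, hj⟩ := exists_pow_eq H.hDc (H.hD x₂ hx₂ _ (hBS hkcB)) hne₂ (D.inv_mem hc)
  rw [← comm_pow H.hc hx₂ (hBS hkcB)] at hj
  have hg₂ : x₂ ^ j ∈ S := S.pow_mem hx₂ j
  set g₂ := x₂ ^ j with hg₂def
  have isoa : Iso F B B (fun y => g₁ * y * g₁⁻¹) := H.iso_conj hZB hBS hg₁
  have isoc : Iso F B B (fun y => g₂ * y * g₂⁻¹) := H.iso_conj hZB hBS hg₂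
  have isob := (hk.trans isoc).trans hh
  set a : Ω → Ω := fun y => g₁ * y * g₁⁻¹ with ha
  set b : Ω → Ω := h ∘ ((fun y => g₂ * y * g₂⁻¹) ∘ k) with hb
  have isow := (isoa.trans isob).trans isoa
  set w : Ω → Ω := a ∘ (b ∘ a) with hw
  have ac : a c = c := conj_ZS hg₁ hcZ
  have ac' : a (h c) = c * h c := by
    show g₁ * h c * g₁⁻¹ = c * h c
    calc g₁ * h c * g₁⁻¹ = (g₁ * h c * g₁⁻¹ * (h c)⁻¹) * h c := by group
      _ = c * h c := by rw [hi]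
  have bc : b c = (h c)⁻¹ * c := by
    show h (g₂ * k c * g₂⁻¹) = (h c)⁻¹ * c
    have : g₂ * k c * g₂⁻¹ = c⁻¹ * k c := by
      rw [← hj]
      group
    rw [this, hh.mor.map_mul (B.inv_mem hcB) hkcB, hh.mor.map_inv hcB, hhk c hcB]
  have bc' : b (h c) = h c := by
    show h (g₂ * k (h c) * g₂⁻¹) = h c
    rw [hkh c hcB, conj_ZS hg₂ hcZ]
  have wc : w c = (h c)⁻¹ := by
    show a (b (a c)) = (h c)⁻¹
    rw [ac, bc, isoa.mor.map_mul (B.inv_mem hhcB) hcB, isoa.mor.map_inv hhcB, ac', ac]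
    group
  have wc' : w (h c) = c := by
    show a (b (a (h c))) = c
    rw [ac', isob.mor.map_mul hcB hhcB, bc, bc']
    have : (h c)⁻¹ * c * h c = c := by
      rw [mul_assoc, ← ZS_comm hcZ (hBS hhcB)]
      group
    rw [this, ac]
  refine ⟨w ∘ w, isow.trans isow, ?_, fun y hy hky => ?_⟩
  · show w (w c) = c⁻¹
    rw [wc, isow.mor.map_inv hhcB, wc']
  · have ay : a y = y := conj_ZS hg₁ hy
    have by' : b y = y := by
      show h (g₂ * k y * g₂⁻¹) = y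
      rw [conj_ZS hg₂ hky, hhk y (hZB hy)]
    have wy : w y = y := by
      show a (b (a y)) = y
      rw [ay, by', ay]
    show w (w y) = y
    rw [wy, wy]

end Cfsg.Agent.Lib.Helper16.CIFusion
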