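import Cfsg.Agent.Lib.Helper16.CIGen
import Cfsg.Agent.Lib.Helper5.DihedralIso

set_option autoImplicit false
set_option linter.unusedSectionVars false

/-! Saturated fusion systems over a `2`-group whose centre has index `4`. -/

namespace Cfsg.Agent.Lib.Helper16.CIFusion

open Cfsg Cfsg.FusionSystem Cfsg.Agent.Lib.Helper87 Cfsg.Agent.Lib.Helper16.CenterIndex

variable {Ω : Type*} [Group Ω] {S : Subgroup Ω} [Finite S]
variable {F : FusionSystem S} {D : Subgroup Ω} {c : Ω}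

/-- The standing hypotheses for `p = 2`. -/
structure Setup2 (F : FusionSystem S) (D : Subgroup Ω) (c : Ω) : Prop where
  H : Setup 2 F D
  hc : c ∈ D
  hc1 : c ≠ 1

theorem Setup2.cc (K : Setup2 F D c) : c * c = 1 := by
  rw [← pow_two]
  exact pow_card_D K.H.hDc K.hc

theorem Setup2.D_cases (K : Setup2 F D c) {d : Ω} (hd : d ∈ D) : d = 1 ∨ d = c := by
  obtain ⟨m, rfl⟩ := exists_pow_eq K.H.hDc K.hc K.hc1 hd
  have h2 : c ^ 2 = 1 := pow_card_D K.H.hDc K.hc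
  rcases Nat.even_or_odd' m with ⟨k, rfl | rfl⟩
  · left
    rw [pow_mul, h2, one_pow]
  · right
    rw [pow_succ, pow_mul, h2, one_pow, one_mul]

theorem Setup2.comm_eq (K : Setup2 F D c) {x w : Ω} (hx : x ∈ S) (hw : w ∈ S)
    (hne : x * w ≠ w * x) : x * w * x⁻¹ * w⁻¹ = c := by
  rcases K.D_cases (K.H.hD x hx w hw) with e | e
  · exfalso
    apply hne
    calc x * w = (x * w * x⁻¹ * w⁻¹) * (w * x) := by group
      _ = w * x := by rw [e, one_mul]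
  · exact e

theorem Setup2.inactive_c (K : Setup2 F D c) {B : Subgroup Ω} (hZB : ZS S ≤ B) {k : Ω → Ω}
    (hk : Iso F B B k) (hkc : k c ∈ ZS S) : k c = c := by
  have hcB : c ∈ B := hZB (K.H.hDZ K.hc)
  rcases K.D_cases (K.H.inactive_D hZB hk (K.H.map_D hk.mor K.hc K.hc1 hcB hkc) c K.hc) with e | e
  · exact absurd (hk.mor.eq_one hcB e) K.hc1
  · exact e

theorem Setup2.aut_c (K : Setup2 F D c) {f : Ω → Ω} (hf : Mor F S f) : f c = c := by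
  rcases K.D_cases (K.H.aut_D hf c K.hc) with e | e
  · exact absurd (hf.eq_one (ZS_le (K.H.hDZ K.hc)) e) K.hc1
  · exact e

/-- The `Aut_F(B)`-conjugates of `c` outside the centre form one coset of `D`. -/
theorem Setup2.conj_c (K : Setup2 F D c) {B : Subgroup Ω} (hZB : ZS S ≤ B) {h₁ h₂ : Ω → Ω}
    (hh₁ : Iso F B B h₁) (hh₂ : Iso F B B h₂) (hc₁ : h₁ c ∉ ZS S) (hc₂ : h₂ c ∉ ZS S) :
    ∃ d ∈ D, h₂ c = h₁ c * d := by
  have H := K.H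
  obtain ⟨g₁, hg₁, hgh, hhg⟩ := hh₁.symm
  have hgc := H.inv_active hZB hh₁ hg₁ hgh K.hc K.hc1 hc₁
  have hBS := hh₁.le
  have hcB : c ∈ B := hZB (H.hDZ K.hc)
  have h2B : h₂ c ∈ B := hh₂.map_mem hcB
  obtain ⟨m, hm⟩ := H.decompB hZB hg₁ K.hc hgc (h₂ c) h2B
  obtain ⟨s, hs, hs'⟩ := H.exists_conj (hBS h2B) hc₂ (D.pow_mem K.hc m)
  have isok := (hh₂.trans (H.iso_conj hZB hBS hs)).trans hg₁
  have hkc : (g₁ ∘ ((fun y => s * y * s⁻¹) ∘ h₂)) c ∈ ZS S := by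
    show g₁ (s * h₂ c * s⁻¹) ∈ ZS S
    rw [hs']
    exact hm
  have e := K.inactive_c hZB isok hkc
  change g₁ (s * h₂ c * s⁻¹) = c at e
  rw [hs'] at e
  have e2 := hhg _ (B.mul_mem h2B (B.pow_mem hcB m))
  rw [e] at e2
  refine ⟨(c ^ m)⁻¹, D.inv_mem (D.pow_mem K.hc m), ?_⟩
  rw [e2]
  group

theorem Setup2.sq_one (K : Setup2 F D c) {B : Subgroup Ω} (hZB : ZS S ≤ B) {h : Ω → Ω}
    (hh : Iso F B B h) : h c * h c = 1 := by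
  have hcB : c ∈ B := hZB (K.H.hDZ K.hc)
  rw [← hh.mor.map_mul hcB hcB, K.cc, hh.mor.map_one]

/-- Elements of two distinct abelian subgroups of index `2`, outside the centre, have commutator
`c`. -/
theorem Setup2.comm_ne (K : Setup2 F D c) {B B' : Subgroup Ω} (h1 : ZS S < B) (h3 : B < S)
    (h1' : ZS S < B') (h3' : B' < S) (hne : B ≠ B') {a b : Ω} (ha : a ∈ B) (haZ : a ∉ ZS S)
    (hb : b ∈ B') (hbZ : b ∉ ZS S) : b * a * b⁻¹ * a⁻¹ = c := by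
  have hbB := K.H.not_mem_of_ne h1 h3 h1' h3' hne hb hbZ
  refine K.comm_eq (h3'.le hb) (h3.le ha) (fun h => haZ ?_)
  exact mem_ZS_of_comm K.H.hS K.H.hidx h1 h3 (h3'.le hb) hbB ha h

theorem Setup2.no_three (K : Setup2 F D c) {B₁ B₂ B₃ : Subgroup Ω} (hB₁ : ZS S ≤ B₁)
    (hB₂ : ZS S ≤ B₂) (hB₃ : ZS S ≤ B₃) {h₁ h₂ h₃ : Ω → Ω} (hh₁ : Iso F B₁ B₁ h₁)
    (hh₂ : Iso F B₂ B₂ h₂) (hh₃ : Iso F B₃ B₃ h₃) (hc₁ : h₁ c ∉ ZS S) (hc₂ : h₂ c ∉ ZS S)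
    (hc₃ : h₃ c ∉ ZS S) (h12 : B₁ ≠ B₂) (h13 : B₁ ≠ B₃) (h23 : B₂ ≠ B₃) : False := by
  have H := K.H
  have hcZ := H.hDZ K.hc
  obtain ⟨l₁, u₁⟩ := H.mid hB₁ hh₁ K.hc hc₁
  obtain ⟨l₂, u₂⟩ := H.mid hB₂ hh₂ K.hc hc₂
  obtain ⟨l₃, u₃⟩ := H.mid hB₃ hh₃ K.hc hc₃
  have haB : h₁ c ∈ B₁ := hh₁.map_mem (hB₁ hcZ)
  have hbB : h₂ c ∈ B₂ := hh₂.map_mem (hB₂ hcZ)
  have heB : h₃ c ∈ B₃ := hh₃.map_mem (hB₃ hcZ)
  have haa := K.sq_one hB₁ hh₁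
  have hbb := K.sq_one hB₂ hh₂
  have hee := K.sq_one hB₃ hh₃
  obtain ⟨a, ha⟩ : ∃ a, a = h₁ c := ⟨_, rfl⟩
  obtain ⟨b, hb⟩ : ∃ b, b = h₂ c := ⟨_, rfl⟩
  obtain ⟨e, he⟩ : ∃ e, e = h₃ c := ⟨_, rfl⟩
  rw [← ha] at haB haa
  rw [← hb] at hbB hbb hc₂
  rw [← he] at heB hee hc₃
  have haZ : a ∉ ZS S := by rw [ha]; exact hc₁
  have haS := u₁.le haB
  have hbS := u₂.le hbB
  have heS := u₃.le heB
  have cba : b * a * b⁻¹ * a⁻¹ = c := K.comm_ne l₁ u₁ l₂ u₂ h12 haB haZ hbB hc₂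
  have cea : e * a * e⁻¹ * a⁻¹ = c := K.comm_ne l₁ u₁ l₃ u₃ h13 haB haZ heB hc₃
  have cab : a * b * a⁻¹ * b⁻¹ = c := K.comm_ne l₂ u₂ l₁ u₁ h12.symm hbB hc₂ haB haZ
  have ceb : e * b * e⁻¹ * b⁻¹ = c := K.comm_ne l₂ u₂ l₃ u₃ h23 hbB hc₂ heB hc₃
  have hwS : a * b * e ∈ S := S.mul_mem (S.mul_mem haS hbS) heS
  have wa : (a * b * e) * a * (a * b * e)⁻¹ * a⁻¹ = 1 := by
    rw [comm_mul H.hc (S.mul_mem haS hbS) heS haS, comm_mul H.hc haS hbS haS, cba, cea]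
    have : a * a * a⁻¹ * a⁻¹ = 1 := by group
    rw [this, one_mul, K.cc]
  have wb : (a * b * e) * b * (a * b * e)⁻¹ * b⁻¹ = 1 := by
    rw [comm_mul H.hc (S.mul_mem haS hbS) heS hbS, comm_mul H.hc haS hbS hbS, cab, ceb]
    have : b * b * b⁻¹ * b⁻¹ = 1 := by group
    rw [this, mul_one, K.cc]
  have wa' : (a * b * e) * a = a * (a * b * e) := by
    calc (a * b * e) * a = ((a * b * e) * a * (a * b * e)⁻¹ * a⁻¹) * (a * (a * b * e)) := by group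
      _ = a * (a * b * e) := by rw [wa, one_mul]
  have wb' : (a * b * e) * b = b * (a * b * e) := by
    calc (a * b * e) * b = ((a * b * e) * b * (a * b * e)⁻¹ * b⁻¹) * (b * (a * b * e)) := by group
      _ = b * (a * b * e) := by rw [wb, one_mul]
  have hwB : a * b * e ∈ B₁ := by
    by_contra hwB
    exact haZ (mem_ZS_of_comm H.hS H.hidx l₁ u₁ hwS hwB haB wa')
  have hbB₁ : b ∉ B₁ := H.not_mem_of_ne l₁ u₁ l₂ u₂ h12 hbB hc₂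
  have hwZ : a * b * e ∈ ZS S := mem_ZS_of_comm H.hS H.hidx l₁ u₁ hbS hbB₁ hwB wb'.symm
  have hainv : a⁻¹ = a := inv_eq_of_mul_eq_one_left haa
  have hbinv : b⁻¹ = b := inv_eq_of_mul_eq_one_left hbb
  have hww : (a * b * e) * (a * b * e) = c := by
    calc (a * b * e) * (a * b * e) = (a * b) * (e * (a * b * e)) := by group
      _ = (a * b) * ((a * b * e) * e) := by rw [ZS_comm hwZ heS]
      _ = (a * b) * (a * b) * (e * e) := by group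
      _ = a * b * a⁻¹ * b⁻¹ := by rw [hee, hainv, hbinv]; group
      _ = c := cab
  obtain ⟨m, hm⟩ := H.decomp hB₁ hh₁ K.hc hc₁ _ hwZ
  have hcm : c ^ m ∈ ZS S := (ZS S).pow_mem hcZ m
  have hv : a * b * e * c ^ m ∈ B₁ := hB₁ ((ZS S).mul_mem hwZ hcm)
  have hsq : (a * b * e * c ^ m) * (a * b * e * c ^ m) = c := by
    calc (a * b * e * c ^ m) * (a * b * e * c ^ m)
        = (a * b * e) * (c ^ m * (a * b * e)) * c ^ m := by group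
      _ = (a * b * e) * ((a * b * e) * c ^ m) * c ^ m := by rw [ZS_comm hwZ (ZS_le hcm)]
      _ = ((a * b * e) * (a * b * e)) * (c * c) ^ m := by
          rw [(Commute.refl c).mul_pow]; group
      _ = c := by rw [hww, K.cc, one_pow, mul_one]
  apply hc₁
  rw [← hsq, hh₁.mor.map_mul hv hv]
  exact (ZS S).mul_mem hm hm

theorem exists_moved (hY0 : Y0 F = ⊥) {u : Ω} (hu : u ∈ ZS S) (hu1 : u ≠ 1) :
    ∃ (B : Subgroup Ω) (h : Ω → Ω), ZS S ≤ B ∧ Iso F B B h ∧ h u ∉ ZS S := by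
  have huY : u ∉ Y0 F := by
    rw [hY0, Subgroup.mem_bot]
    exact hu1
  rw [mem_Y0] at huY
  push Not at huY
  exact huY hu

/-- The configuration to be excluded: the centre is larger than `D`. -/
structure Conf (F : FusionSystem S) (D : Subgroup Ω) (c z : Ω) (B₁ B₂ : Subgroup Ω)
    (h₁ h₂ : Ω → Ω) : Prop where
  K : Setup2 F D c
  hY0 : Y0 F = ⊥
  hz : z ∈ ZS S
  hzD : z ∉ D
  hB₁ : ZS S ≤ B₁
  hB₂ : ZS S ≤ B₂
  hh₁ : Iso F B₁ B₁ h₁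
  hh₂ : Iso F B₂ B₂ h₂
  hc₁ : h₁ c ∉ ZS S
  hc₂ : h₂ c ∉ ZS S
  hne : B₁ ≠ B₂
  hzc₁ : h₁ (z * c) ∈ ZS S
  hz₂ : h₂ z ∈ ZS S

theorem Setup2.exists_conf (K : Setup2 F D c) (hY0 : Y0 F = ⊥) {z : Ω} (hz : z ∈ ZS S)
    (hzD : z ∉ D) : ∃ (B₁ B₂ : Subgroup Ω) (h₁ h₂ : Ω → Ω), Conf F D c z B₁ B₂ h₁ h₂ := by
  have H := K.H
  have hcZ := H.hDZ K.hc
  have hz1 : z ≠ 1 := fun h => hzD (h ▸ D.one_mem)
  have hzc1 : z * c ≠ 1 := fun h => hzD (by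
    rw [eq_inv_of_mul_eq_one_left h]; exact D.inv_mem K.hc)
  have hzc : z * c ∈ ZS S := (ZS S).mul_mem hz hcZ
  obtain ⟨B₁, h₁, hB₁, hh₁, hz₁⟩ := exists_moved hY0 hz hz1
  obtain ⟨B₂, h₂, hB₂, hh₂, hz₂⟩ := exists_moved hY0 hzc hzc1
  have hc₁ : h₁ c ∉ ZS S := fun h => hz₁
    ((inactive H.hS H.hF H.hD H.hDZ hB₁ hh₁ (H.map_D hh₁.mor K.hc K.hc1 (hB₁ hcZ) h)).1 z hz)
  have hc₂ : h₂ c ∉ ZS S := fun h => hz₂
    ((inactive H.hS H.hF H.hD H.hDZ hB₂ hh₂ (H.map_D hh₂.mor K.hc K.hc1 (hB₂ hcZ) h)).1 _ hzc)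
  have hzc₁ : h₁ (z * c) ∈ ZS S := by
    obtain ⟨m, hm⟩ := H.decomp hB₁ hh₁ K.hc hc₁ z hz
    rcases K.D_cases (D.pow_mem K.hc m) with e | e
    · rw [e, mul_one] at hm
      exact absurd hm hz₁
    · rwa [e] at hm
  have hz₂' : h₂ z ∈ ZS S := by
    obtain ⟨m, hm⟩ := H.decomp hB₂ hh₂ K.hc hc₂ _ hzc
    rcases K.D_cases (D.pow_mem K.hc m) with e | e
    · rw [e, mul_one] at hm
      exact absurd hm hz₂
    · rwa [e, mul_assoc, K.cc, mul_one] at hm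
  refine ⟨B₁, B₂, h₁, h₂, K, hY0, hz, hzD, hB₁, hB₂, hh₁, hh₂, hc₁, hc₂, ?_, hzc₁, hz₂'⟩
  intro h
  subst h
  exact hz₂ (H.same_Y hB₁ hh₁ hh₂ K.hc K.hc1 hc₁ hc₂ _ hzc hzc₁)

variable {z : Ω} {B₁ B₂ : Subgroup Ω} {h₁ h₂ : Ω → Ω}

theorem Conf.active (X : Conf F D c z B₁ B₂ h₁ h₂) {B : Subgroup Ω} {h : Ω → Ω} (hB : ZS S ≤ B)
    (hh : Iso F B B h) (hc : h c ∉ ZS S) : B = B₁ ∨ B = B₂ := by
  by_contra hcon
  push Not at hcon
  exact X.K.no_three X.hB₁ X.hB₂ hB X.hh₁ X.hh₂ hh X.hc₁ X.hc₂ hc X.hne (Ne.symm hcon.1)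
    (Ne.symm hcon.2)

theorem Conf.YY (X : Conf F D c z B₁ B₂ h₁ h₂) {v : Ω} (hv : v ∈ ZS S) (h1 : h₁ v ∈ ZS S)
    (h2 : h₂ v ∈ ZS S) : v = 1 := by
  have H := X.K.H
  have hcZ := H.hDZ X.K.hc
  rw [← Subgroup.mem_bot, ← X.hY0, mem_Y0]
  refine ⟨hv, fun B h hB hh => ?_⟩
  by_cases hc : h c ∈ ZS S
  · exact (inactive H.hS H.hF H.hD H.hDZ hB hh (H.map_D hh.mor X.K.hc X.K.hc1 (hB hcZ) hc)).1 v hv
  · rcases X.active hB hh hc with rfl | rfl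
    · exact H.same_Y hB X.hh₁ hh X.K.hc X.K.hc1 X.hc₁ hc v hv h1
    · exact H.same_Y hB X.hh₂ hh X.K.hc X.K.hc1 X.hc₂ hc v hv h2

theorem Conf.Q4 (X : Conf F D c z B₁ B₂ h₁ h₂) {u : Ω} (hu : u ∈ ZS S) : u ∈ D ∨ u * z ∈ D := by
  have H := X.K.H
  have hc := X.K.hc
  have hcZ := H.hDZ hc
  obtain ⟨m, hm⟩ := H.decomp X.hB₁ X.hh₁ hc X.hc₁ u hu
  have hcm : c ^ m ∈ ZS S := (ZS S).pow_mem hcZ m
  have hu' : u * c ^ m ∈ ZS S := (ZS S).mul_mem hu hcm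
  obtain ⟨n, hn⟩ := H.decomp X.hB₂ X.hh₂ hc X.hc₂ _ hu'
  rcases X.K.D_cases (D.pow_mem hc n) with e | e
  · left
    rw [e, mul_one] at hn
    have h1 := X.YY hu' hm hn
    rw [eq_inv_of_mul_eq_one_left h1]
    exact D.inv_mem (D.pow_mem hc m)
  · right
    rw [e] at hn
    have hzc : z * c ∈ ZS S := (ZS S).mul_mem X.hz hcZ
    have hv : (u * c ^ m) * (z * c) ∈ ZS S := (ZS S).mul_mem hu' hzc
    have e1 : h₁ ((u * c ^ m) * (z * c)) ∈ ZS S := by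
      rw [X.hh₁.mor.map_mul (X.hB₁ hu') (X.hB₁ hzc)]
      exact (ZS S).mul_mem hm X.hzc₁
    have e2 : h₂ ((u * c ^ m) * (z * c)) ∈ ZS S := by
      have : (u * c ^ m) * (z * c) = (u * c ^ m * c) * z := by
        rw [← ZS_comm X.hz (ZS_le hcZ)]
        group
      rw [this, X.hh₂.mor.map_mul (X.hB₂ ((ZS S).mul_mem hu' hcZ)) (X.hB₂ X.hz)]
      exact (ZS S).mul_mem hn X.hz₂
    have h1 := X.YY hv e1 e2
    have h2 : u * z = (c ^ m * c)⁻¹ := by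
      apply eq_inv_of_mul_eq_one_left
      calc u * z * (c ^ m * c) = u * (z * c ^ m) * c := by group
        _ = u * (c ^ m * z) * c := by rw [ZS_comm X.hz (ZS_le hcm)]
        _ = u * c ^ m * (z * c) := by group
        _ = 1 := h1
    rw [h2]
    exact D.inv_mem (D.mul_mem (D.pow_mem hc m) hc)

theorem Conf.mid₁ (X : Conf F D c z B₁ B₂ h₁ h₂) : ZS S < B₁ ∧ B₁ < S :=
  X.K.H.mid X.hB₁ X.hh₁ X.K.hc X.hc₁

theorem Conf.mid₂ (X : Conf F D c z B₁ B₂ h₁ h₂) : ZS S < B₂ ∧ B₂ < S :=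
  X.K.H.mid X.hB₂ X.hh₂ X.K.hc X.hc₂

theorem Conf.mem₁ (X : Conf F D c z B₁ B₂ h₁ h₂) : h₁ c ∈ B₁ :=
  X.hh₁.map_mem (X.hB₁ (X.K.H.hDZ X.K.hc))

theorem Conf.mem₂ (X : Conf F D c z B₁ B₂ h₁ h₂) : h₂ c ∈ B₂ :=
  X.hh₂.map_mem (X.hB₂ (X.K.H.hDZ X.K.hc))

theorem Conf.cab (X : Conf F D c z B₁ B₂ h₁ h₂) : h₁ c * h₂ c * (h₁ c)⁻¹ * (h₂ c)⁻¹ = c :=
  X.K.comm_ne X.mid₂.1 X.mid₂.2 X.mid₁.1 X.mid₁.2 X.hne.symm X.mem₂ X.hc₂ X.mem₁ X.hc₁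

theorem Conf.D_le (X : Conf F D c z B₁ B₂ h₁ h₂) : D ≤ Subgroup.closure {h₁ c, h₂ c} := by
  have ha : h₁ c ∈ Subgroup.closure {h₁ c, h₂ c} := Subgroup.subset_closure (by simp)
  have hb : h₂ c ∈ Subgroup.closure {h₁ c, h₂ c} := Subgroup.subset_closure (by simp)
  intro d hd
  rcases X.K.D_cases hd with rfl | rfl
  · exact Subgroup.one_mem _
  · have h3 := Subgroup.mul_mem _ (Subgroup.mul_mem _ (Subgroup.mul_mem _ ha hb)
      (Subgroup.inv_mem _ ha)) (Subgroup.inv_mem _ hb)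
    rwa [X.cab] at h3

theorem Conf.T_le (X : Conf F D c z B₁ B₂ h₁ h₂) : Subgroup.closure {h₁ c, h₂ c} ≤ S := by
  rw [Subgroup.closure_le]
  rintro x (rfl | hx)
  · exact X.mid₁.2.le X.mem₁
  · rw [Set.mem_singleton_iff] at hx
    subst hx
    exact X.mid₂.2.le X.mem₂

theorem Conf.BT (X : Conf F D c z B₁ B₂ h₁ h₂) (B : Subgroup Ω) (h : Ω → Ω) (hB : ZS S ≤ B)
    (hh : Iso F B B h) : ∀ d ∈ D, h d ∈ Subgroup.closure {h₁ c, h₂ c} := by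
  have ha : h₁ c ∈ Subgroup.closure {h₁ c, h₂ c} := Subgroup.subset_closure (by simp)
  have hb : h₂ c ∈ Subgroup.closure {h₁ c, h₂ c} := Subgroup.subset_closure (by simp)
  intro d hd
  rcases X.K.D_cases hd with rfl | rfl
  · rw [hh.mor.map_one]
    exact Subgroup.one_mem _
  · by_cases hc : h d ∈ ZS S
    · rw [X.K.inactive_c hB hh hc]
      exact X.D_le hd
    · rcases X.active hB hh hc with rfl | rfl
      · obtain ⟨e, he, h2⟩ := X.K.conj_c hB X.hh₁ hh X.hc₁ hc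
        rw [h2]
        exact Subgroup.mul_mem _ ha (X.D_le he)
      · obtain ⟨e, he, h2⟩ := X.K.conj_c hB X.hh₂ hh X.hc₂ hc
        rw [h2]
        exact Subgroup.mul_mem _ hb (X.D_le he)

theorem Conf.ZD (X : Conf F D c z B₁ B₂ h₁ h₂) {f : Ω → Ω} (hf : Iso F S S f) {u : Ω}
    (hu : u ∈ ZS S) : u⁻¹ * f u ∈ D := by
  have H := X.K.H
  obtain ⟨g, hg, hgf, -⟩ := hf.symm
  by_cases huD : u ∈ D
  · exact D.mul_mem (D.inv_mem huD) (H.aut_D hf.mor u huD)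
  · have h1 : u * z ∈ D := (X.Q4 hu).resolve_left huD
    have hfuD : f u ∉ D := by
      intro h
      apply huD
      rw [← hgf u (ZS_le hu)]
      exact H.aut_D hg.mor _ h
    have hfu : f u ∈ ZS S := aut_ZS hf hu
    have h2 : f u * z ∈ D := (X.Q4 hfu).resolve_left hfuD
    have ht : u⁻¹ * f u ∈ S := S.mul_mem (S.inv_mem (ZS_le hu)) (ZS_le hfu)
    have : u⁻¹ * f u = (u * z)⁻¹ * (f u * z) := by
      calc u⁻¹ * f u = z⁻¹ * (z * (u⁻¹ * f u)) := by group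
        _ = z⁻¹ * ((u⁻¹ * f u) * z) := by rw [ZS_comm X.hz ht]
        _ = (u * z)⁻¹ * (f u * z) := by group
    rw [this]
    exact D.mul_mem (D.inv_mem h1) h2

theorem Conf.ST (X : Conf F D c z B₁ B₂ h₁ h₂) (f : Ω → Ω) (hf : Iso F S S f) :
    ∀ x ∈ S, x⁻¹ * f x ∈ Subgroup.closure {h₁ c, h₂ c} := by
  have H := X.K.H
  have hcZ := H.hDZ X.K.hc
  have ha : h₁ c ∈ Subgroup.closure {h₁ c, h₂ c} := Subgroup.subset_closure (by simp)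
  have hb : h₂ c ∈ Subgroup.closure {h₁ c, h₂ c} := Subgroup.subset_closure (by simp)
  obtain ⟨T, hT⟩ : ∃ T, T = Subgroup.closure {h₁ c, h₂ c} := ⟨_, rfl⟩
  rw [← hT] at ha hb ⊢
  have hDT : D ≤ T := hT ▸ X.D_le
  have hTS : T ≤ S := hT ▸ X.T_le
  have hnorm : ∀ s ∈ S, ∀ t ∈ T, s * t * s⁻¹ ∈ T := fun s hs t ht => conj_mem_of_D H.hD hDT hTS hs ht
  let K' : Subgroup Ω :=
    { carrier := {x | x ∈ S ∧ x⁻¹ * f x ∈ T}
      one_mem' := ⟨S.one_mem, by rw [hf.mor.map_one]; simp⟩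
      mul_mem' := by
        rintro x y ⟨hx, hx'⟩ ⟨hy, hy'⟩
        refine ⟨S.mul_mem hx hy, ?_⟩
        have : (x * y)⁻¹ * f (x * y) = (y⁻¹ * (x⁻¹ * f x) * y⁻¹⁻¹) * (y⁻¹ * f y) := by
          rw [hf.mor.map_mul hx hy]
          group
        rw [this]
        exact T.mul_mem (hnorm _ (S.inv_mem hy) _ hx') hy'
      inv_mem' := by
        rintro x ⟨hx, hx'⟩
        refine ⟨S.inv_mem hx, ?_⟩
        have : x⁻¹⁻¹ * f x⁻¹ = x * (x⁻¹ * f x)⁻¹ * x⁻¹ := by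
          rw [hf.mor.map_inv hx]
          group
        rw [this]
        exact hnorm _ hx _ (T.inv_mem hx') }
  have hK : ∀ x, x ∈ K' ↔ x ∈ S ∧ x⁻¹ * f x ∈ T := fun x => Iff.rfl
  have hZK : ZS S ≤ K' := fun u hu => ⟨ZS_le hu, hDT (X.ZD hf hu)⟩
  have hfc : f c = c := X.K.aut_c hf.mor
  have haK : h₁ c ∈ K' := by
    refine ⟨hTS ha, T.mul_mem (T.inv_mem ha) ?_⟩
    obtain ⟨B', h', hB', hh', e⟩ := conj_iso hf X.hB₁ X.hh₁
    rw [← e c (X.hB₁ hcZ), hfc, hT]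
    exact X.BT B' h' hB' hh' c X.K.hc
  have hbK : h₂ c ∈ K' := by
    refine ⟨hTS hb, T.mul_mem (T.inv_mem hb) ?_⟩
    obtain ⟨B', h', hB', hh', e⟩ := conj_iso hf X.hB₂ X.hh₂
    rw [← e c (X.hB₂ hcZ), hfc, hT]
    exact X.BT B' h' hB' hh' c X.K.hc
  have hB₁K : B₁ ≤ K' := by
    have hle : ZS S ⊔ Subgroup.zpowers (h₁ c) ≤ B₁ :=
      sup_le X.hB₁ (by rw [Subgroup.zpowers_le]; exact X.mem₁)
    have hlt : ZS S < ZS S ⊔ Subgroup.zpowers (h₁ c) := by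
      refine lt_of_le_of_ne le_sup_left (fun h => X.hc₁ ?_)
      rw [h]
      exact (le_sup_right : Subgroup.zpowers (h₁ c) ≤ _) (Subgroup.mem_zpowers _)
    have heq : ZS S ⊔ Subgroup.zpowers (h₁ c) = B₁ := by
      by_contra hne
      exact no_chain H.hS H.hidx hlt (lt_of_le_of_ne hle hne) X.mid₁.2
    rw [← heq]
    exact sup_le hZK (by rw [Subgroup.zpowers_le]; exact haK)
  have hbB₁ : h₂ c ∉ B₁ :=
    H.not_mem_of_ne X.mid₁.1 X.mid₁.2 X.mid₂.1 X.mid₂.2 X.hne X.mem₂ X.hc₂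
  have hSK : S ≤ K' := by
    rw [← sup_zpowers_eq H.hS H.hidx X.mid₁.1 X.mid₁.2.le (X.mid₂.2.le X.mem₂) hbB₁]
    exact sup_le hB₁K (by rw [Subgroup.zpowers_le]; exact hbK)
  intro x hx
  exact ((hK x).1 (hSK hx)).2

theorem Conf.card_T (X : Conf F D c z B₁ B₂ h₁ h₂) :
    Nat.card (Subgroup.closure {h₁ c, h₂ c}) = 8 := by
  have haa := X.K.sq_one X.hB₁ X.hh₁
  have hbb := X.K.sq_one X.hB₂ X.hh₂
  have ha1 : h₁ c ≠ 1 := fun h => X.hc₁ (h ▸ (ZS S).one_mem)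
  have hb1 : h₂ c ≠ 1 := fun h => X.hc₂ (h ▸ (ZS S).one_mem)
  have hoa : orderOf (h₁ c) = 2 := orderOf_eq_prime (by rw [pow_two]; exact haa) ha1
  have hob : orderOf (h₂ c) = 2 := orderOf_eq_prime (by rw [pow_two]; exact hbb) hb1
  have hainv : (h₁ c)⁻¹ = h₁ c := inv_eq_of_mul_eq_one_left haa
  have hbinv : (h₂ c)⁻¹ = h₂ c := inv_eq_of_mul_eq_one_left hbb
  have h2 : (h₁ c * h₂ c) ^ 2 = c := by
    have := X.cab
    rw [hainv, hbinv] at this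
    rw [pow_two, ← mul_assoc]
    exact this
  have hoab : orderOf (h₁ c * h₂ c) = 2 ^ (1 + 1) := by
    apply orderOf_eq_prime_pow
    · rw [pow_one, h2]
      exact X.K.hc1
    · rw [pow_succ, pow_one, pow_mul, h2, pow_two]
      exact X.K.cc
  rw [Cfsg.Agent.Lib.Helper5.dih_card hoa hob, hoab]
  norm_num

theorem Conf.false (X : Conf F D c z B₁ B₂ h₁ h₂) (hhyp : F.hyperfocalSubgroup 2 = S) : False := by
  have H := X.K.H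
  have h1 := H.hyp_le X.BT X.ST
  rw [hhyp] at h1
  have h2 : Subgroup.closure {h₁ c, h₂ c} = S := le_antisymm X.T_le h1
  have h3 := X.card_T
  rw [h2, H.hidx] at h3
  have h4 : Nat.card (ZS S) ≤ Nat.card D := by
    rw [H.hDc]
    omega
  have h5 := eq_of_card_le ZS_le H.hDZ h4
  exact X.hzD (h5 ▸ X.hz)

/-- For `p = 2`, trivial core and full hyperfocal subgroup, the centre of `S` is `D`. -/
theorem Setup.two_ZS_le (H : Setup 2 F D) (hcore : F.core = ⊥)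
    (hhyp : F.hyperfocalSubgroup 2 = S) : ZS S ≤ D := by
  obtain ⟨c, hc, hc1⟩ := exists_ne_one H.hDc
  have hY0 := Y0_eq_bot H.hS H.hF H.hDZ H.hD hcore
  by_contra hnle
  obtain ⟨z, hz, hzD⟩ := SetLike.not_le_iff_exists.1 hnle
  obtain ⟨B₁, B₂, h₁, h₂, X⟩ := Setup2.exists_conf ⟨H, hc, hc1⟩ hY0 hz hzD
  exact X.false hhyp

end Cfsg.Agent.Lib.Helper16.CIFusion
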