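import Cfsg.Agent.Lib.Helper16.CIOdd
import Cfsg.Agent.Lib.Helper16.CITwo
import Cfsg.Agent.Lib.Helper67.Heisenberg
import Cfsg.Agent.Lib.Helper5.ESp3

set_option autoImplicit false
set_option linter.unusedSectionVars false

/-! Saturated fusion systems over a `p`-group whose centre has index at most `p ^ 2`: conclusion. -/

namespace Cfsg.Agent.Lib.Helper16.CIFusion

open Cfsg Cfsg.FusionSystem Cfsg.Agent.Lib.Helper87 Cfsg.Agent.Lib.Helper16.CenterIndex
open scoped commutatorElement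

variable {Ω : Type*} [Group Ω] {S : Subgroup Ω} [Finite S] {p : ℕ} [hp : Fact p.Prime]
variable {F : FusionSystem S} {D : Subgroup Ω}

/-- An abelian strongly closed subgroup is trivial when the core is. -/
theorem eq_bot_of_abelian_closed (hS : IsPGroup p S) (hF : F.IsSaturated p) (hcore : F.core = ⊥)
    {E : Subgroup Ω} (hES : E ≤ S) (hab : ∀ x ∈ E, ∀ y ∈ E, x * y = y * x)
    (hcl : ∀ (R : Subgroup Ω) (f : Ω → Ω), Mor F R f → ∀ x ∈ R, x ∈ E → f x ∈ E) : E = ⊥ := by
  have hab' : IsMulCommutative E := ⟨⟨fun a b => Subtype.ext (hab a a.2 b b.2)⟩⟩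
  have hsc : F.StronglyClosed E := (stronglyClosed_iff F E).2 ⟨hES, hcl⟩
  have hn := Cfsg.Agent.Lib.Helper86.isNormal_of_abelian_stronglyClosed hS F hF hab' hsc
  rw [eq_bot_iff, ← hcore]
  exact le_sSup hn

theorem hidx_of (hS : IsPGroup p S) (hF : F.IsSaturated p) (hS1 : S ≠ ⊥) (hcore : F.core = ⊥)
    (hZ : (Subgroup.center ↥S).index ≤ p ^ 2) : Nat.card S = p ^ 2 * Nat.card (ZS S) := by
  have hnab : ¬ ∀ x y : S, x * y = y * x := by
    intro h
    apply hS1
    exact eq_bot_of_abelian_closed hS hF hcore le_rfl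
      (fun x hx y hy => congrArg Subtype.val (h ⟨x, hx⟩ ⟨y, hy⟩)) (fun R f hf x hx _ => hf.mem hx)
  obtain ⟨n, hn⟩ := hS.exists_card_eq
  have hdvd : (Subgroup.center ↥S).index ∣ p ^ n := hn ▸ Subgroup.index_dvd_card _
  obtain ⟨k, -, hk⟩ := (Nat.dvd_prime_pow hp.out).1 hdvd
  have hk2 : k ≤ 2 := by
    rw [hk] at hZ
    exact (Nat.pow_le_pow_iff_right hp.out.one_lt).1 hZ
  have hk01 : k ≠ 0 ∧ k ≠ 1 := by
    constructor
    · rintro rfl
      rw [pow_zero, Subgroup.index_eq_one] at hk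
      apply hnab
      intro x y
      have : y ∈ Subgroup.center ↥S := hk ▸ Subgroup.mem_top y
      exact (Subgroup.mem_center_iff.1 this x)
    · rintro rfl
      rw [pow_one] at hk
      have hq : Nat.card (↥S ⧸ Subgroup.center ↥S) = p := by
        rw [← Subgroup.index_eq_card, hk]
      have : IsCyclic (↥S ⧸ Subgroup.center ↥S) := isCyclic_of_prime_card hq
      apply hnab
      exact commutative_of_cyclic_center_quotient (QuotientGroup.mk' (Subgroup.center ↥S))
        (by rw [QuotientGroup.ker_mk'])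
  have hk' : k = 2 := by omega
  subst hk'
  have h := Subgroup.card_mul_index (Subgroup.center ↥S)
  rw [card_center, hk] at h
  rw [← h, mul_comm]

theorem Setup.ZS_eq (H : Setup p F D) (hcore : F.core = ⊥) (hhyp : F.hyperfocalSubgroup p = S) :
    ZS S = D := by
  refine le_antisymm ?_ H.hDZ
  by_cases hp2 : p = 2
  · subst hp2
    exact H.two_ZS_le hcore hhyp
  · exact H.odd_ZS_le hp2 hcore

theorem Setup.extraspecial (H : Setup p F D) (hZD : ZS S = D) : Cfsg.IsExtraspecial p ↥S := by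
  have hmemc : ∀ x : S, x ∈ Subgroup.center ↥S ↔ (x : Ω) ∈ ZS S := by
    intro x
    rw [← map_center, Subgroup.mem_map]
    constructor
    · intro h
      exact ⟨x, h, rfl⟩
    · rintro ⟨y, hy, e⟩
      have : y = x := Subtype.ext e
      exact this ▸ hy
  refine Cfsg.Agent.Lib.Helper67.isExtraspecial_of_commutator_eq_center H.hS ?_ ?_ ?_
  · apply le_antisymm
    · rw [commutator_def, Subgroup.commutator_le]
      intro x _ y _
      rw [hmemc]
      exact H.hc x x.2 y y.2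
    · obtain ⟨x, hx, y, hy, hne⟩ := H.exists_comm
      intro w hw
      rw [hmemc, hZD] at hw
      obtain ⟨m, hm⟩ := exists_pow_eq H.hDc (H.hD x hx y hy) hne hw
      have : w = ⁅(⟨x, hx⟩ : S), ⟨y, hy⟩⁆ ^ m := Subtype.ext hm.symm
      rw [this, commutator_def]
      exact Subgroup.pow_mem _
        (Subgroup.commutator_mem_commutator (Subgroup.mem_top _) (Subgroup.mem_top _)) m
  · rw [card_center, hZD, H.hDc]
  · intro x
    rw [hmemc]
    refine mem_ZS.2 ⟨S.pow_mem x.2 p, fun s hs => ?_⟩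
    have h1 := comm_pow H.hc x.2 hs p
    rw [pow_card_D H.hDc (H.hD _ x.2 s hs)] at h1
    show s * (x : Ω) ^ p = (x : Ω) ^ p * s
    calc s * (x : Ω) ^ p = ((x : Ω) ^ p * s * ((x : Ω) ^ p)⁻¹ * s⁻¹)⁻¹ * ((x : Ω) ^ p * s) := by group
      _ = (x : Ω) ^ p * s := by rw [h1]; group

theorem Setup.card_S (H : Setup p F D) (hZD : ZS S = D) : Nat.card S = p ^ 3 := by
  rw [H.hidx, hZD, H.hDc]
  ring

theorem Setup.exponent (H : Setup p F D) (hZD : ZS S = D) (hcore : F.core = ⊥) (hp2 : p ≠ 2) :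
    Monoid.exponent ↥S = p := by
  have hE := H.extraspecial hZD
  let E : Subgroup Ω :=
    { carrier := {x | x ∈ S ∧ x ^ p = 1}
      one_mem' := ⟨S.one_mem, one_pow _⟩
      mul_mem' := by
        rintro x y ⟨hx, hx'⟩ ⟨hy, hy'⟩
        refine ⟨S.mul_mem hx hy, ?_⟩
        have h1 := congrArg Subtype.val
          (Cfsg.Agent.Lib.Helper5.es_mul_pow hp2 hE (⟨x, hx⟩ : S) ⟨y, hy⟩)
        change (x * y) ^ p = x ^ p * y ^ p at h1
        rw [h1, hx', hy', one_mul]
      inv_mem' := by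
        rintro x ⟨hx, hx'⟩
        exact ⟨S.inv_mem hx, by rw [inv_pow, hx', inv_one]⟩ }
  have hEm : ∀ x, x ∈ E ↔ x ∈ S ∧ x ^ p = 1 := fun x => Iff.rfl
  have hES : E ≤ S := fun x hx => hx.1
  have hZE : ZS S ≤ E := by
    intro x hx
    exact ⟨ZS_le hx, pow_card_D H.hDc (hZD ▸ hx)⟩
  have hEeq : E = S := by
    by_contra hne
    have hlt : E < S := lt_of_le_of_ne hES hne
    have hbot := eq_bot_of_abelian_closed H.hS H.hF hcore hES (comm_of_mid H.hS H.hidx hZE hlt)
      (fun R f hf x hx hxE => ⟨hf.mem hx, by rw [← hf.map_pow hx, hxE.2, hf.map_one]⟩)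
    obtain ⟨c, hc, hc1⟩ := exists_ne_one H.hDc
    have : c ∈ E := hZE (H.hDZ hc)
    rw [hbot, Subgroup.mem_bot] at this
    exact hc1 this
  have h1 : Monoid.exponent ↥S ∣ p := by
    apply Monoid.exponent_dvd_of_forall_pow_eq_one
    intro x
    have : (x : Ω) ∈ E := by rw [hEeq]; exact x.2
    exact Subtype.ext this.2
  rcases (Nat.dvd_prime hp.out).1 h1 with h2 | h2
  · exfalso
    rw [Monoid.exp_eq_one_iff] at h2
    have h3 : Nat.card ↥S = 1 := Nat.card_of_subsingleton 1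
    rw [H.card_S hZD] at h3
    have h4 : 1 < p ^ 3 := Nat.one_lt_pow (by norm_num) hp.out.one_lt
    omega
  · exact h2

theorem orderOf_of_invol {a b c : Ω} (haa : a * a = 1) (hbb : b * b = 1)
    (hab : a * b * a⁻¹ * b⁻¹ = c) (hc1 : c ≠ 1) (hcc : c * c = 1) :
    orderOf a = 2 ∧ orderOf b = 2 ∧ orderOf (a * b) = 4 := by
  have ha1 : a ≠ 1 := by
    rintro rfl
    apply hc1
    rw [← hab]
    group
  have hb1 : b ≠ 1 := by
    rintro rfl
    apply hc1
    rw [← hab]
    group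
  have hainv : a⁻¹ = a := inv_eq_of_mul_eq_one_left haa
  have hbinv : b⁻¹ = b := inv_eq_of_mul_eq_one_left hbb
  have h2 : (a * b) ^ 2 = c := by
    rw [hainv, hbinv] at hab
    rw [pow_two, ← mul_assoc]
    exact hab
  have hoab : orderOf (a * b) = 2 ^ (1 + 1) := by
    apply orderOf_eq_prime_pow
    · rw [pow_one, h2]
      exact hc1
    · rw [pow_succ, pow_one, pow_mul, h2, pow_two]
      exact hcc
  exact ⟨orderOf_eq_prime (by rw [pow_two]; exact haa) ha1,
    orderOf_eq_prime (by rw [pow_two]; exact hbb) hb1, by rw [hoab]; norm_num⟩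

theorem Setup.dihedral (H : Setup 2 F D) (hZD : ZS S = D) (hcore : F.core = ⊥) :
    Nonempty (↥S ≃* DihedralGroup 4) := by
  obtain ⟨c, hc, hc1⟩ := exists_ne_one H.hDc
  have K : Setup2 F D c := ⟨H, hc, hc1⟩
  have hY0 := Y0_eq_bot H.hS H.hF H.hDZ H.hD hcore
  have hcZ := H.hDZ hc
  obtain ⟨B, h, hB, hh, hhc⟩ := exists_moved hY0 hcZ hc1
  obtain ⟨l, u⟩ := H.mid hB hh hc hhc
  have haB : h c ∈ B := hh.map_mem (hB hcZ)
  have haa := K.sq_one hB hh
  obtain ⟨a, ha⟩ : ∃ a, a = h c := ⟨_, rfl⟩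
  rw [← ha] at haB haa hhc
  have haS := u.le haB
  obtain ⟨x, hx, hxB⟩ := SetLike.not_le_iff_exists.1 (not_le_of_gt u)
  have hcomm : ∀ y ∈ S, y ∉ B → y * a * y⁻¹ * a⁻¹ = c := by
    intro y hy hyB
    exact K.comm_eq hy haS (fun e => hhc (mem_ZS_of_comm H.hS H.hidx l u hy hyB haB e))
  have hxx : x * x ∈ D := by
    rw [← hZD, ← pow_two]
    refine mem_ZS.2 ⟨S.pow_mem hx 2, fun s hs => ?_⟩
    have h1 := comm_pow H.hc hx hs 2
    rw [pow_card_D H.hDc (H.hD _ hx s hs)] at h1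
    calc s * x ^ 2 = (x ^ 2 * s * (x ^ 2)⁻¹ * s⁻¹)⁻¹ * (x ^ 2 * s) := by group
      _ = x ^ 2 * s := by rw [h1]; group
  obtain ⟨y, hy, hyB, hyy⟩ : ∃ y ∈ S, y ∉ B ∧ y * y = 1 := by
    rcases K.D_cases hxx with e | e
    · exact ⟨x, hx, hxB, e⟩
    · refine ⟨x * a, S.mul_mem hx haS, fun hm => hxB ?_, ?_⟩
      · have : x = (x * a) * a⁻¹ := by group
        rw [this]
        exact B.mul_mem hm (B.inv_mem haB)
      · have e1 : x * a = c * (a * x) := by
          rw [← hcomm x hx hxB]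
          group
        calc (x * a) * (x * a) = (c * (a * x)) * (x * a) := by rw [← e1]
          _ = c * (a * (x * x)) * a := by group
          _ = c * (a * c) * a := by rw [e]
          _ = c * (c * a) * a := by rw [ZS_comm hcZ haS]
          _ = (c * c) * (a * a) := by group
          _ = 1 := by rw [K.cc, haa, one_mul]
  obtain ⟨hoy, hoa, hoya⟩ := orderOf_of_invol hyy haa (hcomm y hy hyB) hc1 K.cc
  have hle : Subgroup.closure {y, a} ≤ S := by
    rw [Subgroup.closure_le]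
    rintro w (rfl | hw)
    · exact hy
    · rw [Set.mem_singleton_iff] at hw
      subst hw
      exact haS
  have hcard : Nat.card (Subgroup.closure {y, a}) = 8 := by
    rw [Cfsg.Agent.Lib.Helper5.dih_card hoy hoa, hoya]
  have heq : Subgroup.closure {y, a} = S := by
    refine eq_of_card_le le_rfl hle ?_
    rw [hcard, H.card_S hZD]
    norm_num
  have e := Cfsg.Agent.Lib.Helper5.dihEquiv hoy hoa
  rw [hoya] at e
  exact ⟨(MulEquiv.subgroupCongr heq.symm).trans e⟩

/-- The final statement. -/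
theorem main_theorem (hS : IsPGroup p S) (hF : F.IsSaturated p) (hS1 : S ≠ ⊥) (hcore : F.core = ⊥)
    (hhyp : F.hyperfocalSubgroup p = S) (hZ : (Subgroup.center ↥S).index ≤ p ^ 2) :
    Cfsg.IsExtraspecial p ↥S ∧ Nat.card S = p ^ 3 ∧ (p ≠ 2 → Monoid.exponent ↥S = p) ∧
      (p = 2 → Nonempty (↥S ≃* DihedralGroup 4)) := by
  have hidx := hidx_of hS hF hS1 hcore hZ
  obtain ⟨D, hDZ, hDc, hD⟩ := exists_D hS hidx
  have H : Setup p F D := ⟨hS, hF, hidx, hDZ, hDc, hD⟩
  have hZD := H.ZS_eq hcore hhyp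
  refine ⟨H.extraspecial hZD, H.card_S hZD, H.exponent hZD hcore, fun hp2 => ?_⟩
  subst hp2
  exact H.dihedral hZD hcore

end Cfsg.Agent.Lib.Helper16.CIFusion
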