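import Cfsg.Agent.Lib.Helper16.CenterIndex
import Cfsg.Agent.Lib.Helper87.Alperin
import Cfsg.Agent.S5274

set_option autoImplicit false
set_option linter.unusedSectionVars false

/-! Saturated fusion systems over a `p`-group whose centre has index `p ^ 2`: general part. -/

namespace Cfsg.Agent.Lib.Helper16.CIFusion

open Cfsg Cfsg.FusionSystem Cfsg.Agent.Lib.Helper87 Cfsg.Agent.Lib.Helper16.CenterIndex

/-- The largest subgroup of `J ⊓ H` normalized by `H`. -/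
def coreIn {G : Type*} [Group G] (H J : Subgroup G) : Subgroup G where
  carrier := {κ | κ ∈ H ∧ ∀ h ∈ H, h * κ * h⁻¹ ∈ J}
  mul_mem' := by
    rintro a b ⟨ha, ha'⟩ ⟨hb, hb'⟩
    refine ⟨H.mul_mem ha hb, fun h hh => ?_⟩
    have : h * (a * b) * h⁻¹ = (h * a * h⁻¹) * (h * b * h⁻¹) := by group
    rw [this]
    exact J.mul_mem (ha' h hh) (hb' h hh)
  one_mem' := ⟨H.one_mem, fun h _ => by simp⟩
  inv_mem' := by
    rintro a ⟨ha, ha'⟩
    refine ⟨H.inv_mem ha, fun h hh => ?_⟩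
    have : h * a⁻¹ * h⁻¹ = (h * a * h⁻¹)⁻¹ := by group
    rw [this]
    exact J.inv_mem (ha' h hh)

theorem coreIn_le {G : Type*} [Group G] (H J : Subgroup G) : coreIn H J ≤ H := fun _ h => h.1

theorem coreIn_le' {G : Type*} [Group G] (H J : Subgroup G) : coreIn H J ≤ J := by
  intro κ h
  have := h.2 1 H.one_mem
  simpa using this

theorem coreIn_conj {G : Type*} [Group G] (H J : Subgroup G) :
    ∀ α ∈ H, ∀ κ ∈ coreIn H J, α * κ * α⁻¹ ∈ coreIn H J := by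
  rintro α hα κ ⟨hκ, hκ'⟩
  refine ⟨H.mul_mem (H.mul_mem hα hκ) (H.inv_mem hα), fun h hh => ?_⟩
  have : h * (α * κ * α⁻¹) * h⁻¹ = (h * α) * κ * (h * α)⁻¹ := by group
  rw [this]
  exact hκ' _ (H.mul_mem hh hα)

variable {Ω : Type*} [Group Ω] {S : Subgroup Ω}

/-- Automorphisms of `B` fixing `Y ∩ B` pointwise. -/
def fixJ (B Y : Subgroup Ω) : Subgroup (MulAut B) where
  carrier := {κ | ∀ y : B, (y : Ω) ∈ Y → κ y = y}
  mul_mem' := by
    intro a b ha hb y hy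
    rw [MulAut.mul_apply, hb y hy, ha y hy]
  one_mem' := fun _ _ => rfl
  inv_mem' := by
    intro a ha y hy
    have h1 := ha y hy
    calc a⁻¹ y = a⁻¹ (a y) := by rw [h1]
      _ = y := MulAut.inv_apply_self _ a y

/-- Automorphisms `κ` of `B` with `x⁻¹ κ(x) ∈ T` for all `x`. -/
def modJ (B T : Subgroup Ω) : Subgroup (MulAut B) where
  carrier := {κ | ∀ x : B, (x : Ω)⁻¹ * (κ x : B) ∈ T}
  mul_mem' := by
    intro a b ha hb x
    have : (x : Ω)⁻¹ * ((a * b) x : B) = ((x : Ω)⁻¹ * (b x : B)) * (((b x : B) : Ω)⁻¹ * (a (b x) : B)) := by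
      rw [MulAut.mul_apply]
      group
    rw [this]
    exact T.mul_mem (hb x) (ha (b x))
  one_mem' := fun x => by simp
  inv_mem' := by
    intro a ha x
    have h1 := ha (a⁻¹ x)
    rw [MulAut.apply_inv_self] at h1
    have : (x : Ω)⁻¹ * (a⁻¹ x : B) = (((a⁻¹ x : B) : Ω)⁻¹ * x)⁻¹ := by group
    rw [this]
    exact T.inv_mem h1

variable [Finite S] {p : ℕ} [hp : Fact p.Prime]

/-- A subgroup containing `D ⊇ [S,S]` is normalized by `S`. -/
theorem conj_mem_of_D {D B : Subgroup Ω} (hD : ∀ x ∈ S, ∀ y ∈ S, x * y * x⁻¹ * y⁻¹ ∈ D)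
    (hDB : D ≤ B) (hBS : B ≤ S) {s b : Ω} (hs : s ∈ S) (hb : b ∈ B) : s * b * s⁻¹ ∈ B := by
  have : s * b * s⁻¹ = (s * b * s⁻¹ * b⁻¹) * b := by group
  rw [this]
  exact B.mul_mem (hDB (hD s hs b (hBS hb))) hb

/-- Alperin-type induction adapted to `#(S : Z(S)) = p ^ 2`. -/
theorem ind (hS : IsPGroup p S) {F : FusionSystem S} (hF : F.IsSaturated p)
    {D : Subgroup Ω} (hDZ : D ≤ ZS S) (hD : ∀ x ∈ S, ∀ y ∈ S, x * y * x⁻¹ * y⁻¹ ∈ D)
    (C : Subgroup Ω → (Ω → Ω) → Prop)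
    (hcongr : ∀ {P : Subgroup Ω} {f g : Ω → Ω}, C P f → (∀ x ∈ P, f x = g x) → C P g)
    (hmono : ∀ {P R : Subgroup Ω} {f : Ω → Ω}, Mor F P f → C P f → R ≤ P → C R f)
    (hcomp : ∀ {P Q : Subgroup Ω} {f g : Ω → Ω}, Mor F P f → Mor F Q g → C P f → C Q g →
      (∀ x ∈ P, f x ∈ Q) → C P (g ∘ f))
    (hinv : ∀ {P Q : Subgroup Ω} {f g : Ω → Ω}, Iso F P Q f → Iso F Q P g →
      (∀ x ∈ P, g (f x) = x) → C P f → C Q g)
    (hid : ∀ U : Subgroup Ω, U ≤ S → C U id)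
    (hSaut : ∀ f, Iso F S S f → C S f)
    (hmid : ∀ B : Subgroup Ω, ZS S < B → B < S → ∃ J : Subgroup (MulAut B),
      (∀ κ ∈ J, κ ∈ F.autGroup B → C B (autFun κ)) ∧
      ∀ κ ∈ autInducedBy S B, ∀ h ∈ F.autGroup B, h * κ * h⁻¹ ∈ J) :
    ∀ (P : Subgroup Ω) (f : Ω → Ω), Mor F P f → C P f := by
  refine alperin_induction hS hF C hcongr hmono hcomp hinv (fun U hU => ?_)
  have hUS := hU.1
  by_cases h1 : centralizerIn S U ≤ U
  · have hZU : ZS S ≤ U := by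
      intro z hz
      apply h1
      rw [mem_centralizerIn_iff]
      exact ⟨ZS_le hz, fun x hx => ZS_comm hz (hUS hx)⟩
    by_cases h2 : U = S
    · subst h2
      left
      intro α hα
      exact hSaut _ (iso_autFun ((mem_autGroup_iff F le_rfl α).1 hα))
    · right
      have hUlt : U < S := lt_of_le_of_ne hUS h2
      have hZlt : ZS S < U := by
        refine lt_of_le_of_ne hZU (fun h => h2 (le_antisymm hUS ?_))
        intro s hs
        apply h1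
        rw [mem_centralizerIn_iff]
        refine ⟨hs, fun x hx => ?_⟩
        exact (ZS_comm (h ▸ hx) hs).symm
      obtain ⟨J, hJ1, hJ2⟩ := hmid U hZlt hUlt
      refine ⟨coreIn (F.autGroup U) J, coreIn_le _ _, coreIn_conj _ _,
        fun κ hκ => hJ1 κ (coreIn_le' _ _ hκ) (coreIn_le _ _ hκ), ?_⟩
      obtain ⟨s, hs, hsU⟩ := SetLike.not_le_iff_exists.1 (not_le_of_gt hUlt)
      refine ⟨s, ?_, hsU⟩
      have : Finite U := Helper87.finite_of_le hUS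
      have hsN : s ∈ Subgroup.normalizer (U : Set Ω) :=
        Cfsg.Agent.Lib.Helper86.mem_normalizer_of_forall_conj_mem
          (fun y hy => conj_mem_of_D hD (hDZ.trans hZU) hUS hs hy)
      have hκ := (conjToAut S U ⟨s, hs, hsN⟩).2
      refine ⟨hs, _, ⟨autInducedBy_le_autGroup F hUS hκ, fun h hh => hJ2 _ hκ h hh⟩, fun x => ?_⟩
      rw [conjToAut_apply]
  · right
    obtain ⟨g, hg, hgU⟩ := SetLike.not_le_iff_exists.1 h1
    refine ⟨⊥, bot_le, ?_, ?_, g, ?_, hgU⟩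
    · intro α _ κ hκ
      rw [Subgroup.mem_bot] at hκ
      subst hκ
      simp
    · intro κ hκ
      rw [Subgroup.mem_bot] at hκ
      subst hκ
      refine hcongr (hid U hUS) (fun x hx => ?_)
      rw [autFun_apply _ hx]
      rfl
    · rw [mem_centralizerIn_iff] at hg
      refine ⟨hg.1, 1, Subgroup.one_mem _, fun x => ?_⟩
      rw [← hg.2 x x.2]
      simp

/-- An `F`-automorphism `k` of `B ≥ Z(S)` with `k(D) ≤ Z(S)` preserves `Z(S)`. -/
theorem inactive (hS : IsPGroup p S) {F : FusionSystem S} (hF : F.IsSaturated p)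
    {D : Subgroup Ω} (hD : ∀ x ∈ S, ∀ y ∈ S, x * y * x⁻¹ * y⁻¹ ∈ D) (hDZ : D ≤ ZS S)
    {B : Subgroup Ω} (hZB : ZS S ≤ B) {k : Ω → Ω} (hk : Iso F B B k)
    (hkD : ∀ d ∈ D, k d ∈ ZS S) :
    (∀ z ∈ ZS S, k z ∈ ZS S) ∧ ∀ z ∈ B, k z ∈ ZS S → z ∈ ZS S := by
  obtain ⟨kinv, hkinv, h1, h2⟩ := hk.symm
  have hm : Mor F (ZS S) kinv := hkinv.mor.mono hZB
  have hiso : Iso F (ZS S) (img (ZS S) kinv) kinv := hm.iso_img
  obtain ⟨g0, hg0, -, -⟩ := hiso.symm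
  have hD0B : img (ZS S) kinv ≤ B := by
    intro y hy
    obtain ⟨z, hz, rfl⟩ := (hm.mem_img y).1 hy
    exact hkinv.map_mem (hZB hz)
  have key : ∀ g ∈ S, ∀ d ∈ img (ZS S) kinv, g * d * g⁻¹ = d := by
    intro g hg
    refine Cfsg.Agent.S5274.conj_trivial hS hF hg0 le_rfl hg (fun d hd => ?_)
    have he : g * d * g⁻¹ * d⁻¹ ∈ D := hD g hg d (hk.le (hD0B hd))
    have he' : g * d * g⁻¹ * d⁻¹ ∈ img (ZS S) kinv :=
      (hm.mem_img _).2 ⟨k _, hkD _ he, h1 _ (hZB (hDZ he))⟩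
    have : g * d * g⁻¹ = (g * d * g⁻¹ * d⁻¹) * d := by group
    rw [this]
    exact Subgroup.mul_mem _ he' hd
  have hinvZ : ∀ z ∈ ZS S, kinv z ∈ ZS S := by
    intro z hz
    have hd : kinv z ∈ img (ZS S) kinv := (hm.mem_img _).2 ⟨z, hz, rfl⟩
    refine mem_ZS.2 ⟨hk.le (hD0B hd), fun s hs => ?_⟩
    have := key s hs _ hd
    calc s * kinv z = (s * kinv z * s⁻¹) * s := by group
      _ = kinv z * s := by rw [this]
  refine ⟨fun z hz => ?_, fun z hz hkz => ?_⟩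
  · have : Finite (ZS S) := Helper87.finite_of_le ZS_le
    obtain ⟨z', hz', e⟩ := (hm.iso_self hinvZ).surj hz
    rw [← e, h2 _ (hZB hz')]
    exact hz'
  · rw [← h1 z hz]
    exact hinvZ _ hkz

/-- `F`-automorphisms of `S` preserve the centre. -/
theorem aut_ZS {F : FusionSystem S} {f : Ω → Ω} (hf : Iso F S S f) {z : Ω} (hz : z ∈ ZS S) :
    f z ∈ ZS S := by
  refine mem_ZS.2 ⟨hf.map_mem (ZS_le hz), fun s hs => ?_⟩
  obtain ⟨s', hs', rfl⟩ := hf.surj hs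
  rw [← hf.mor.map_mul hs' (ZS_le hz), ← hf.mor.map_mul (ZS_le hz) hs', ZS_comm hz hs']

/-- The elements of `Z(S)` which stay in `Z(S)` under all `F`-automorphisms of overgroups of `Z(S)`. -/
def Y0 (F : FusionSystem S) : Subgroup Ω where
  carrier := {z | z ∈ ZS S ∧ ∀ (B : Subgroup Ω) (h : Ω → Ω), ZS S ≤ B → Iso F B B h → h z ∈ ZS S}
  mul_mem' := by
    rintro a b ⟨ha, ha'⟩ ⟨hb, hb'⟩
    refine ⟨(ZS S).mul_mem ha hb, fun B h hB hh => ?_⟩
    rw [hh.mor.map_mul (hB ha) (hB hb)]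
    exact (ZS S).mul_mem (ha' B h hB hh) (hb' B h hB hh)
  one_mem' := ⟨(ZS S).one_mem, fun B h _ hh => by rw [hh.mor.map_one]; exact (ZS S).one_mem⟩
  inv_mem' := by
    rintro a ⟨ha, ha'⟩
    refine ⟨(ZS S).inv_mem ha, fun B h hB hh => ?_⟩
    rw [hh.mor.map_inv (hB ha)]
    exact (ZS S).inv_mem (ha' B h hB hh)

theorem mem_Y0 {F : FusionSystem S} {z : Ω} : z ∈ Y0 F ↔ z ∈ ZS S ∧
    ∀ (B : Subgroup Ω) (h : Ω → Ω), ZS S ≤ B → Iso F B B h → h z ∈ ZS S := Iff.rfl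

theorem aut_Y0 {F : FusionSystem S} {f : Ω → Ω} (hf : Iso F S S f) {x : Ω} (hx : x ∈ Y0 F) :
    f x ∈ Y0 F := by
  obtain ⟨finv, hfinv, h1, h2⟩ := hf.symm
  refine ⟨aut_ZS hf hx.1, fun B h hB hh => ?_⟩
  have hBS := hh.le
  have hm : Mor F B finv := hfinv.mor.mono hBS
  have iso1 : Iso F B (img B finv) finv := hm.iso_img
  have iso2 : Iso F (img B finv) B f := by
    refine ⟨hf.mor.mono hm.img_le, fun y => ⟨fun hy => ?_, ?_⟩⟩
    · exact ⟨finv y, (hm.mem_img _).2 ⟨y, hy, rfl⟩, h2 y (hBS hy)⟩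
    · rintro ⟨w, hw, rfl⟩
      obtain ⟨y, hy, rfl⟩ := (hm.mem_img _).1 hw
      rw [h2 y (hBS hy)]
      exact hy
  have hZ' : ZS S ≤ img B finv := by
    intro z hz
    exact (hm.mem_img _).2 ⟨f z, hB (aut_ZS hf hz), h1 z (ZS_le hz)⟩
  have h3 := hx.2 _ _ hZ' ((iso2.trans hh).trans iso1)
  have h4 := aut_ZS hf h3
  have h5 : f ((finv ∘ (h ∘ f)) x) = h (f x) :=
    h2 _ (hBS (hh.map_mem (hB (aut_ZS hf hx.1))))
  rw [h5] at h4
  exact h4

theorem Y0_stronglyClosed (hS : IsPGroup p S) {F : FusionSystem S} (hF : F.IsSaturated p)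
    {D : Subgroup Ω} (hDZ : D ≤ ZS S) (hD : ∀ x ∈ S, ∀ y ∈ S, x * y * x⁻¹ * y⁻¹ ∈ D) :
    F.StronglyClosed (Y0 F) := by
  have main := ind hS hF hDZ hD (fun P f => ∀ x ∈ P, (x ∈ Y0 F ↔ f x ∈ Y0 F)) ?_ ?_ ?_ ?_ ?_ ?_ ?_
  · rw [stronglyClosed_iff]
    exact ⟨fun z hz => ZS_le hz.1, fun R f hf x hx hxY => (main R f hf x hx).1 hxY⟩
  · intro P f g h e x hx
    rw [← e x hx]
    exact h x hx
  · intro P R f _ h hR x hx
    exact h x (hR hx)
  · intro P Q f g _ _ h h' hPQ x hx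
    exact (h x hx).trans (h' _ (hPQ x hx))
  · intro P Q f g hf _ hgf h y hy
    obtain ⟨x, hx, rfl⟩ := hf.surj hy
    rw [hgf x hx]
    exact (h x hx).symm
  · intro U _ x _
    exact Iff.rfl
  · intro f hf x hx
    refine ⟨aut_Y0 hf, fun h => ?_⟩
    obtain ⟨finv, hfinv, h1, -⟩ := hf.symm
    rw [← h1 x hx]
    exact aut_Y0 hfinv h
  · intro B hZB hBS
    refine ⟨fixJ B (Y0 F), ?_, ?_⟩
    · intro κ hκ _ x hx
      rw [autFun_apply κ hx]
      constructor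
      · intro hxY
        rw [hκ ⟨x, hx⟩ hxY]
        exact hxY
      · intro hy
        have h1 := hκ _ hy
        have h2 : κ ⟨x, hx⟩ = ⟨x, hx⟩ := κ.injective h1
        rw [h2] at hy
        exact hy
    · intro κ hκ h hh y hy
      obtain ⟨s, hs, e⟩ := (mem_autInducedBy_iff S B κ).1 hκ
      have hh' : Iso F B B (autFun h⁻¹) :=
        iso_autFun ((mem_autGroup_iff F hBS.le h⁻¹).1 (Subgroup.inv_mem _ hh))
      have hw : ((h⁻¹ y : B) : Ω) ∈ ZS S := by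
        rw [← autFun_coe]
        exact hy.2 B _ hZB.le hh'
      have hκw : κ (h⁻¹ y) = h⁻¹ y := by
        apply Subtype.ext
        rw [e, ZS_comm hw hs]
        group
      show h (κ (h⁻¹ y)) = y
      rw [hκw]
      exact MulAut.apply_inv_self _ h y

theorem Y0_eq_bot (hS : IsPGroup p S) {F : FusionSystem S} (hF : F.IsSaturated p)
    {D : Subgroup Ω} (hDZ : D ≤ ZS S) (hD : ∀ x ∈ S, ∀ y ∈ S, x * y * x⁻¹ * y⁻¹ ∈ D)
    (hcore : F.core = ⊥) : Y0 F = ⊥ := by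
  have hab : IsMulCommutative (Y0 F) :=
    ⟨⟨fun a b => Subtype.ext (ZS_comm b.2.1 (ZS_le a.2.1))⟩⟩
  have hn := Cfsg.Agent.Lib.Helper86.isNormal_of_abelian_stronglyClosed hS F hF hab
    (Y0_stronglyClosed hS hF hDZ hD)
  rw [eq_bot_iff, ← hcore]
  exact le_sSup hn

end Cfsg.Agent.Lib.Helper16.CIFusion
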