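import Cfsg.Agent.Lib.Helper16.CIActive

set_option autoImplicit false
set_option linter.unusedSectionVars false

/-! Saturated fusion systems over a `p`-group whose centre has index `p ^ 2`: more on the
automorphisms of the abelian subgroups of index `p`. -/

namespace Cfsg.Agent.Lib.Helper16.CIFusion

open Cfsg Cfsg.FusionSystem Cfsg.Agent.Lib.Helper87 Cfsg.Agent.Lib.Helper16.CenterIndex

variable {Ω : Type*} [Group Ω] {S : Subgroup Ω} [Finite S] {p : ℕ} [hp : Fact p.Prime]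
variable {F : FusionSystem S} {D : Subgroup Ω}

theorem Setup.decompB (H : Setup p F D) {B : Subgroup Ω} (hZB : ZS S ≤ B) {k : Ω → Ω}
    (hk : Iso F B B k) {c : Ω} (hc : c ∈ D) (hkc : k c ∉ ZS S) :
    ∀ z ∈ B, ∃ m : ℕ, k (z * c ^ m) ∈ ZS S := by
  obtain ⟨h1, h3⟩ := H.mid hZB hk hc hkc
  have hcB : c ∈ B := hZB (H.hDZ hc)
  have hkcB : k c ∈ B := hk.map_mem hcB
  have hBS := hk.le
  obtain ⟨x, hx, hne⟩ := exists_not_comm' (hBS hkcB) hkc
  have hxB : x ∉ B := by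
    intro hxB
    apply hne
    rw [comm_of_mid H.hS H.hidx hZB h3 _ hkcB _ hxB]
    group
  intro z hz
  have hkzB : k z ∈ B := hk.map_mem hz
  obtain ⟨m, hm⟩ := exists_pow_eq H.hDc (H.hD _ (hBS hkcB) x hx) hne
    (D.inv_mem (H.hD _ (hBS hkzB) x hx))
  refine ⟨m, ?_⟩
  have hb : k (z * c ^ m) ∈ B := hk.map_mem (B.mul_mem hz (B.pow_mem hcB m))
  refine mem_ZS_of_comm H.hS H.hidx h1 h3 hx hxB hb ?_
  have e1 : k (z * c ^ m) = k z * (k c) ^ m := by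
    rw [hk.mor.map_mul hz (B.pow_mem hcB m), hk.mor.map_pow hcB]
  have e2 : (k z * (k c) ^ m) * x * (k z * (k c) ^ m)⁻¹ * x⁻¹ = 1 := by
    rw [comm_mul H.hc (hBS hkzB) (S.pow_mem (hBS hkcB) m) hx, comm_pow H.hc (hBS hkcB) hx, hm]
    group
  rw [e1]
  calc x * (k z * (k c) ^ m)
      = ((k z * (k c) ^ m) * x * (k z * (k c) ^ m)⁻¹ * x⁻¹)⁻¹ * ((k z * (k c) ^ m) * x) := by group
    _ = (k z * (k c) ^ m) * x := by rw [e2]; group

/-- The `S`-class of a noncentral element `w` is the coset `w D`. -/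
theorem Setup.exists_conj (H : Setup p F D) {w d : Ω} (hw : w ∈ S) (hwZ : w ∉ ZS S) (hd : d ∈ D) :
    ∃ s ∈ S, s * w * s⁻¹ = w * d := by
  obtain ⟨x, hx, hne⟩ := exists_not_comm hw hwZ
  obtain ⟨j, hj⟩ := exists_pow_eq H.hDc (H.hD x hx w hw) hne hd
  rw [← comm_pow H.hc hx hw] at hj
  refine ⟨x ^ j, S.pow_mem hx j, ?_⟩
  rw [ZS_comm (H.hDZ hd) hw, ← hj]
  group

theorem Setup.exists_comm (H : Setup p F D) : ∃ x ∈ S, ∃ y ∈ S, x * y * x⁻¹ * y⁻¹ ≠ 1 := by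
  by_contra h
  push Not at h
  have hle : S ≤ ZS S := by
    intro z hz
    refine mem_ZS.2 ⟨hz, fun s hs => ?_⟩
    have := h s hs z hz
    calc s * z = (s * z * s⁻¹ * z⁻¹) * (z * s) := by group
      _ = z * s := by rw [this, one_mul]
  have he : ZS S = S := le_antisymm ZS_le hle
  have h1 := H.hidx
  rw [he] at h1
  have hpos : 0 < Nat.card S := Nat.card_pos
  have hp1 := hp.out.one_lt
  have : 1 < p ^ 2 := Nat.one_lt_pow (by norm_num) hp1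
  nlinarith

theorem Setup.aut_D (H : Setup p F D) {f : Ω → Ω} (hf : Mor F S f) : ∀ d ∈ D, f d ∈ D := by
  obtain ⟨x, hx, y, hy, hne⟩ := H.exists_comm
  intro d hd
  obtain ⟨m, rfl⟩ := exists_pow_eq H.hDc (H.hD x hx y hy) hne hd
  have hxy : x * y * x⁻¹ * y⁻¹ ∈ S := S.mul_mem (S.mul_mem (S.mul_mem hx hy) (S.inv_mem hx)) (S.inv_mem hy)
  rw [hf.map_pow hxy]
  apply D.pow_mem
  rw [hf.map_mul (S.mul_mem (S.mul_mem hx hy) (S.inv_mem hx)) (S.inv_mem hy),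
    hf.map_mul (S.mul_mem hx hy) (S.inv_mem hx), hf.map_mul hx hy, hf.map_inv hx, hf.map_inv hy]
  exact H.hD _ (hf.mem hx) _ (hf.mem hy)

/-- An automorphism of `B` which keeps `D` inside the centre normalizes `D`. -/
theorem Setup.inactive_D (H : Setup p F D) {B : Subgroup Ω} (hZB : ZS S ≤ B) {k : Ω → Ω}
    (hk : Iso F B B k) (hkD : ∀ d ∈ D, k d ∈ ZS S) : ∀ d ∈ D, k d ∈ D := by
  have : Finite (ZS S) := Helper87.finite_of_le ZS_le
  have iso : Iso F (ZS S) (ZS S) k :=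
    (hk.mor.mono hZB).iso_self (inactive H.hS H.hF H.hD H.hDZ hZB hk hkD).1
  have hrec := fullyNormalized_receptive H.hS H.hF
    (Cfsg.Agent.S5274.fullyNormalized_of_central F (le_refl (ZS S)))
  obtain ⟨f', hf', hag, -⟩ := receptive_extend_centralizer hrec iso
  have hle : S ≤ ZS S ⊔ centralizerIn S (ZS S) := by
    refine le_trans ?_ le_sup_right
    intro s hs
    rw [mem_centralizerIn_iff]
    exact ⟨hs, fun x hx => (ZS_comm hx hs).symm⟩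
  intro d hd
  rw [← hag d (H.hDZ hd)]
  exact H.aut_D (hf'.mono hle) d hd

/-- The subgroup `{y ∈ Z(S) : h y ∈ Z(S)}` is the same for all `h ∈ Aut_F(B)` moving `D` out of
the centre. -/
theorem Setup.same_Y (H : Setup p F D) {B : Subgroup Ω} (hZB : ZS S ≤ B) {h₁ h₂ : Ω → Ω}
    (hh₁ : Iso F B B h₁) (hh₂ : Iso F B B h₂) {c : Ω} (hc : c ∈ D) (hc1 : c ≠ 1)
    (hc₁ : h₁ c ∉ ZS S) (hc₂ : h₂ c ∉ ZS S) : ∀ y ∈ ZS S, h₁ y ∈ ZS S → h₂ y ∈ ZS S := by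
  obtain ⟨g₁, hg₁, hgh, hhg⟩ := hh₁.symm
  have hgc := H.inv_active hZB hh₁ hg₁ hgh hc hc1 hc₁
  have hBS := hh₁.le
  have hcB : c ∈ B := hZB (H.hDZ hc)
  obtain ⟨m, hm⟩ := H.decompB hZB hh₂ hc hc₂ (g₁ c) (hg₁.map_mem hcB)
  obtain ⟨s, hs, hs'⟩ := H.exists_conj (hBS (hg₁.map_mem hcB)) hgc (D.pow_mem hc m)
  have isok := (hg₁.trans (H.iso_conj hZB hBS hs)).trans hh₂
  have hkc : (h₂ ∘ ((fun y => s * y * s⁻¹) ∘ g₁)) c ∈ ZS S := by
    show h₂ (s * g₁ c * s⁻¹) ∈ ZS S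
    rw [hs']
    exact hm
  have hin := (inactive H.hS H.hF H.hD H.hDZ hZB isok (H.map_D isok.mor hc hc1 hcB hkc)).1
  intro y hy hy1
  have h3 := hin _ hy1
  change h₂ (s * g₁ (h₁ y) * s⁻¹) ∈ ZS S at h3
  rwa [hgh y (hZB hy), conj_ZS hs hy] at h3

/-- Distinct abelian subgroups of index `p` meet in the centre. -/
theorem Setup.not_mem_of_ne (H : Setup p F D) {B B' : Subgroup Ω} (h1 : ZS S < B) (h3 : B < S)
    (h1' : ZS S < B') (h3' : B' < S) (hne : B ≠ B') {w : Ω} (hw : w ∈ B') (hwZ : w ∉ ZS S) :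
    w ∉ B := by
  intro hwB
  have hnle : ¬ B ≤ B' := by
    intro hle
    apply hne
    refine eq_of_card_le h3'.le hle ?_
    rw [card_mid H.hS H.hidx h1 h3, card_mid H.hS H.hidx h1' h3']
  obtain ⟨s, hs, hsB'⟩ := SetLike.not_le_iff_exists.1 hnle
  exact hwZ (mem_ZS_of_comm H.hS H.hidx h1' h3' (h3.le hs) hsB' hw
    (comm_of_mid H.hS H.hidx h1.le h3 _ hs _ hwB))

/-- Conjugating an automorphism of `B` by an automorphism of `S`. -/
theorem conj_iso {f : Ω → Ω} (hf : Iso F S S f) {B : Subgroup Ω} (hB : ZS S ≤ B) {h : Ω → Ω}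
    (hh : Iso F B B h) :
    ∃ (B' : Subgroup Ω) (h' : Ω → Ω), ZS S ≤ B' ∧ Iso F B' B' h' ∧ ∀ x ∈ B, h' (f x) = f (h x) := by
  obtain ⟨finv, hfinv, h1, h2⟩ := hf.symm
  have hBS := hh.le
  have hm : Mor F B f := hf.mor.mono hBS
  have iso1 : Iso F B (img B f) f := hm.iso_img
  have iso2 : Iso F (img B f) B finv := by
    refine ⟨hfinv.mor.mono hm.img_le, fun y => ⟨fun hy => ?_, ?_⟩⟩
    · exact ⟨f y, (hm.mem_img _).2 ⟨y, hy, rfl⟩, h1 y (hBS hy)⟩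
    · rintro ⟨w, hw, rfl⟩
      obtain ⟨y, hy, rfl⟩ := (hm.mem_img _).1 hw
      rw [h1 y (hBS hy)]
      exact hy
  refine ⟨img B f, _, ?_, (iso2.trans hh).trans iso1, fun x hx => ?_⟩
  · intro z hz
    exact (hm.mem_img _).2 ⟨finv z, hB (aut_ZS hfinv hz), h2 z (ZS_le hz)⟩
  · show f (h (finv (f x))) = f (h x)
    rw [h1 x (hBS hx)]

/-- A bound for the hyperfocal subgroup. -/
theorem Setup.hyp_le (H : Setup p F D) {T : Subgroup Ω}
    (hBT : ∀ (B : Subgroup Ω) (h : Ω → Ω), ZS S ≤ B → Iso F B B h → ∀ d ∈ D, h d ∈ T)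
    (hSaut : ∀ f, Iso F S S f → ∀ x ∈ S, x⁻¹ * f x ∈ T) : F.hyperfocalSubgroup p ≤ T := by
  have main := ind H.hS H.hF H.hDZ H.hD (fun P f => ∀ x ∈ P, x⁻¹ * f x ∈ T) ?_ ?_ ?_ ?_ ?_ hSaut ?_
  · unfold FusionSystem.hyperfocalSubgroup
    rw [Subgroup.closure_le]
    rintro y ⟨P, α, x, hP, -, rfl⟩
    have h1 := main P (autFun α.1) ((mem_autGroup_iff F hP α.1).1 α.2) x x.2
    rw [autFun_coe] at h1
    exact h1
  · intro P f g h e x hx
    rw [← e x hx]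
    exact h x hx
  · intro P R f _ h hR x hx
    exact h x (hR hx)
  · intro P Q f g _ _ h h' hPQ x hx
    have : x⁻¹ * (g ∘ f) x = (x⁻¹ * f x) * ((f x)⁻¹ * g (f x)) := by
      show x⁻¹ * g (f x) = _
      group
    rw [this]
    exact T.mul_mem (h x hx) (h' _ (hPQ x hx))
  · intro P Q f g hf _ hgf h y hy
    obtain ⟨x, hx, rfl⟩ := hf.surj hy
    rw [hgf x hx]
    have : (f x)⁻¹ * x = (x⁻¹ * f x)⁻¹ := by group
    rw [this]
    exact T.inv_mem (h x hx)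
  · intro U _ x _
    simp
  · intro B hZB hBS
    refine ⟨modJ B T, ?_, ?_⟩
    · intro κ hκ _ x hx
      rw [autFun_apply κ hx]
      exact hκ ⟨x, hx⟩
    · intro κ hκ h hh x
      obtain ⟨s, hs, e⟩ := (mem_autInducedBy_iff S B κ).1 hκ
      have hiso : Iso F B B (autFun h) := iso_autFun ((mem_autGroup_iff F hBS.le h).1 hh)
      have hd : ((κ (h⁻¹ x) * (h⁻¹ x)⁻¹ : B) : Ω) ∈ D := by
        rw [Subgroup.coe_mul, e, Subgroup.coe_inv]
        exact H.hD s hs _ (hBS.le (h⁻¹ x).2)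
      have h1 := hBT B _ hZB.le hiso _ hd
      rw [autFun_coe] at h1
      have h2 : (h * κ * h⁻¹) x = h (κ (h⁻¹ x) * (h⁻¹ x)⁻¹) * x := by
        rw [map_mul, map_inv, MulAut.apply_inv_self]
        simp [MulAut.mul_apply]
      have h3 : (x : Ω)⁻¹ * ((h * κ * h⁻¹) x : B) = (h (κ (h⁻¹ x) * (h⁻¹ x)⁻¹) : B) := by
        rw [h2, Subgroup.coe_mul, comm_of_mid H.hS H.hidx hZB.le hBS _ (Subtype.coe_prop _) _ x.2]
        group
      rw [h3]
      exact h1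

end Cfsg.Agent.Lib.Helper16.CIFusion
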