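import Cfsg.Agent.Lib.Helper16.CIActive

set_option autoImplicit false
set_option linter.unusedSectionVars false

/-! Saturated fusion systems over a `p`-group whose centre has index `p ^ 2`: the centre has order
`p` when `p` is odd and the core is trivial. -/

namespace Cfsg.Agent.Lib.Helper16.CIFusion

open Cfsg Cfsg.FusionSystem Cfsg.Agent.Lib.Helper87 Cfsg.Agent.Lib.Helper16.CenterIndex

variable {Ω : Type*} [Group Ω] {S : Subgroup Ω} [Finite S] {p : ℕ} [hp : Fact p.Prime]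
variable {F : FusionSystem S} {D : Subgroup Ω}

/-- `Aut_F(Z(S))` has no nontrivial `p`-elements. -/
theorem Setup.paut_trivial (H : Setup p F D) {δ : Ω → Ω} (hδ : Iso F (ZS S) (ZS S) δ)
    (h1 : ∀ d ∈ D, δ d = d) (h2 : ∀ z ∈ ZS S, z⁻¹ * δ z ∈ D) : ∀ z ∈ ZS S, δ z = z := by
  obtain ⟨α, hα, e⟩ := hδ.exists_aut
  have hfa := fullyNormalized_fullyAutomized H.hS H.hF
    (Cfsg.Agent.S5274.fullyNormalized_of_central F (le_refl (ZS S)))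
  have hpow : α ^ p = 1 := by
    ext x
    have hc : ((x⁻¹ * α x : ZS S) : Ω) ∈ D := by
      have := h2 x x.2
      rw [← e] at this
      exact this
    have hfix : α (x⁻¹ * α x) = x⁻¹ * α x := by
      apply Subtype.ext
      rw [e]
      exact h1 _ hc
    have h3 := Cfsg.Agent.Lib.Helper89.pow_apply_of_fixed α x (x⁻¹ * α x) (by group) hfix p
    rw [h3]
    have h4 : (x⁻¹ * α x) ^ p = 1 := by
      apply Subtype.ext
      exact pow_card_D H.hDc hc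
    rw [h4, mul_one]
    rfl
  have hAp : IsPGroup p (Subgroup.zpowers α) := by
    rintro ⟨g, hg⟩
    obtain ⟨k, rfl⟩ := Subgroup.mem_zpowers_iff.1 hg
    refine ⟨1, Subtype.ext ?_⟩
    show (α ^ k) ^ (p ^ 1) = 1
    rw [pow_one, ← zpow_natCast, ← zpow_mul, mul_comm, zpow_mul, zpow_natCast, hpow, one_zpow]
  obtain ⟨f, hf, hA⟩ := exists_iso_conj_into hfa (Iso.refl F ZS_le) (Subgroup.zpowers α)
    (by rw [Subgroup.zpowers_le]; exact hα) hAp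
  intro z hz
  obtain ⟨k, hk, hk'⟩ := hA α (Subgroup.mem_zpowers α)
  have h5 := hk' ⟨z, hz⟩
  rw [e] at h5
  change f (δ z) = k * f z * k⁻¹ at h5
  rw [conj_ZS hk (hf.map_mem hz)] at h5
  exact hf.mor.inj (hδ.map_mem hz) hz h5

/-- The restriction of `τ` to the centre. -/
theorem Setup.tau_ZS (H : Setup p F D) {B : Subgroup Ω} (hZB : ZS S ≤ B) {k : Ω → Ω}
    (hk : Iso F B B k) {c : Ω} (hc : c ∈ D) (hc1 : c ≠ 1) (hkc : k c ∉ ZS S) :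
    ∃ τ, Mor F (ZS S) τ ∧ (∀ d ∈ D, τ d = d⁻¹) ∧ (∀ z ∈ ZS S, z⁻¹ * τ z ∈ D) ∧
      ∀ y ∈ ZS S, k y ∈ ZS S → τ y = y := by
  obtain ⟨τ, hτ, hτc, hτy⟩ := H.tau hZB hk hc hc1 hkc
  have hcB : c ∈ B := hZB (H.hDZ hc)
  refine ⟨τ, hτ.mor.mono hZB, fun d hd => ?_, fun z hz => ?_, hτy⟩
  · obtain ⟨m, rfl⟩ := exists_pow_eq H.hDc hc hc1 hd
    rw [hτ.mor.map_pow hcB, hτc, inv_pow]
  · obtain ⟨m, hm⟩ := H.decomp hZB hk hc hkc z hz
    have h1 := hτy _ ((ZS S).mul_mem hz ((ZS S).pow_mem (H.hDZ hc) m)) hm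
    rw [hτ.mor.map_mul (hZB hz) (B.pow_mem hcB m), hτ.mor.map_pow hcB, hτc] at h1
    have h2 : z⁻¹ * τ z = c ^ m * c ^ m := by
      have : τ z = z * c ^ m * ((c⁻¹) ^ m)⁻¹ := by rw [← h1]; group
      rw [this, inv_pow]
      group
    rw [h2]
    exact D.mul_mem (D.pow_mem hc m) (D.pow_mem hc m)

theorem Setup.uniq (H : Setup p F D) {f₁ f₂ : Ω → Ω} (h₁ : Mor F (ZS S) f₁) (h₂ : Mor F (ZS S) f₂)
    (e₁ : ∀ d ∈ D, f₁ d = d⁻¹) (e₂ : ∀ d ∈ D, f₂ d = d⁻¹) (m₁ : ∀ z ∈ ZS S, z⁻¹ * f₁ z ∈ D)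
    (m₂ : ∀ z ∈ ZS S, z⁻¹ * f₂ z ∈ D) : ∀ z ∈ ZS S, f₁ z = f₂ z := by
  have : Finite (ZS S) := Helper87.finite_of_le ZS_le
  have hmem : ∀ {f : Ω → Ω}, (∀ z ∈ ZS S, z⁻¹ * f z ∈ D) → ∀ z ∈ ZS S, f z ∈ ZS S := by
    intro f hf z hz
    have : f z = z * (z⁻¹ * f z) := by group
    rw [this]
    exact (ZS S).mul_mem hz (H.hDZ (hf z hz))
  have i₁ := h₁.iso_self (hmem m₁)
  have i₂ := h₂.iso_self (hmem m₂)
  obtain ⟨g, hg, hgf, hfg⟩ := i₁.symm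
  have hgd : ∀ d ∈ D, g d = d⁻¹ := by
    intro d hd
    have h3 := hgf d⁻¹ (H.hDZ (D.inv_mem hd))
    rw [e₁ _ (D.inv_mem hd), inv_inv] at h3
    exact h3
  have hgz : ∀ z ∈ ZS S, z⁻¹ * g z ∈ D := by
    intro z hz
    have h3 := m₁ (g z) (hg.map_mem hz)
    rw [hfg z hz] at h3
    have : z⁻¹ * g z = ((g z)⁻¹ * z)⁻¹ := by group
    rw [this]
    exact D.inv_mem h3
  have key := H.paut_trivial (i₂.trans hg) (fun d hd => ?_) (fun z hz => ?_)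
  · intro z hz
    have h3 := key z hz
    change g (f₂ z) = z at h3
    rw [← hfg _ (i₂.map_mem hz), h3]
  · show g (f₂ d) = d
    rw [e₂ d hd, hgd _ (D.inv_mem hd), inv_inv]
  · show z⁻¹ * g (f₂ z) ∈ D
    have : z⁻¹ * g (f₂ z) = (z⁻¹ * f₂ z) * ((f₂ z)⁻¹ * g (f₂ z)) := by group
    rw [this]
    exact D.mul_mem (m₂ z hz) (hgz _ (i₂.map_mem hz))

/-- For odd `p` and trivial core, the centre of `S` is `D`. -/
theorem Setup.odd_ZS_le (H : Setup p F D) (hp2 : p ≠ 2) (hcore : F.core = ⊥) : ZS S ≤ D := by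
  obtain ⟨c, hc, hc1⟩ := exists_ne_one H.hDc
  have hY0 := Y0_eq_bot H.hS H.hF H.hDZ H.hD hcore
  have hcY : c ∉ Y0 F := by
    rw [hY0, Subgroup.mem_bot]
    exact hc1
  have hcZ := H.hDZ hc
  rw [mem_Y0] at hcY
  push Not at hcY
  obtain ⟨B₁, k₁, hB₁, hk₁, hkc₁⟩ := hcY hcZ
  obtain ⟨τ₁, hτ₁, hd₁, hz₁, hy₁⟩ := H.tau_ZS hB₁ hk₁ hc hc1 hkc₁
  have hY : ∀ y ∈ ZS S, k₁ y ∈ ZS S → y = 1 := by
    intro y hy hky
    rw [← Subgroup.mem_bot, ← hY0, mem_Y0]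
    refine ⟨hy, fun B k hB hk => ?_⟩
    by_cases hkc : k c ∈ ZS S
    · exact (inactive H.hS H.hF H.hD H.hDZ hB hk (H.map_D hk.mor hc hc1 (hB hcZ) hkc)).1 y hy
    · obtain ⟨τ, hτ, hd, hz, hy'⟩ := H.tau_ZS hB hk hc hc1 hkc
      have e := H.uniq hτ hτ₁ hd hd₁ hz hz₁
      obtain ⟨m, hm⟩ := H.decomp hB hk hc hkc y hy
      have hcm : c ^ m ∈ ZS S := (ZS S).pow_mem hcZ m
      have h1 := hy' _ ((ZS S).mul_mem hy hcm) hm
      rw [hτ.map_mul hy hcm, e y hy, hy₁ y hy hky, hd _ (D.pow_mem hc m)] at h1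
      have h2 : (c ^ m) ^ 2 = 1 := by
        have h3 : (c ^ m)⁻¹ = c ^ m := mul_left_cancel h1
        rw [pow_two]
        nth_rewrite 1 [← h3]
        group
      have h4 : (c ^ m) ^ p = 1 := pow_card_D H.hDc (D.pow_mem hc m)
      have hcop : Nat.Coprime 2 p := by
        rw [Nat.coprime_primes Nat.prime_two hp.out]
        exact fun h => hp2 h.symm
      have h5 : c ^ m = 1 := by
        have h6 := pow_gcd_eq_one.2 ⟨h2, h4⟩
        rwa [Nat.Coprime.gcd_eq_one hcop, pow_one] at h6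
      rw [h5, mul_one] at hm
      exact hm
  intro z hz
  obtain ⟨m, hm⟩ := H.decomp hB₁ hk₁ hc hkc₁ z hz
  have h1 := hY _ ((ZS S).mul_mem hz ((ZS S).pow_mem hcZ m)) hm
  have : z = (c ^ m)⁻¹ := eq_inv_of_mul_eq_one_left h1
  rw [this]
  exact D.inv_mem (D.pow_mem hc m)

end Cfsg.Agent.Lib.Helper16.CIFusion
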