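import Cfsg.Agent.Lib.Helper53.KS18Defs
import Cfsg.Agent.Lib.Helper53.Basic
import Cfsg.Agent.Lib.Helper86.KS18BAS

/-!
Ladder KS18, rung T0: the subgroup `T₀ = [Q₁,P₁][Q₂,P₂]` of index two in `T`.
-/

set_option autoImplicit false

namespace Cfsg.Agent.Lib.Helper16.KS18

open Cfsg Subgroup
open Cfsg.Agent.Lib.Helper53
open Cfsg.Agent.Lib.Helper53.JC (cjj QQ)
open Cfsg.Agent.Lib.Helper53.SA2 (BHyp)
open Cfsg.Agent.Lib.Helper53.KS18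
open scoped commutatorElement

variable {G : Type*} [Group G] [Finite G]

omit [Finite G] in
/-- index two: products of non-members are members -/
theorem t0_mul_mem {Q T : Subgroup G} (hi : Q.relIndex T = 2) {a b : G} (ha : a ∈ T) (hb : b ∈ T)
    (ha' : a ∉ Q) (hb' : b ∉ Q) : a * b ∈ Q := by
  have := Subgroup.mul_mem_iff_of_index_two (H := Q.subgroupOf T) hi (a := ⟨a, ha⟩) (b := ⟨b, hb⟩)
  simp only [Subgroup.mem_subgroupOf] at this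
  exact this.2 (iff_of_false ha' hb')

omit [Finite G] in
theorem t0_comm_le_left {Q P : Subgroup G} (hn : P ≤ normalizer (Q : Set G)) : ⁅Q, P⁆ ≤ Q := by
  rw [Subgroup.commutator_le]
  intro q hq p hp
  have h1 : p * q⁻¹ * p⁻¹ ∈ Q := ((Subgroup.mem_normalizer_iff.1 (hn hp)) q⁻¹).1 (Q.inv_mem hq)
  have : ⁅q, p⁆ = q * (p * q⁻¹ * p⁻¹) := by rw [commutatorElement_def]; group
  rw [this]
  exact Q.mul_mem hq h1

omit [Finite G] in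
theorem t0_derived_le {Q P T : Subgroup G} (hTP : T ≤ P) (hi : Q.relIndex T = 2)
    (hn : P ≤ normalizer (Q : Set G)) : ⁅T, T⁆ ≤ ⁅Q, P⁆ := by
  have hN : P ≤ normalizer ((⁅Q, P⁆ : Subgroup G) : Set G) :=
    le_normalizer_commutator hn le_normalizer
  rw [Subgroup.commutator_le]
  intro x hx y hy
  by_cases hxQ : x ∈ Q
  · exact commutator_mem_commutator hxQ (hTP hy)
  by_cases hyQ : y ∈ Q
  · have : ⁅x, y⁆ = ⁅y, x⁆⁻¹ := (commutatorElement_inv y x).symm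
    rw [this]
    exact inv_mem (commutator_mem_commutator hyQ (hTP hx))
  · have hq : x⁻¹ * y ∈ Q := t0_mul_mem hi (T.inv_mem hx) hy (by simpa using hxQ) hyQ
    have e : ⁅x, y⁆ = x * ⁅x⁻¹ * y, x⁆⁻¹ * x⁻¹ := by
      simp only [commutatorElement_def]; group
    rw [e]
    exact ((Subgroup.mem_normalizer_iff.1 (hN (hTP hx))) _).1
      (inv_mem (commutator_mem_commutator hq (hTP hx)))

/-- the basic facts on `W₁ = [Q₁,P₁]` -/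
structure T0W (P₁ P₂ T : Subgroup G) (c₁ c₂ : G) : Prop where
  WQ : ⁅QQ P₁, P₁⁆ ≤ QQ P₁
  PN : P₁ ≤ normalizer ((⁅QQ P₁, P₁⁆ : Subgroup G) : Set G)
  z : c₁ * c₂ ∈ ⁅QQ P₁, P₁⁆
  n₁ : c₁ ∉ ⁅QQ P₁, P₁⁆
  n₂ : c₂ ∉ ⁅QQ P₁, P₁⁆
  D : ∀ w ∈ ⁅QQ P₁, P₁⁆, w ∈ QQ P₂ → w = 1 ∨ w = c₁ * c₂

omit [Finite G] in
theorem t0_w {P₁ P₂ T : Subgroup G} {c₁ c₂ : G} (c : CB P₁ P₂ T c₁ c₂)
    (f : CBF P₁ P₂ T c₁ c₂) : T0W P₁ P₂ T c₁ c₂ := by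
  have hTP₁ : T ≤ P₁ := c.c0.h.syl₁.1
  have hn₁ : P₁ ≤ normalizer (QQ P₁ : Set G) := le_of_eq f.NQ₁.symm
  have hWQ := t0_comm_le_left hn₁
  have hz : c₁ * c₂ ∈ ⁅QQ P₁, P₁⁆ := t0_derived_le hTP₁ f.ind₁ hn₁ f.zc
  have hn1 : c₁ ∉ ⁅QQ P₁, P₁⁆ := fun h =>
    f.nc₁ (commutator_mono (f.QT₁.trans hTP₁) le_rfl h)
  have h22 : c₂ * c₂ = 1 := c.c0.e₂ c₂ c.c₂Q
  have hn2 : c₂ ∉ ⁅QQ P₁, P₁⁆ := by
    intro h
    apply hn1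
    have e : c₁ = (c₁ * c₂) * c₂ := by rw [mul_assoc, h22, mul_one]
    rw [e]
    exact mul_mem hz h
  refine ⟨hWQ, le_normalizer_commutator hn₁ le_normalizer, hz, hn1, hn2, ?_⟩
  intro w hw hw2
  rcases (f.D w).1 ⟨hWQ hw, hw2⟩ with h | h | h | h
  · exact Or.inl h
  · exact absurd (h ▸ hw) hn1
  · exact absurd (h ▸ hw) hn2
  · exact Or.inr h

theorem t0_exists {P₁ P₂ T : Subgroup G} {c₁ c₂ : G} (c : CB P₁ P₂ T c₁ c₂)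
    (f : CBF P₁ P₂ T c₁ c₂) : ∃ w ∈ ⁅QQ P₁, P₁⁆, w ∉ QQ P₂ := by
  by_contra hcon
  push Not at hcon
  have W := t0_w c f
  have h11 : c₁ * c₁ = 1 := c.c0.e₁ c₁ c.c₁Q
  have h22 : c₂ * c₂ = 1 := c.c0.e₂ c₂ c.c₂Q
  have hz1 : c₁ * c₂ ≠ 1 := by
    intro h
    apply f.cne
    have : c₁ = c₂⁻¹ := eq_inv_of_mul_eq_one_left h
    rw [this]
    exact inv_eq_of_mul_eq_one_left h22
  have hle : P₁ ≤ P₂ := by
    rw [← f.Cc₂]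
    intro p hp
    rw [Subgroup.mem_centralizer_singleton_iff]
    have h1 : p * (c₁ * c₂) * p⁻¹ ∈ ⁅QQ P₁, P₁⁆ :=
      ((Subgroup.mem_normalizer_iff.1 (W.PN hp)) _).1 W.z
    have h2 : p * (c₁ * c₂) * p⁻¹ = c₁ * c₂ := by
      rcases W.D _ h1 (hcon _ h1) with h | h
      · exfalso
        apply hz1
        have : c₁ * c₂ = p⁻¹ * (p * (c₁ * c₂) * p⁻¹) * p := by group
        rw [this, h]; group
      · exact h
    have h3 : p * c₁ = c₁ * p := Subgroup.mem_centralizer_singleton_iff.1 (c.c₁P hp)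
    have h4 : p * (c₁ * c₂) = (c₁ * c₂) * p := mul_inv_eq_iff_eq_mul.1 h2
    have h5 : c₁ * (p * c₂) = c₁ * (c₂ * p) := by
      rw [← mul_assoc, ← h3, mul_assoc, h4, mul_assoc]
    exact mul_left_cancel h5
  have heq : P₁ = P₂ := Subgroup.eq_of_le_of_card_ge hle (by rw [f.cardP₁, f.cardP₂])
  exact f.Qne (by rw [heq])

theorem t0 {P₁ P₂ T : Subgroup G} {c₁ c₂ : G} (c : CB P₁ P₂ T c₁ c₂) (f : CBF P₁ P₂ T c₁ c₂) :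
    ∃ T₀ : Subgroup G, T₀ ≤ T ∧ T₀.relIndex T = 2 ∧ c₁ ∉ T₀ ∧ c₂ ∉ T₀ ∧ T ≤ normalizer (T₀ : Set G) ∧
      ∀ a : G, cjj a (QQ P₁) = QQ P₂ → cjj a (QQ P₂) = QQ P₁ → a ∈ normalizer (T₀ : Set G) := by
  have f' : CBF P₂ P₁ T c₂ c₁ := Cfsg.Agent.Lib.Helper86.KS18.bas c.symm
  have W₁ := t0_w c f
  have W₂ := t0_w c.symm f'
  have hTP₁ : T ≤ P₁ := c.c0.h.syl₁.1
  have hTP₂ : T ≤ P₂ := c.c0.h.syl₂.1
  have h11 : c₁ * c₁ = 1 := c.c0.e₁ c₁ c.c₁Q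
  have h22 : c₂ * c₂ = 1 := c.c0.e₂ c₂ c.c₂Q
  have hc₁T : ∀ t ∈ T, t * c₁ = c₁ * t := fun t ht =>
    Subgroup.mem_centralizer_singleton_iff.1 (c.c₁P (hTP₁ ht))
  have hc₂mem : c₂ ∈ T := f.QT₂ c.c₂Q
  have hc₁mem : c₁ ∈ T := f.QT₁ c.c₁Q
  have hcc : c₂ * c₁ = c₁ * c₂ := hc₁T c₂ hc₂mem
  have hnorm : ⁅QQ P₁, P₁⁆ ≤ normalizer ((⁅QQ P₂, P₂⁆ : Subgroup G) : Set G) :=
    (W₁.WQ.trans (f.QT₁.trans hTP₂)).trans W₂.PN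
  have hz₂ : c₁ * c₂ ∈ ⁅QQ P₂, P₂⁆ := hcc ▸ W₂.z
  obtain ⟨w₁, hw₁, hw₁Q⟩ := t0_exists c f
  obtain ⟨w₂, hw₂, hw₂Q⟩ := t0_exists c.symm f'
  have hn₁ : c₁ ∉ ⁅QQ P₁, P₁⁆ ⊔ ⁅QQ P₂, P₂⁆ := by
    intro h
    obtain ⟨a, ha, b, hb, e⟩ := (mem_sup_of_le_normalizer hnorm).1 h
    have hb1 : b ∈ QQ P₁ := by
      have : b = a⁻¹ * c₁ := by rw [e]; group
      rw [this]
      exact mul_mem (inv_mem (W₁.WQ ha)) c.c₁Q
    rcases W₂.D b hb hb1 with h1 | h1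
    · apply W₁.n₁
      rw [e, h1, mul_one]; exact ha
    · apply W₁.n₁
      rw [e, h1, hcc]; exact mul_mem ha W₁.z
  have hn₂ : c₂ ∉ ⁅QQ P₁, P₁⁆ ⊔ ⁅QQ P₂, P₂⁆ := by
    intro h
    obtain ⟨a, ha, b, hb, e⟩ := (mem_sup_of_le_normalizer hnorm).1 h
    have ha2 : a ∈ QQ P₂ := by
      have : a = c₂ * b⁻¹ := by rw [e]; group
      rw [this]
      exact mul_mem c.c₂Q (inv_mem (W₂.WQ hb))
    rcases W₁.D a ha ha2 with h1 | h1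
    · apply W₂.n₁
      rw [e, h1, one_mul]; exact hb
    · apply W₂.n₁
      rw [e, h1]; exact mul_mem hz₂ hb
  have hT₀T : ⁅QQ P₁, P₁⁆ ⊔ ⁅QQ P₂, P₂⁆ ≤ T :=
    sup_le (W₁.WQ.trans f.QT₁) (W₂.WQ.trans f.QT₂)
  refine ⟨⁅QQ P₁, P₁⁆ ⊔ ⁅QQ P₂, P₂⁆, hT₀T, ?_, hn₁, hn₂,
    le_normalizer_sup (hTP₁.trans W₁.PN) (hTP₂.trans W₂.PN), ?_⟩
  · rw [Subgroup.relIndex_eq_two_iff_exists_notMem_and]
    refine ⟨c₁, hc₁mem, hn₁, fun t ht => ?_⟩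
    -- step 1
    obtain ⟨u, hu, hu1⟩ : ∃ u ∈ ⁅QQ P₂, P₂⁆, t * u ∈ QQ P₁ := by
      by_cases h : t ∈ QQ P₁
      · exact ⟨1, one_mem _, by simpa using h⟩
      · exact ⟨w₂, hw₂, t0_mul_mem f.ind₁ ht (f.QT₂ (W₂.WQ hw₂)) h hw₂Q⟩
    obtain ⟨u', hu', hu2⟩ : ∃ u' ∈ ⁅QQ P₁, P₁⁆, t * u * u' ∈ QQ P₂ := by
      by_cases h : t * u ∈ QQ P₂
      · exact ⟨1, one_mem _, by simpa using h⟩
      · exact ⟨w₁, hw₁, t0_mul_mem f.ind₂ (f.QT₁ hu1) (f.QT₁ (W₁.WQ hw₁)) h hw₁Q⟩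
    have hu3 : t * u * u' ∈ QQ P₁ := mul_mem hu1 (W₁.WQ hu')
    have hv : (u * u')⁻¹ ∈ ⁅QQ P₁, P₁⁆ ⊔ ⁅QQ P₂, P₂⁆ :=
      inv_mem (mul_mem (mem_sup_right hu) (mem_sup_left hu'))
    have hvc := hc₁T _ (hT₀T hv)
    have et : t = (t * u * u') * (u * u')⁻¹ := by group
    rcases (f.D _).1 ⟨hu3, hu2⟩ with h | h | h | h
    · right
      rw [et, h, one_mul]; exact hv
    · left
      rw [et, h, mul_assoc, hvc, ← mul_assoc, h11, one_mul]; exact hv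
    · left
      rw [et, h, mul_assoc, hvc, ← mul_assoc, hcc]
      exact mul_mem (mem_sup_left W₁.z) hv
    · right
      rw [et, h]
      exact mul_mem (mem_sup_left W₁.z) hv
  · intro a h1 h2
    have hP₁ : cjj a P₁ = P₂ := by
      have h := normalizer_cj (QQ P₁) a
      change normalizer ((cjj a (QQ P₁) : Subgroup G) : Set G)
        = cjj a (normalizer (QQ P₁ : Set G)) at h
      rw [h1, f.NQ₂, f.NQ₁] at h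
      exact h.symm
    have hP₂ : cjj a P₂ = P₁ := by
      have h := normalizer_cj (QQ P₂) a
      change normalizer ((cjj a (QQ P₂) : Subgroup G) : Set G)
        = cjj a (normalizer (QQ P₂ : Set G)) at h
      rw [h2, f.NQ₂, f.NQ₁] at h
      exact h.symm
    rw [← cj_eq_self_iff, Subgroup.map_sup, Subgroup.map_commutator, Subgroup.map_commutator]
    change ⁅cjj a (QQ P₁), cjj a P₁⁆ ⊔ ⁅cjj a (QQ P₂), cjj a P₂⁆ = _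
    rw [h1, h2, hP₁, hP₂, sup_comm]

end Cfsg.Agent.Lib.Helper16.KS18
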