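import Cfsg.Agent.Lib.Helper53.KS18Defs
import Cfsg.Agent.Lib.Helper53.Basic
import Cfsg.Agent.Lib.Helper37.Extremal
import Cfsg.Agent.Lib.Helper41.KS18HQ
import Cfsg.Agent.Lib.Helper66.KS18EXT
import Cfsg.Agent.Lib.Helper86.KS18BAS
import Cfsg.Agent.Lib.Helper86.KS18SYL
import Cfsg.Agent.Lib.Helper16.KS18T0

/-!
Ladder KS18, rung TR: the central involution `c₁` of `P₁` is not in `O²(G)` (Thompson transfer).
-/

set_option autoImplicit false

namespace Cfsg.Agent.Lib.Helper16.KS18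

open Cfsg Subgroup
open Cfsg.Agent.Lib.Helper53
open Cfsg.Agent.Lib.Helper53.JC (cjj QQ)
open Cfsg.Agent.Lib.Helper53.SA2 (BHyp)
open Cfsg.Agent.Lib.Helper53.KS18

variable {G : Type*} [Group G] [Finite G]

theorem tr_key {P₁ P₂ T : Subgroup G} {c₁ c₂ : G} (c : CB P₁ P₂ T c₁ c₂)
    (f : CBF P₁ P₂ T c₁ c₂) (S : Sylow 2 G) (hTS : T ≤ (S : Subgroup G))
    (sf : SF P₁ P₂ T (S : Subgroup G)) (hcomm : c₁ ∈ commutator G)
    (M : Subgroup ↥(S : Subgroup G)) (hM : M.Normal)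
    (hcyc : IsCyclic (↥(S : Subgroup G) ⧸ M)) (h1 : ∀ m ∈ M, (m : G) ≠ c₁)
    (h2 : ∀ m ∈ M, (m : G) ≠ c₂) : False := by
  obtain ⟨T', hT'S, rfl⟩ : ∃ T' : Subgroup G, T' ≤ (S : Subgroup G) ∧
      T'.subgroupOf (S : Subgroup G) = M :=
    ⟨M.map (S : Subgroup G).subtype, map_subtype_le _,
      comap_map_eq_self_of_injective (subtype_injective _) M⟩
  have ho : orderOf c₁ = 2 :=
    orderOf_eq_prime (by rw [pow_two]; exact c.c0.e₁ c₁ c.c₁Q) c.c₁1
  have hc₁S : c₁ ∈ (S : Subgroup G) := hTS (f.QT₁ c.c₁Q)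
  have hc₁T' : c₁ ∉ T' := fun h => h1 ⟨c₁, hc₁S⟩ (mem_subgroupOf.2 h) rfl
  obtain ⟨g, hg1, hg2, -⟩ :=
    Cfsg.Agent.Lib.Helper37.exists_extremal_conj S T' hT'S hcyc c₁ ho hc₁S hc₁T' hcomm
  rcases Cfsg.Agent.Lib.Helper66.KS18.ext c f S hTS sf (hT'S hg1) hg2 with h | h
  · exact hc₁T' (h ▸ hg1)
  · exact h2 ⟨g * c₁ * g⁻¹, hT'S hg1⟩ (mem_subgroupOf.2 hg1) h

omit [Finite G] in
theorem tr_zpowers {g : G} (h : g * g = 1) : ∀ y ∈ zpowers g, y = 1 ∨ y = g := by
  intro y hy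
  obtain ⟨k, rfl⟩ := mem_zpowers_iff.1 hy
  have h2 : g ^ (2 : ℤ) = 1 := by
    rw [show (2 : ℤ) = ((2 : ℕ) : ℤ) from rfl, zpow_natCast, pow_two]; exact h
  rcases Int.even_or_odd' k with ⟨m, rfl | rfl⟩
  · left
    rw [zpow_mul, h2, one_zpow]
  · right
    rw [zpow_add, zpow_mul, h2, one_zpow, one_mul, zpow_one]

theorem tr {P₁ P₂ T : Subgroup G} {c₁ c₂ : G} (c : CB P₁ P₂ T c₁ c₂) : c₁ ∉ HH G := by
  intro hH
  have : Fact (Nat.Prime 2) := ⟨Nat.prime_two⟩
  have f := Cfsg.Agent.Lib.Helper86.KS18.bas c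
  have h11 := c.c0.e₁ c₁ c.c₁Q
  have hcomm := Cfsg.Agent.Lib.Helper41.KS18.hh_comm hH h11
  obtain ⟨S, hTS⟩ := c.c0.h.syl₁.2.1.exists_le_sylow
  have sf := Cfsg.Agent.Lib.Helper86.KS18.syl c f S hTS
  obtain ⟨T₀, hT₀T, hi, hn₁, hn₂, hTN, hsw⟩ := t0 c f
  have hSN : (S : Subgroup G) ≤ normalizer (T₀ : Set G) := by
    intro a ha
    by_cases haT : a ∈ T
    · exact hTN haT
    · exact hsw a (sf.sw₁ a ha haT) (sf.sw₂ a ha haT)
  have hN : (T₀.subgroupOf (S : Subgroup G)).Normal := normal_subgroupOf_of_le_normalizer hSN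
  have hm1 : ∀ m ∈ T₀.subgroupOf (S : Subgroup G), (m : G) ≠ c₁ :=
    fun m hm e => hn₁ (e ▸ mem_subgroupOf.1 hm)
  have hm2 : ∀ m ∈ T₀.subgroupOf (S : Subgroup G), (m : G) ≠ c₂ :=
    fun m hm e => hn₂ (e ▸ mem_subgroupOf.1 hm)
  by_cases hST : (S : Subgroup G) ≤ T
  · have hcard : Nat.card (↥(S : Subgroup G) ⧸ T₀.subgroupOf (S : Subgroup G)) = 2 := by
      have e : (S : Subgroup G) = T := le_antisymm hST hTS
      change T₀.relIndex (S : Subgroup G) = 2
      rw [e]; exact hi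
    exact tr_key c f S hTS sf hcomm _ hN (isCyclic_of_prime_card hcard) hm1 hm2
  · obtain ⟨x, hxS, hxT⟩ := SetLike.not_le_iff_exists.1 hST
    have hiS : T.relIndex (S : Subgroup G) = 2 := by
      rw [relIndex_eq_two_iff_exists_notMem_and]
      refine ⟨x, hxS, hxT, fun b hb => ?_⟩
      by_cases hbT : b ∈ T
      · exact Or.inr hbT
      · exact Or.inl (sf.ind b hb x hxS hbT hxT)
    have hcard : Nat.card (↥(S : Subgroup G) ⧸ T₀.subgroupOf (S : Subgroup G)) = 4 := by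
      have h := relIndex_mul_relIndex T₀ T (S : Subgroup G) hT₀T hTS
      rw [hi, hiS] at h
      exact h.symm
    have hxx : x * x ∈ T := sf.ind x hxS x hxS hxT hxT
    have hmk : ∀ y : ↥(S : Subgroup G),
        (QuotientGroup.mk y : ↥(S : Subgroup G) ⧸ T₀.subgroupOf (S : Subgroup G)) = 1 ↔
          (y : G) ∈ T₀ := by
      intro y
      rw [QuotientGroup.eq_one_iff, mem_subgroupOf]
    by_cases hx2 : x * x ∈ T₀
    · -- the subgroup `T₀ ∪ T₀ x` of index two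
      have hxb2 : (QuotientGroup.mk ⟨x, hxS⟩ :
          ↥(S : Subgroup G) ⧸ T₀.subgroupOf (S : Subgroup G)) * QuotientGroup.mk ⟨x, hxS⟩ = 1 := by
        rw [← QuotientGroup.mk_mul, hmk]
        exact hx2
      have hxb1 : (QuotientGroup.mk ⟨x, hxS⟩ :
          ↥(S : Subgroup G) ⧸ T₀.subgroupOf (S : Subgroup G)) ≠ 1 := by
        rw [Ne, hmk]
        exact fun h => hxT (hT₀T h)
      have ho : orderOf (QuotientGroup.mk ⟨x, hxS⟩ :
          ↥(S : Subgroup G) ⧸ T₀.subgroupOf (S : Subgroup G)) = 2 :=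
        orderOf_eq_prime (by rw [pow_two]; exact hxb2) hxb1
      have hidx : (zpowers (QuotientGroup.mk ⟨x, hxS⟩ :
          ↥(S : Subgroup G) ⧸ T₀.subgroupOf (S : Subgroup G))).index = 2 := by
        have h := card_mul_index (zpowers (QuotientGroup.mk ⟨x, hxS⟩ :
          ↥(S : Subgroup G) ⧸ T₀.subgroupOf (S : Subgroup G)))
        rw [Nat.card_zpowers, ho, hcard] at h
        omega
      have hidx' : ((zpowers (QuotientGroup.mk ⟨x, hxS⟩ :
          ↥(S : Subgroup G) ⧸ T₀.subgroupOf (S : Subgroup G))).comap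
            (QuotientGroup.mk' (T₀.subgroupOf (S : Subgroup G)))).index = 2 := by
        rw [index_comap_of_surjective _ (QuotientGroup.mk'_surjective _)]
        exact hidx
      have hmem : ∀ m ∈ (zpowers (QuotientGroup.mk ⟨x, hxS⟩ :
          ↥(S : Subgroup G) ⧸ T₀.subgroupOf (S : Subgroup G))).comap
            (QuotientGroup.mk' (T₀.subgroupOf (S : Subgroup G))), (m : G) ∈ T → (m : G) ∈ T₀ := by
        intro m hm hmT
        rcases tr_zpowers hxb2 _ (mem_comap.1 hm) with h | h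
        · exact (hmk m).1 h
        · exfalso
          have h3 : m⁻¹ * ⟨x, hxS⟩ ∈ T₀.subgroupOf (S : Subgroup G) := QuotientGroup.eq.1 h
          have h4 : (m : G)⁻¹ * x ∈ T := hT₀T (mem_subgroupOf.1 h3)
          apply hxT
          have : x = (m : G) * ((m : G)⁻¹ * x) := by group
          rw [this]
          exact mul_mem hmT h4
      have hnorm := normal_of_index_eq_two hidx'
      refine tr_key c f S hTS sf hcomm _ hnorm (isCyclic_of_prime_card (p := 2) hidx') ?_ ?_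
      · intro m hm e
        exact hn₁ (e ▸ hmem m hm (e ▸ f.QT₁ c.c₁Q))
      · intro m hm e
        exact hn₂ (e ▸ hmem m hm (e ▸ f.QT₂ c.c₂Q))
    · -- the quotient is cyclic of order four
      have ho : orderOf (QuotientGroup.mk ⟨x, hxS⟩ :
          ↥(S : Subgroup G) ⧸ T₀.subgroupOf (S : Subgroup G)) = 2 ^ (1 + 1) := by
        apply orderOf_eq_prime_pow
        · rw [pow_one, pow_two, ← QuotientGroup.mk_mul, hmk]
          exact hx2
        · have e : (QuotientGroup.mk ⟨x, hxS⟩ :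
              ↥(S : Subgroup G) ⧸ T₀.subgroupOf (S : Subgroup G)) ^ 2 ^ (1 + 1)
              = QuotientGroup.mk (⟨x, hxS⟩ * ⟨x, hxS⟩ * (⟨x, hxS⟩ * ⟨x, hxS⟩)) := by
            rw [QuotientGroup.mk_mul, QuotientGroup.mk_mul]
            norm_num [pow_succ, mul_assoc]
          rw [e, hmk]
          exact t0_mul_mem hi hxx hxx hx2 hx2
      exact tr_key c f S hTS sf hcomm _ hN
        (isCyclic_of_orderOf_eq_card _ (ho.trans (by rw [hcard]; norm_num))) hm1 hm2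

end Cfsg.Agent.Lib.Helper16.KS18
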