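import Mathlib
import Cfsg.Agent.Lib.Helper81.Kno.Defs
import Cfsg.Agent.Lib.Helper16.KnoGAUSS

set_option autoImplicit false
open scoped ComplexConjugate

namespace Cfsg.Agent.Lib.Helper81.Kno

universe u v

/-- simple-module half of MOD -/
theorem good_simple (p : ℕ) [Fact p.Prime] (ζ : ℂ) (hζ : IsPrimitiveRoot ζ p) {H : Type u}
    [CommGroup H] {M : Type v} [AddCommGroup M] [Module (MonoidAlgebra (ZMod p) H) M]
    [Finite M] [IsSimpleModule (MonoidAlgebra (ZMod p) H) M] :
    ∃ c : H → ℕ,
      (∀ h, c h * Nat.card {x : M // MonoidAlgebra.of (ZMod p) H h • x = x} = Nat.card M) ∧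
      Good p ζ c (fun h => ∀ x : M, MonoidAlgebra.of (ZMod p) H h • x = x) := by
  classical
  obtain ⟨I, hI, ⟨e⟩⟩ := (isSimpleModule_iff_quot_maximal (R := MonoidAlgebra (ZMod p) H)
    (M := M)).mp inferInstance
  let _ : Field (MonoidAlgebra (ZMod p) H ⧸ I) := Ideal.Quotient.field I
  have hfin : Finite (MonoidAlgebra (ZMod p) H ⧸ I) := Finite.of_equiv M e.toEquiv
  have hchar : CharP (MonoidAlgebra (ZMod p) H ⧸ I) p :=
    charP_of_injective_ringHom (f := algebraMap (ZMod p) (MonoidAlgebra (ZMod p) H ⧸ I))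
      (RingHom.injective _) p
  let ι : H →* (MonoidAlgebra (ZMod p) H ⧸ I)ˣ :=
    MonoidHom.toHomUnits (((Ideal.Quotient.mk I : MonoidAlgebra (ZMod p) H →+* _) :
      MonoidAlgebra (ZMod p) H →* _).comp (MonoidAlgebra.of (ZMod p) H))
  have hι : ∀ h, ((ι h : (MonoidAlgebra (ZMod p) H ⧸ I)ˣ) : MonoidAlgebra (ZMod p) H ⧸ I) =
      Ideal.Quotient.mk I (MonoidAlgebra.of (ZMod p) H h) := fun h => rfl
  have hsm : ∀ (r : MonoidAlgebra (ZMod p) H) (y : MonoidAlgebra (ZMod p) H ⧸ I),
      r • y = Ideal.Quotient.mk I r * y := by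
    intro r y
    obtain ⟨s, rfl⟩ := Ideal.Quotient.mk_surjective y
    rw [← map_mul]
    rfl
  have hfix : ∀ (h : H) (x : M), MonoidAlgebra.of (ZMod p) H h • x = x ↔ (ι h = 1 ∨ x = 0) := by
    intro h x
    rw [← e.injective.eq_iff, map_smul, hsm, ← hι]
    constructor
    · intro hx
      by_cases hx0 : x = 0
      · exact Or.inr hx0
      · left
        have hex : e x ≠ 0 := fun h0 => hx0 (e.map_eq_zero_iff.mp h0)
        have : ((ι h : (MonoidAlgebra (ZMod p) H ⧸ I)ˣ) : MonoidAlgebra (ZMod p) H ⧸ I) = 1 :=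
          mul_right_cancel₀ hex (by rw [hx, one_mul])
        exact Units.ext this
    · rintro (h1 | h0)
      · rw [h1, Units.val_one, one_mul]
      · rw [h0, map_zero, mul_zero]
  have hcard : Nat.card (MonoidAlgebra (ZMod p) H ⧸ I) = Nat.card M :=
    (Nat.card_congr e.toEquiv).symm
  refine ⟨fun h => if ι h = 1 then 1 else Nat.card (MonoidAlgebra (ZMod p) H ⧸ I), ?_, ?_⟩
  · intro h
    by_cases hh : ι h = 1
    · simp only [hh, if_true, one_mul]
      apply Nat.card_congr
      exact Equiv.subtypeUnivEquiv (fun x => (hfix h x).mpr (Or.inl hh))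
    · simp only [hh, if_false]
      have : Nat.card {x : M // MonoidAlgebra.of (ZMod p) H h • x = x} = 1 := by
        rw [Nat.card_eq_one_iff_unique]
        refine ⟨⟨?_⟩, ⟨⟨0, smul_zero _⟩⟩⟩
        intro a b
        have ha := ((hfix h a.1).mp a.2).resolve_left hh
        have hb := ((hfix h b.1).mp b.2).resolve_left hh
        exact Subtype.ext (ha.trans hb.symm)
      rw [this, mul_one, hcard]
  · have hK : (fun h => ∀ x : M, MonoidAlgebra.of (ZMod p) H h • x = x) = (fun h => ι h = 1) := by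
      funext h
      apply propext
      constructor
      · intro hall
        have := IsSimpleModule.nontrivial (MonoidAlgebra (ZMod p) H) M
        obtain ⟨x, hx⟩ := exists_ne (0 : M)
        exact ((hfix h x).mp (hall x)).resolve_right hx
      · intro hh x
        exact (hfix h x).mpr (Or.inl hh)
    rw [hK]
    convert good_field p ζ hζ ι

end Cfsg.Agent.Lib.Helper81.Kno
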