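import Mathlib
import Cfsg.Prelude.Def_CaseTheorems

set_option autoImplicit false

/-! RANK2 ladder, rung G4: a group of exponent `p` and `p`-rank at most two has order dividing `p ^ 3`. -/

namespace Cfsg.Agent.Lib.Helper16.Rank2

variable {D : Type*} [Group D]

/-- The centre of the centralizer of a set. -/
def zc (T : Set D) : Subgroup D :=
  Subgroup.centralizer T ⊓ Subgroup.centralizer (Subgroup.centralizer T : Set D)

theorem zc_comm (T : Set D) : ∀ a ∈ zc T, ∀ b ∈ zc T, a * b = b * a := fun a ha _ hb =>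
  Subgroup.mem_centralizer_iff.1 hb.2 a ha.1

theorem center_le_zc (T : Set D) : Subgroup.center D ≤ zc T :=
  le_inf (Subgroup.center_le_centralizer _) (Subgroup.center_le_centralizer _)

theorem mem_zc {T : Set D} (hT : ∀ a ∈ T, ∀ b ∈ T, a * b = b * a) {t : D} (ht : t ∈ T) : t ∈ zc T :=
  ⟨Subgroup.mem_centralizer_iff.2 (fun h hh => hT h hh t ht),
    Subgroup.mem_centralizer_iff.2 (fun _ hh => (Subgroup.mem_centralizer_iff.1 hh t ht).symm)⟩

theorem zc_le_zc_pair {y c : D} (hc : c * y = y * c) : zc ({y} : Set D) ≤ zc ({y, c} : Set D) := by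
  intro a ha
  refine ⟨Subgroup.mem_centralizer_iff.2 ?_, Subgroup.mem_centralizer_iff.2 ?_⟩
  · intro h hh
    rcases hh with rfl | hh
    · exact Subgroup.mem_centralizer_iff.1 ha.1 h rfl
    · rw [Set.mem_singleton_iff] at hh
      subst hh
      refine Subgroup.mem_centralizer_iff.1 ha.2 h (Subgroup.mem_centralizer_iff.2 ?_)
      intro k hk
      rw [Set.mem_singleton_iff] at hk
      subst hk
      exact hc.symm
  · intro h hh
    exact Subgroup.mem_centralizer_iff.1 ha.2 h
      (Subgroup.centralizer_le (by intro k hk; exact Or.inl hk) hh)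

theorem p_mul_card_le_of_lt' [Finite D] {p : ℕ} [hp : Fact p.Prime] (hX : IsPGroup p D) {A B : Subgroup D}
    (hlt : A < B) : p * Nat.card A ≤ Nat.card B := by
  obtain ⟨a, ha⟩ := (hX.to_subgroup A).exists_card_eq
  obtain ⟨c, hc⟩ := (hX.to_subgroup B).exists_card_eq
  have hcl : Nat.card A < Nat.card B := by
    rcases lt_or_eq_of_le (Subgroup.card_le_of_le hlt.le) with h | h
    · exact h
    · exact absurd (Subgroup.eq_of_le_of_card_ge hlt.le h.ge) hlt.ne
  have hac : a < c := by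
    rw [ha, hc] at hcl
    exact (Nat.pow_lt_pow_iff_right hp.out.one_lt).1 hcl
  rw [ha, hc, ← pow_succ']
  exact Nat.pow_le_pow_right hp.out.pos hac

theorem card_dvd_of_exponent [Finite D] {p : ℕ} [hp : Fact p.Prime]
    (hexp : ∀ x : D, x ^ p = 1) (hrk : Cfsg.PRankLE p 2 D) : Nat.card D ∣ p ^ 3 := by
  have hD : IsPGroup p D := fun x => ⟨1, by rw [pow_one]; exact hexp x⟩
  obtain ⟨n, hn⟩ := hD.exists_card_eq
  rw [hn]
  apply pow_dvd_pow
  by_contra hn3
  have hn4 : 4 ≤ n := by omega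
  have hrk' : ∀ A : Subgroup D, (∀ a ∈ A, ∀ b ∈ A, a * b = b * a) → Nat.card A ≤ p ^ 2 := by
    intro A hA
    exact hrk A ⟨⟨fun a b => Subtype.ext (hA a a.2 b b.2)⟩⟩ (fun a _ => hexp a)
  have hpos : 0 < p := hp.out.pos
  set Z : Subgroup D := Subgroup.center D with hZ
  have hZ2 : Nat.card Z ≤ p ^ 2 := hrk' Z (fun a ha b _ => (Subgroup.mem_center_iff.1 ha b).symm)
  have hlt24 : p ^ 2 < Nat.card D := by
    rw [hn]
    exact Nat.pow_lt_pow_right hp.out.one_lt (by omega)
  have hnt : Nontrivial D := by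
    rw [← Finite.one_lt_card_iff_nontrivial]
    exact lt_of_le_of_lt (Nat.one_le_pow _ _ hpos) hlt24
  have hZp : p ≤ Nat.card Z := by
    have h1 : Nontrivial Z := hD.center_nontrivial
    have h2 : (⊥ : Subgroup D) < Z := by
      rw [bot_lt_iff_ne_bot]
      intro h
      exact (Subgroup.nontrivial_iff_ne_bot Z).1 h1 h
    have h3 := p_mul_card_le_of_lt' hD h2
    rwa [Subgroup.card_bot, mul_one] at h3
  have hZtop : Z ≠ ⊤ := by
    intro h
    rw [h, Subgroup.card_top] at hZ2
    omega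
  have hntq : Nontrivial (D ⧸ Z) := by
    rw [← Finite.one_lt_card_iff_nontrivial]
    have h1 : Z.index ≠ 1 := fun h => hZtop (Subgroup.index_eq_one.1 h)
    have h2 : Z.index ≠ 0 := Subgroup.index_ne_zero_of_finite
    show 1 < Z.index
    omega
  obtain ⟨y, hyZ, hy⟩ : ∃ y, y ∉ Z ∧ ∀ g, g * y * g⁻¹ * y⁻¹ ∈ Z := by
    have h1 : Nontrivial (Subgroup.center (D ⧸ Z)) := (hD.to_quotient Z).center_nontrivial
    obtain ⟨⟨w, hw⟩, hw1⟩ := exists_ne (1 : Subgroup.center (D ⧸ Z))
    obtain ⟨y, rfl⟩ := QuotientGroup.mk_surjective w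
    refine ⟨y, ?_, ?_⟩
    · intro hyZ
      apply hw1
      apply Subtype.ext
      exact (QuotientGroup.eq_one_iff y).2 hyZ
    · intro g
      rw [← QuotientGroup.eq_one_iff]
      have h3 := Subgroup.mem_center_iff.1 hw (QuotientGroup.mk g)
      rw [QuotientGroup.mk_mul, QuotientGroup.mk_mul, QuotientGroup.mk_mul, h3, QuotientGroup.mk_inv,
        QuotientGroup.mk_inv]
      group
  set A : Subgroup D := zc ({y} : Set D) with hA
  have hyA : y ∈ A := mem_zc (by
    intro a ha b hb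
    rw [Set.mem_singleton_iff] at ha hb
    rw [ha, hb]) rfl
  have hZA : Z < A := lt_of_le_of_ne (center_le_zc _) (fun h => hyZ (h ▸ hyA))
  have hA2 : Nat.card A ≤ p ^ 2 := hrk' A (zc_comm _)
  have h1 := p_mul_card_le_of_lt' hD hZA
  have hZle : Nat.card Z ≤ p := by
    have h2 : p * Nat.card Z ≤ p * p := by rw [← sq]; exact h1.trans hA2
    exact Nat.le_of_mul_le_mul_left h2 hpos
  have hA2' : p ^ 2 ≤ Nat.card A := by
    rw [sq]
    exact (Nat.mul_le_mul_left p hZp).trans h1
  have hCA : Subgroup.centralizer ({y} : Set D) ≤ A := by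
    intro c hc
    have hcy : c * y = y * c := (Subgroup.mem_centralizer_iff.1 hc y rfl).symm
    have hle := zc_le_zc_pair hcy
    have hB2 : Nat.card (zc ({y, c} : Set D)) ≤ p ^ 2 := hrk' _ (zc_comm _)
    have heq : A = zc ({y, c} : Set D) := Subgroup.eq_of_le_of_card_ge hle (hB2.trans hA2')
    rw [heq]
    refine mem_zc ?_ (Or.inr rfl)
    intro a ha b hb
    rcases ha with ha | ha <;> rcases hb with hb | hb
    · rw [ha, hb]
    · rw [Set.mem_singleton_iff] at hb; rw [ha, hb]; exact hcy.symm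
    · rw [Set.mem_singleton_iff] at ha; rw [ha, hb]; exact hcy
    · rw [Set.mem_singleton_iff] at ha hb; rw [ha, hb]
  let φ : D →* D := MonoidHom.mk' (fun g => g * y * g⁻¹ * y⁻¹) (by
    intro g h
    have hc := Subgroup.mem_center_iff.1 (hy h)
    have e : g * h * y * (g * h)⁻¹ * y⁻¹ = g * (h * y * h⁻¹ * y⁻¹) * y * g⁻¹ * y⁻¹ := by group
    show g * h * y * (g * h)⁻¹ * y⁻¹ = g * y * g⁻¹ * y⁻¹ * (h * y * h⁻¹ * y⁻¹)
    rw [e, hc g, hc (g * y * g⁻¹ * y⁻¹)]
    group)
  have hker : φ.ker ≤ Subgroup.centralizer ({y} : Set D) := by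
    intro g hg
    have h2 : g * y * g⁻¹ * y⁻¹ = 1 := hg
    rw [Subgroup.mem_centralizer_iff]
    intro h hh
    rw [Set.mem_singleton_iff] at hh
    subst hh
    have h3 : g * h = h * g := by
      calc g * h = (g * h * g⁻¹ * h⁻¹) * (h * g) := by group
        _ = h * g := by rw [h2, one_mul]
    exact h3.symm
  have hrange : φ.range ≤ Z := by
    rintro _ ⟨g, rfl⟩
    exact hy g
  have hcard := φ.ker.card_mul_index
  rw [Subgroup.index_ker] at hcard
  have hfin : Nat.card D ≤ p ^ 2 * p := by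
    rw [← hcard]
    exact Nat.mul_le_mul ((Subgroup.card_le_of_le (hker.trans hCA)).trans hA2)
      ((Subgroup.card_le_of_le hrange).trans hZle)
  rw [hn, ← pow_succ] at hfin
  have := (Nat.pow_le_pow_iff_right hp.out.one_lt).1 hfin
  omega

end Cfsg.Agent.Lib.Helper16.Rank2
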