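import Cfsg.Agent.Lib.Helper64.Rank2G1
import Cfsg.Agent.Lib.Helper16.Rank2G4

set_option autoImplicit false
set_option linter.unusedSectionVars false

/-! RANK2 ladder, rung F-beta: the pure group theory. -/

namespace Cfsg.Agent.Lib.Helper16.Rank2

open Cfsg.Agent.Lib

section functor

variable {X : Type*} [Group X]

theorem char_mem_iff (H : Subgroup X) [hH : H.Characteristic] (φ : MulAut X) (x : X) :
    φ x ∈ H ↔ x ∈ H := by
  have := SetLike.ext_iff.1 (hH.fixed φ) x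
  simpa using this

/-- restriction of automorphisms to a characteristic subgroup -/
def resAut (H : Subgroup X) [H.Characteristic] : MulAut X →* MulAut ↥H where
  toFun φ :=
    { toFun := fun s => ⟨φ s.1, (char_mem_iff H φ s.1).2 s.2⟩
      invFun := fun s => ⟨φ⁻¹ s.1, (char_mem_iff H φ⁻¹ s.1).2 s.2⟩
      left_inv := fun s => Subtype.ext (by simp)
      right_inv := fun s => Subtype.ext (by simp)
      map_mul' := fun s t => Subtype.ext (by simp) }
  map_one' := by ext s; rfl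
  map_mul' φ ψ := by ext s; rfl

theorem resAut_coe (H : Subgroup X) [H.Characteristic] (φ : MulAut X) (s : ↥H) :
    ((resAut H φ s : ↥H) : X) = φ s.1 := rfl

/-- automorphisms induced on the quotient by a characteristic subgroup -/
def quotAut (H : Subgroup X) [hH : H.Characteristic] : MulAut X →* MulAut (X ⧸ H) where
  toFun φ := QuotientGroup.congr H H φ (Subgroup.characteristic_iff_map_eq.1 hH φ)
  map_one' := by
    ext x
    induction x using QuotientGroup.induction_on with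
    | H x => rfl
  map_mul' φ ψ := by
    ext x
    induction x using QuotientGroup.induction_on with
    | H x => rfl

theorem quotAut_mk (H : Subgroup X) [H.Characteristic] (φ : MulAut X) (x : X) :
    quotAut H φ (QuotientGroup.mk x) = QuotientGroup.mk (φ x) := rfl

/-- the action on `D / Z(D)` -/
def rho (D : Subgroup X) [D.Characteristic] : MulAut X →* MulAut (↥D ⧸ Subgroup.center ↥D) :=
  (quotAut (Subgroup.center ↥D)).comp (resAut D)

theorem rho_mk (D : Subgroup X) [D.Characteristic] (φ : MulAut X) (s : ↥D) :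
    rho D φ (QuotientGroup.mk s) = QuotientGroup.mk (resAut D φ s) := rfl

end functor

section comm

variable {Q : Type*} [Group Q]

theorem comm_mul_central {x y u v : Q} (hu : u ∈ Subgroup.center Q) (hv : v ∈ Subgroup.center Q) :
    (x * u) * (y * v) * (x * u)⁻¹ * (y * v)⁻¹ = x * y * x⁻¹ * y⁻¹ := by
  have hu' := Subgroup.mem_center_iff.1 hu
  have hv' := Subgroup.mem_center_iff.1 hv
  calc (x * u) * (y * v) * (x * u)⁻¹ * (y * v)⁻¹
      = x * (u * y) * (v * u⁻¹) * x⁻¹ * v⁻¹ * y⁻¹ := by group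
    _ = x * (y * u) * (u⁻¹ * v) * x⁻¹ * v⁻¹ * y⁻¹ := by rw [hu' y, hv' u⁻¹]
    _ = x * y * (v * x⁻¹) * v⁻¹ * y⁻¹ := by group
    _ = x * y * (x⁻¹ * v) * v⁻¹ * y⁻¹ := by rw [hv' x⁻¹]
    _ = x * y * x⁻¹ * y⁻¹ := by group

theorem comm_pow_right (hc : ∀ x y : Q, x * y * x⁻¹ * y⁻¹ ∈ Subgroup.center Q) (x y : Q) (n : ℕ) :
    x * y ^ n * x⁻¹ * (y ^ n)⁻¹ = (x * y * x⁻¹ * y⁻¹) ^ n := by
  have e1 : x * y ^ n * x⁻¹ = (x * y * x⁻¹) ^ n := (conj_pow).symm
  have e2 : x * y * x⁻¹ = (x * y * x⁻¹ * y⁻¹) * y := by group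
  have hcm : Commute (x * y * x⁻¹ * y⁻¹) y := (Subgroup.mem_center_iff.1 (hc x y) y).symm
  rw [e1, e2, hcm.mul_pow]
  group

theorem comm_pow_left (hc : ∀ x y : Q, x * y * x⁻¹ * y⁻¹ ∈ Subgroup.center Q) (x y : Q) (n : ℕ) :
    x ^ n * y * (x ^ n)⁻¹ * y⁻¹ = (x * y * x⁻¹ * y⁻¹) ^ n := by
  have h := comm_pow_right hc y x n
  have e1 : x ^ n * y * (x ^ n)⁻¹ * y⁻¹ = (y * x ^ n * y⁻¹ * (x ^ n)⁻¹)⁻¹ := by group
  have e2 : x * y * x⁻¹ * y⁻¹ = (y * x * y⁻¹ * x⁻¹)⁻¹ := by group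
  rw [e1, h, e2, inv_pow]

end comm

section cube

variable {Q : Type*} [Group Q] [Finite Q] {p : ℕ} [hp : Fact p.Prime]

theorem cube_card_center (hcard : Nat.card Q = p ^ 3) (hna : ∃ x y : Q, x * y ≠ y * x) :
    Nat.card (Subgroup.center Q) = p := by
  have hQ : IsPGroup p Q := IsPGroup.of_card hcard
  obtain ⟨k, hk3, hk⟩ := (Nat.dvd_prime_pow hp.out).1
    (hcard ▸ Subgroup.card_subgroup_dvd_card (Subgroup.center Q))
  have hnab : ¬ IsMulCommutative Q := by
    intro h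
    obtain ⟨x, y, hne⟩ := hna
    exact hne (h.is_comm.comm x y)
  have hk0 : k ≠ 0 := by
    rintro rfl
    have hnt : Nontrivial Q := by
      rw [← Finite.one_lt_card_iff_nontrivial, hcard]
      exact Nat.one_lt_pow (by norm_num) hp.out.one_lt
    have h1 : Nontrivial (Subgroup.center Q) := hQ.center_nontrivial
    rw [← Finite.one_lt_card_iff_nontrivial, hk, pow_zero] at h1
    omega
  have hk3' : k ≠ 3 := by
    rintro rfl
    apply hnab
    have h1 : Subgroup.center Q = ⊤ := Subgroup.eq_top_of_card_eq _ (by rw [hk, hcard])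
    exact ⟨⟨fun x y => by
      have hx : x ∈ Subgroup.center Q := h1 ▸ Subgroup.mem_top x
      exact (Subgroup.mem_center_iff.1 hx y).symm⟩⟩
  have hk2 : k ≠ 2 := by
    rintro rfl
    apply hnab
    have h1 := Subgroup.card_mul_index (Subgroup.center Q)
    rw [hk, hcard] at h1
    have h2 : (Subgroup.center Q).index = p := by
      have : p ^ 2 * (Subgroup.center Q).index = p ^ 2 * p := by rw [h1]; ring
      exact Nat.eq_of_mul_eq_mul_left (pow_pos hp.out.pos 2) this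
    have h3 : IsCyclic (Q ⧸ Subgroup.center Q) :=
      isCyclic_of_prime_card (p := p) (by rw [← Subgroup.index_eq_card, h2])
    exact isMulCommutative_of_isCyclic_quotient_center_self Q
  have : k = 1 := by omega
  rw [hk, this, pow_one]

theorem cube_card_quot (hcard : Nat.card Q = p ^ 3) (hna : ∃ x y : Q, x * y ≠ y * x) :
    Nat.card (Q ⧸ Subgroup.center Q) = p ^ 2 := by
  have h3 := (Subgroup.center Q).card_mul_index
  rw [cube_card_center hcard hna, hcard] at h3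
  show (Subgroup.center Q).index = p ^ 2
  have e : p ^ 3 = p * p ^ 2 := by ring
  rw [e] at h3
  exact Nat.eq_of_mul_eq_mul_left hp.out.pos h3

theorem cube_comm_mem (hcard : Nat.card Q = p ^ 3) (hna : ∃ x y : Q, x * y ≠ y * x) (x y : Q) :
    x * y * x⁻¹ * y⁻¹ ∈ Subgroup.center Q := by
  rw [← QuotientGroup.eq_one_iff]
  have h3 := (IsPGroup.isMulCommutative_of_card_eq_prime_sq (cube_card_quot hcard hna)).is_comm.comm
    (QuotientGroup.mk x) (QuotientGroup.mk y)
  rw [QuotientGroup.mk_mul, QuotientGroup.mk_mul, QuotientGroup.mk_mul, h3, QuotientGroup.mk_inv,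
    QuotientGroup.mk_inv]
  group

theorem cube_center_pow (hcard : Nat.card Q = p ^ 3) {x y : Q} (hxy : x * y ≠ y * x) :
    ∀ z ∈ Subgroup.center Q, ∃ k : ℕ, (x * y * x⁻¹ * y⁻¹) ^ k = z := by
  intro z hz
  have hna : ∃ x y : Q, x * y ≠ y * x := ⟨x, y, hxy⟩
  have hne : (⟨x * y * x⁻¹ * y⁻¹, cube_comm_mem hcard hna x y⟩ : Subgroup.center Q) ≠ 1 := by
    intro h
    apply hxy
    have h1 : x * y * x⁻¹ * y⁻¹ = 1 := congrArg Subtype.val h
    calc x * y = (x * y * x⁻¹ * y⁻¹) * (y * x) := by group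
      _ = y * x := by rw [h1, one_mul]
  obtain ⟨k, hk⟩ : (⟨z, hz⟩ : Subgroup.center Q) ∈ Submonoid.powers
      (⟨x * y * x⁻¹ * y⁻¹, cube_comm_mem hcard hna x y⟩ : Subgroup.center Q) :=
    mem_powers_of_prime_card (cube_card_center hcard hna) hne
  exact ⟨k, congrArg Subtype.val hk⟩

end cube

section abstract

theorem trivial_of_normal_pgroup {W : Type*} [Group W] [Finite W] {p : ℕ} [hp : Fact p.Prime]
    (hcard : Nat.card W = p ^ 2) (B R : Subgroup (MulAut W)) (hR : IsPGroup p R)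
    (hnorm : ∀ β ∈ B, ∀ r ∈ R, β⁻¹ * r * β ∈ R)
    (hirr : ∀ L : Subgroup W, Nat.card L = p → ∃ β ∈ B, ∃ x ∈ L, β x ∉ L) : ∀ r ∈ R, r = 1 := by
  let Fix : Subgroup W :=
    { carrier := {w | ∀ r ∈ R, r w = w}
      one_mem' := fun r _ => map_one r
      mul_mem' := fun {a b} ha hb r hr => by rw [map_mul, ha r hr, hb r hr]
      inv_mem' := fun {a} ha r hr => by rw [map_inv, ha r hr] }
  have hinv : ∀ β ∈ B, ∀ x ∈ Fix, β x ∈ Fix := by
    intro β hβ x hx r hr
    have h1 := hx _ (hnorm β hβ r hr)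
    have h2 : β ((β⁻¹ * r * β) x) = r (β x) := by simp [MulAut.mul_apply]
    rw [← h2, h1]
  obtain ⟨b, hb, hne⟩ := hR.exists_fixed_point_of_prime_dvd_card_of_fixed_point (α := W)
    (by rw [hcard]; exact dvd_pow_self p two_ne_zero) (a := 1)
    (by intro g; exact map_one (g : MulAut W))
  have hbF : b ∈ Fix := fun r hr => hb ⟨r, hr⟩
  have hFne : Fix ≠ ⊥ := fun h => hne (by
    have := h ▸ hbF
    exact (Subgroup.mem_bot.1 this).symm)
  obtain ⟨k, hk2, hk⟩ := (Nat.dvd_prime_pow hp.out).1 (hcard ▸ Subgroup.card_subgroup_dvd_card Fix)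
  have hk0 : k ≠ 0 := by
    rintro rfl
    rw [pow_zero] at hk
    exact hFne (Subgroup.card_eq_one.1 hk)
  have hk1 : k ≠ 1 := by
    rintro rfl
    rw [pow_one] at hk
    obtain ⟨β, hβ, x, hx, hx'⟩ := hirr Fix hk
    exact hx' (hinv β hβ x hx)
  have hk2' : k = 2 := by omega
  have htop : Fix = ⊤ := Subgroup.eq_top_of_card_eq _ (by rw [hk, hk2', hcard])
  intro r hr
  ext w
  have hw : w ∈ Fix := htop ▸ Subgroup.mem_top w
  exact hw r hr

variable {P : Type*} [Group P] [Finite P] {p : ℕ} [hp : Fact p.Prime]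

/-- the centre of `D` as a subgroup of the ambient group -/
def ZP (D : Subgroup P) : Subgroup P := (Subgroup.center ↥D).map D.subtype

theorem stab_of_rho_eq_one (D : Subgroup P) [D.Characteristic]
    (hDc : Nat.card D = p ^ 3) (hna : ∃ x y : D, x * y ≠ y * x) (α : MulAut P) (hα : rho D α = 1) :
    (∀ x ∈ D, x⁻¹ * α x ∈ ZP D) ∧ (∀ z ∈ ZP D, α z = z) := by
  have h1 : ∀ s : D, s⁻¹ * resAut D α s ∈ Subgroup.center ↥D := by
    intro s
    have h := rho_mk D α s
    rw [hα] at h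
    exact QuotientGroup.eq.1 h
  refine ⟨fun x hx => ⟨_, h1 ⟨x, hx⟩, rfl⟩, ?_⟩
  rintro _ ⟨z, hz, rfl⟩
  obtain ⟨x, y, hxy⟩ := hna
  obtain ⟨k, hk⟩ := cube_center_pow hDc hxy z hz
  have h2 : resAut D α (x * y * x⁻¹ * y⁻¹) = x * y * x⁻¹ * y⁻¹ := by
    rw [map_mul, map_mul, map_mul, map_inv, map_inv]
    have ex : resAut D α x = x * (x⁻¹ * resAut D α x) := by group
    have ey : resAut D α y = y * (y⁻¹ * resAut D α y) := by group
    have h3 := comm_mul_central (x := x) (y := y) (h1 x) (h1 y)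
    rw [← ex, ← ey] at h3
    exact h3
  have h3 : resAut D α z = z := by rw [← hk, map_pow, h2]
  exact congrArg Subtype.val h3

theorem exists_invariant_of_line (D : Subgroup P) [D.Characteristic]
    (hDc : Nat.card D = p ^ 3) (hna : ∃ x y : D, x * y ≠ y * x) (A : Subgroup (MulAut P))
    (L : Subgroup (↥D ⧸ Subgroup.center ↥D)) (hL : Nat.card L = p)
    (hinv : ∀ α ∈ A, ∀ x ∈ L, rho D α x ∈ L) :
    ∃ LP : Subgroup P, ZP D ≤ LP ∧ LP ≤ D ∧ Nat.card LP = p ^ 2 ∧ ∀ α ∈ A, ∀ x ∈ LP, α x ∈ LP := by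
  let L' : Subgroup D := L.comap (QuotientGroup.mk' (Subgroup.center ↥D))
  refine ⟨L'.map D.subtype, ?_, ?_, ?_, ?_⟩
  · apply Subgroup.map_mono
    intro z hz
    show (QuotientGroup.mk z : ↥D ⧸ Subgroup.center ↥D) ∈ L
    rw [(QuotientGroup.eq_one_iff z).2 hz]
    exact L.one_mem
  · rintro _ ⟨a, -, rfl⟩
    exact a.2
  · rw [Subgroup.card_map_of_injective D.subtype_injective]
    have h1 : L'.index = L.index :=
      Subgroup.index_comap_of_surjective L (QuotientGroup.mk'_surjective _)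
    have h2 := L.card_mul_index
    have h3 := L'.card_mul_index
    rw [hL, cube_card_quot hDc hna, sq] at h2
    have h4 : L.index = p := Nat.eq_of_mul_eq_mul_left hp.out.pos h2
    rw [h1, h4, hDc] at h3
    have e : p ^ 3 = p ^ 2 * p := by ring
    rw [e] at h3
    exact Nat.eq_of_mul_eq_mul_right hp.out.pos h3
  · rintro α hα _ ⟨a, ha, rfl⟩
    exact ⟨resAut D α a, hinv α hα _ ha, rfl⟩

theorem exists_delta (D : Subgroup P) [D.Characteristic] (hDc : Nat.card D = p ^ 3)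
    (hDe : ∀ x ∈ D, x ^ p = 1) (hna : ∃ x y : D, x * y ≠ y * x)
    (A : Subgroup (MulAut P)) (σ : MulAut P) (hσ : σ ∈ A) (hσ1 : rho D σ ≠ 1)
    (hσp : rho D σ ^ p = 1)
    (hirr : ∀ L : Subgroup (↥D ⧸ Subgroup.center ↥D), Nat.card L = p →
      ∃ α ∈ A, ∃ x ∈ L, rho D α x ∉ L)
    (m n : ℕ) (hmn : m * n ≡ 1 [MOD p]) :
    ∃ δ ∈ A, ∃ d₂ : D, rho D σ (QuotientGroup.mk d₂) ≠ QuotientGroup.mk d₂ ∧
      rho D δ (QuotientGroup.mk d₂) = (QuotientGroup.mk d₂) ^ n ∧
      (∀ z ∈ Subgroup.center ↥D, resAut D δ z = z) ∧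
      rho D (δ * σ * δ⁻¹) ∈ Subgroup.zpowers (rho D σ) := by
  have hWc := cube_card_quot hDc hna
  have hDp : IsPGroup p D := IsPGroup.of_card hDc
  have hDe' : ∀ d : D, d ^ p = 1 := fun d => Subtype.ext (hDe d d.2)
  have hWe : ∀ w : ↥D ⧸ Subgroup.center ↥D, w ^ p = 1 := by
    intro w
    induction w using QuotientGroup.induction_on with
    | H d =>
      rw [← QuotientGroup.mk_pow, hDe' d]
      rfl
  obtain ⟨e₁, e₂, he₁, hσe₁, hσe₂, hall⟩ := Helper64.Rank2G1.exists_diag hWc hWe (A.map (rho D))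
    (rho D σ) ⟨σ, hσ, rfl⟩ hσ1 hσp
    (by
      intro L hL
      obtain ⟨α, hα, x, hx, hx'⟩ := hirr L hL
      exact ⟨rho D α, ⟨α, hα, rfl⟩, x, hx, hx'⟩)
  obtain ⟨δ', ⟨δ, hδ, rfl⟩, hδ1, hδ2, hδσ⟩ := hall m n hmn
  obtain ⟨d₁, rfl⟩ := QuotientGroup.mk_surjective e₁
  obtain ⟨d₂, rfl⟩ := QuotientGroup.mk_surjective e₂
  refine ⟨δ, hδ, d₂, hσe₂, hδ2, ?_, ?_⟩
  · have hc := cube_comm_mem hDc hna
    have hd₁Z : d₁ ∉ Subgroup.center ↥D := fun h => he₁ ((QuotientGroup.eq_one_iff d₁).2 h)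
    have hne : d₁ * d₂ ≠ d₂ * d₁ := by
      intro hcomm
      have hC₁top : Subgroup.centralizer ({d₁} : Set D) ≠ ⊤ := by
        intro h
        apply hd₁Z
        rw [Subgroup.mem_center_iff]
        intro g
        have hg : g ∈ Subgroup.centralizer ({d₁} : Set D) := h ▸ Subgroup.mem_top g
        exact (Subgroup.mem_centralizer_iff.1 hg d₁ rfl).symm
      have h1 := p_mul_card_le_of_lt' hDp (lt_top_iff_ne_top.2 hC₁top)
      rw [Subgroup.card_top, hDc] at h1
      have hL₁C : Subgroup.center ↥D ⊔ Subgroup.zpowers d₁ ≤ Subgroup.centralizer ({d₁} : Set D) := by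
        refine sup_le (Subgroup.center_le_centralizer _) ?_
        rw [Subgroup.zpowers_le, Subgroup.mem_centralizer_iff]
        intro h hh
        rw [Set.mem_singleton_iff] at hh
        rw [hh]
      have hZL : Subgroup.center ↥D < Subgroup.center ↥D ⊔ Subgroup.zpowers d₁ :=
        lt_of_le_of_ne le_sup_left
          (fun h => hd₁Z (h ▸ Subgroup.mem_sup_right (Subgroup.mem_zpowers d₁)))
      have h2 := p_mul_card_le_of_lt' hDp hZL
      rw [cube_card_center hDc hna] at h2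
      have heq : Subgroup.center ↥D ⊔ Subgroup.zpowers d₁ = Subgroup.centralizer ({d₁} : Set D) := by
        apply Subgroup.eq_of_le_of_card_ge hL₁C
        refine le_trans ?_ h2
        have e : p ^ 3 = p * (p * p) := by ring
        rw [e] at h1
        exact Nat.le_of_mul_le_mul_left h1 hp.out.pos
      have hd₂ : d₂ ∈ Subgroup.center ↥D ⊔ Subgroup.zpowers d₁ := by
        rw [heq, Subgroup.mem_centralizer_iff]
        intro h hh
        rw [Set.mem_singleton_iff] at hh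
        rw [hh]
        exact hcomm
      obtain ⟨z, hz, y, hy, hzy⟩ := Subgroup.mem_sup_of_normal_left.1 hd₂
      obtain ⟨i, rfl⟩ := Subgroup.mem_zpowers_iff.1 hy
      apply hσe₂
      have e : (QuotientGroup.mk d₂ : ↥D ⧸ Subgroup.center ↥D) = (QuotientGroup.mk d₁) ^ i := by
        rw [← hzy, QuotientGroup.mk_mul, (QuotientGroup.eq_one_iff z).2 hz, one_mul,
          QuotientGroup.mk_zpow]
      rw [e, map_zpow, hσe₁]
    have hu₁ : (d₁ ^ m)⁻¹ * resAut D δ d₁ ∈ Subgroup.center ↥D := by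
      apply QuotientGroup.eq.1
      rw [QuotientGroup.mk_pow, ← hδ1]
      rfl
    have hu₂ : (d₂ ^ n)⁻¹ * resAut D δ d₂ ∈ Subgroup.center ↥D := by
      apply QuotientGroup.eq.1
      rw [QuotientGroup.mk_pow, ← hδ2]
      rfl
    have h0 : resAut D δ (d₁ * d₂ * d₁⁻¹ * d₂⁻¹) = d₁ * d₂ * d₁⁻¹ * d₂⁻¹ := by
      rw [map_mul, map_mul, map_mul, map_inv, map_inv]
      have ex : resAut D δ d₁ = d₁ ^ m * ((d₁ ^ m)⁻¹ * resAut D δ d₁) := by group
      have ey : resAut D δ d₂ = d₂ ^ n * ((d₂ ^ n)⁻¹ * resAut D δ d₂) := by group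
      have h3 := comm_mul_central (x := d₁ ^ m) (y := d₂ ^ n) hu₁ hu₂
      rw [← ex, ← ey] at h3
      rw [h3, comm_pow_left hc, comm_pow_right hc, ← pow_mul]
      have hord : orderOf (d₁ * d₂ * d₁⁻¹ * d₂⁻¹) ∣ p := orderOf_dvd_of_pow_eq_one (hDe' _)
      have h4 : n * m ≡ 1 [MOD orderOf (d₁ * d₂ * d₁⁻¹ * d₂⁻¹)] := by
        rw [mul_comm]
        exact hmn.of_dvd hord
      rw [pow_eq_pow_iff_modEq.2 h4, pow_one]
    intro z hz
    obtain ⟨k, hk⟩ := cube_center_pow hDc hne z hz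
    rw [← hk, map_pow, h0]
  · rw [map_mul, map_mul, map_inv]
    exact hδσ

end abstract

end Cfsg.Agent.Lib.Helper16.Rank2
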