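import Cfsg.Agent.Lib.Helper16.Rank2FB1
import Cfsg.Agent.Lib.Helper86.Rank2G7
import Cfsg.Agent.Lib.Helper86.Rank2Ext
import Cfsg.Agent.Lib.Helper86.Rank2Dich
import Cfsg.Agent.Lib.Helper26.Rank2G2

set_option autoImplicit false
set_option linter.unusedSectionVars false

/-! RANK2 ladder, rung F-beta. -/

namespace Cfsg.Agent.Lib.Helper16.Rank2

open Cfsg Cfsg.FusionSystem Cfsg.Agent.Lib Cfsg.Agent.Lib.Helper86
open Cfsg.Agent.Lib.Helper87 (Mor Iso autFun)

variable {Ω : Type*} [Group Ω] {S : Subgroup Ω}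

theorem false_of_nonabelian [Finite S] {p : ℕ} [hpf : Fact p.Prime] (hS : IsPGroup p S)
    (F : FusionSystem S) (hF : F.IsSaturated p) (hp : 5 ≤ p)
    (hrank : ∀ B : Subgroup Ω, B ≤ S → Cfsg.IsElementaryAbelian p B → Nat.card B ≤ p ^ 2)
    {E : Subgroup Ω} (hE : F.IsEssential p E) (D : Subgroup ↥E) (hDchar : D.Characteristic)
    (hDc : Nat.card D = p ^ 3) (hDe : ∀ x ∈ D, x ^ p = 1)
    (hfaith : ∀ a : MulAut ↥E, (orderOf a).Coprime p → (∀ x ∈ D, a x = x) → a = 1) : False := by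
  have hES : E ≤ S := hE.1.1
  have hfinE : Finite E := Helper86.finite_of_le hES
  have hEp : IsPGroup p E := hS.to_le hES
  have hp1 : 1 < p := hpf.out.one_lt
  -- `D` is not abelian
  have hna : ∃ x y : D, x * y ≠ y * x := by
    by_contra hcon
    push Not at hcon
    have h1 := hrank (D.map E.subtype)
      (by
        rintro _ ⟨x, -, rfl⟩
        exact hES x.2)
      ⟨⟨⟨fun a b => by
        obtain ⟨x, hx, hxa⟩ := a.2
        obtain ⟨y, hy, hyb⟩ := b.2
        apply Subtype.ext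
        show (a : Ω) * (b : Ω) = (b : Ω) * (a : Ω)
        rw [← hxa, ← hyb]
        exact congrArg (fun t : D => ((t : E) : Ω)) (hcon ⟨x, hx⟩ ⟨y, hy⟩)⟩⟩,
       by
        rintro _ ⟨x, hx, rfl⟩
        exact congrArg Subtype.val (hDe x hx)⟩
    rw [Subgroup.card_map_of_injective E.subtype_injective, hDc] at h1
    have := (Nat.pow_le_pow_iff_right hp1).1 h1
    omega
  have hZc : Nat.card (ZP D) = p := by
    rw [ZP, Subgroup.card_map_of_injective D.subtype_injective]
    exact cube_card_center hDc hna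
  have hZD : ZP D ≤ D := by
    rintro _ ⟨a, -, rfl⟩
    exact a.2
  have hZinv : ∀ α : MulAut E, ∀ x ∈ ZP D, α x ∈ ZP D := by
    rintro α _ ⟨z, hz, rfl⟩
    exact ⟨resAut D α z, (char_mem_iff (Subgroup.center ↥D) (resAut D α) z).2 hz, rfl⟩
  have hDinv : ∀ α : MulAut E, ∀ x ∈ D, α x ∈ D := fun α x hx => (char_mem_iff D α x).2 hx
  have hfaith' : ∀ a ∈ F.autGroup E, (orderOf a).Coprime p → (∀ x ∈ D, a x = x) → a = 1 :=
    fun a _ => hfaith a
  -- irreducibility
  have hirr : ∀ L : Subgroup (↥D ⧸ Subgroup.center ↥D), Nat.card L = p →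
      ∃ α ∈ F.autGroup E, ∃ x ∈ L, rho D α x ∉ L := by
    intro L hL
    by_contra hcon
    push Not at hcon
    obtain ⟨LP, hZL, hLD, hLc, hLinv⟩ := exists_invariant_of_line D hDc hna (F.autGroup E) L hL hcon
    refine Helper86.Rank2.no_prime_chain hS F hF hE 3
      (fun i => match i with
        | 0 => ⊥
        | 1 => ZP D
        | 2 => LP
        | _ => D) rfl ?_ hfaith' ?_
    · intro i α hα x hx
      match i with
      | 0 =>
        have hx' : x = 1 := Subgroup.mem_bot.1 hx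
        rw [hx', map_one]
        exact Subgroup.one_mem _
      | 1 => exact hZinv α x hx
      | 2 => exact hLinv α hα x hx
      | (k + 3) => exact hDinv α x hx
    · intro i hi
      match i with
      | 0 => exact ⟨bot_le, by
          show Nat.card (ZP D) = p * Nat.card (⊥ : Subgroup E)
          rw [hZc, Subgroup.card_bot, mul_one]⟩
      | 1 => exact ⟨hZL, by
          show Nat.card LP = p * Nat.card (ZP D)
          rw [hZc, hLc, sq]⟩
      | 2 => exact ⟨hLD, by
          show Nat.card D = p * Nat.card LP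
          rw [hDc, hLc]
          ring⟩
      | (k + 3) => omega
  -- automorphisms trivial on `W` are inner
  have hrad := Cfsg.Agent.S5080.result p hS F hF E hE
  have hInn : ∀ α ∈ F.autGroup E, rho D α = 1 → α ∈ Inn E := by
    intro α hα h1
    obtain ⟨hs1, hs2⟩ := stab_of_rho_eq_one D hDc hna α h1
    have h2 := Helper86.Rank2.mem_pCore_of_stab_faithful hEp (F.autGroup E) 2
      (fun i => match i with
        | 0 => ⊥
        | 1 => ZP D
        | _ => D) rfl
      (by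
        intro i β hβ x hx
        match i with
        | 0 =>
          have hx' : x = 1 := Subgroup.mem_bot.1 hx
          rw [hx', map_one]
          exact Subgroup.one_mem _
        | 1 => exact hZinv β x hx
        | (k + 2) => exact hDinv β x hx)
      hfaith' α hα
      (by
        intro i hi x hx
        match i with
        | 0 =>
          show x⁻¹ * α x ∈ (⊥ : Subgroup E)
          rw [hs2 x hx, inv_mul_cancel]
          exact Subgroup.one_mem _
        | 1 => exact hs1 x hx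
        | (k + 2) => omega)
    rw [hrad.2] at h2
    exact h2
  have hWc := cube_card_quot hDc hna
  have hWe : ∀ w : ↥D ⧸ Subgroup.center ↥D, w ^ p = 1 := by
    intro w
    induction w using QuotientGroup.induction_on with
    | H d =>
      have hd : d ^ p = 1 := Subtype.ext (hDe d d.2)
      rw [← QuotientGroup.mk_pow, hd]
      rfl
  have hInnS : Inn E ≤ autInducedBy S E := by
    rintro _ ⟨e, rfl⟩
    exact mem_autInducedBy_iff.2 ⟨e, hES e.2, fun x => rfl⟩
  have hSA : autInducedBy S E ≤ F.autGroup E := autInducedBy_le_autGroup F hES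
  -- `E` acts trivially on `W`
  have htriv : ∀ r ∈ (Inn E).map (rho D), r = 1 := by
    refine trivial_of_normal_pgroup hWc ((F.autGroup E).map (rho D)) ((Inn E).map (rho D)) ?_ ?_ ?_
    · apply IsPGroup.map
      exact hEp.of_surjective (MulAut.conj : E →* MulAut E).rangeRestrict
        (MonoidHom.rangeRestrict_surjective _)
    · rintro _ ⟨b, -, rfl⟩ _ ⟨_, ⟨e, rfl⟩, rfl⟩
      refine ⟨MulAut.conj (b⁻¹ e), ⟨_, rfl⟩, ?_⟩
      rw [← map_inv, ← map_mul, ← map_mul]
      congr 1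
      ext x
      simp [MulAut.mul_apply]
    · intro L hL
      obtain ⟨α, hα, x, hx, hx'⟩ := hirr L hL
      exact ⟨rho D α, ⟨α, hα, rfl⟩, x, hx, hx'⟩
  obtain ⟨c, hcS, hcN, hcE, hcp⟩ := Helper86.Rank2.exists_growth_pow hS (Oliver.essential_lt hS hF hE)
  obtain ⟨σ, hσdef⟩ : ∃ σ, σ = conjAut E c hcN := ⟨_, rfl⟩
  have hσS : σ ∈ autInducedBy S E := hσdef ▸ conjAut_mem_autInducedBy hcN hcS
  have hσA : σ ∈ F.autGroup E := hSA hσS
  have hσ1 : rho D σ ≠ 1 := by
    intro h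
    have h1 := hInn σ hσA h
    rw [hσdef] at h1
    exact conjAut_not_mem_inn (hE.1.2 E (isConj_refl F hES)) hcS hES hcN hcE h1
  have hσp : rho D σ ^ p = 1 := by
    rw [← map_pow, hσdef, Helper86.Rank2.conjAut_pow]
    apply htriv
    refine ⟨_, ⟨⟨c ^ p, hcp⟩, ?_⟩, rfl⟩
    ext x
    rfl
  obtain ⟨k, hk⟩ : ∃ k, p = 2 * k + 1 := by
    rcases hpf.out.eq_two_or_odd' with h | h
    · omega
    · exact h
  have hmn : (k + 1) * 2 ≡ 1 [MOD p] := by
    have e : (k + 1) * 2 = p + 1 := by omega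
    rw [e]
    simp [Nat.ModEq]
  obtain ⟨δ, hδA, d₂, hσd₂, hδd₂, hδZ, hδσ⟩ :=
    exists_delta D hDc hDe hna (F.autGroup E) σ hσA hσ1 hσp hirr (k + 1) 2 hmn
  have hQ : IsPGroup p ((autInducedBy S E).map (rho D)) := by
    apply IsPGroup.map
    rintro ⟨t, ht⟩
    obtain ⟨g, hgN, hgS, rfl⟩ := mem_autInducedBy_iff'.1 ht
    obtain ⟨j, hj⟩ := Helper86.Rank2.exists_conjAut_pow_eq_one hS hgS hgN
    exact ⟨j, Subtype.ext hj⟩
  have hn : ∀ t ∈ autInducedBy S E, δ * t * δ⁻¹ ∈ autInducedBy S E := by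
    intro t ht
    have h1 : rho D t ∈ Subgroup.zpowers (rho D σ) :=
      Helper86.Rank2.mem_zpowers_of_isPGroup hWc hWe _ hQ (rho D σ) ⟨σ, hσS, rfl⟩ hσ1 _ ⟨t, ht, rfl⟩
    obtain ⟨i, hi⟩ := Subgroup.mem_zpowers_iff.1 h1
    obtain ⟨j, hj⟩ := Subgroup.mem_zpowers_iff.1 hδσ
    have hα : rho D (δ * t * δ⁻¹ * (σ ^ (j * i))⁻¹) = 1 := by
      rw [map_mul, map_inv, map_zpow, map_mul, map_mul, map_inv, ← hi, ← conj_zpow, zpow_mul, hj,
        map_mul, map_mul, map_inv, mul_inv_cancel]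
    have h2 := hInn _ (Subgroup.mul_mem _ (Subgroup.mul_mem _ (Subgroup.mul_mem _ hδA (hSA ht))
      (Subgroup.inv_mem _ hδA)) (Subgroup.inv_mem _ (Subgroup.zpow_mem _ hσA _))) hα
    have h3 : δ * t * δ⁻¹ = (δ * t * δ⁻¹ * (σ ^ (j * i))⁻¹) * σ ^ (j * i) := by group
    rw [h3]
    exact Subgroup.mul_mem _ (hInnS h2) (Subgroup.zpow_mem _ hσS _)
  obtain ⟨δ₁, hδ₁, hδ₁E⟩ := Helper86.Rank2.exists_extension_normalizer hS F hF hE.2.1 hδA hn
  -- transport to `T = N_S(E)`
  have hTS : normalizerIn S E ≤ S := Helper87.normalizerIn_le S E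
  have hET : E ≤ normalizerIn S E := Helper87.le_normalizerIn hES
  have hfinT : Finite (normalizerIn S E) := Helper86.finite_of_le hTS
  have hTp : IsPGroup p (normalizerIn S E) := hS.to_le hTS
  have hrk : Cfsg.PRankLE p 2 (normalizerIn S E) :=
    Helper86.Rank2.prankLE_of_injective hrank (normalizerIn S E).subtype
      (Subgroup.subtype_injective _) (fun x => hTS x.2)
  obtain ⟨ι, hι⟩ : ∃ ι : E →* normalizerIn S E, ι = Subgroup.inclusion hET := ⟨_, rfl⟩
  have hιc : ∀ x : E, ((ι x : normalizerIn S E) : Ω) = x := fun x => by rw [hι]; rfl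
  have hιinj : Function.Injective ι := by
    rw [hι]
    exact Subgroup.inclusion_injective hET
  have hconj : ∀ (g : normalizerIn S E) (x : E), g * ι x * g⁻¹ = ι (conjAut E g g.2.2 x) := by
    intro g x
    apply Subtype.ext
    rw [hιc]
    show (g : Ω) * ((ι x : normalizerIn S E) : Ω) * (g : Ω)⁻¹ = _
    rw [hιc]
    rfl
  have hδι : ∀ x : E, δ₁ (ι x) = ι (δ x) := by
    intro x
    apply Subtype.ext
    rw [hιc, ← Helper87.autFun_coe δ₁ (ι x), hιc, hδ₁E x x.2, Helper87.autFun_coe]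
  have hCen : ∀ z ∈ ZP D, Helper86.Rank2.CenD (D.map ι) (ι z) := by
    rintro _ ⟨z, hz, rfl⟩
    refine ⟨⟨z, z.2, rfl⟩, ?_⟩
    rintro _ ⟨y, hy, rfl⟩
    rw [← map_mul, ← map_mul]
    congr 1
    exact (congrArg Subtype.val (Subgroup.mem_center_iff.1 hz ⟨y, hy⟩)).symm
  have hCen' : ∀ x : D, Helper86.Rank2.CenD (D.map ι) (ι x) → x ∈ Subgroup.center ↥D := by
    intro x hx
    rw [Subgroup.mem_center_iff]
    intro y
    apply Subtype.ext
    apply hιinj
    show ι ((y : E) * (x : E)) = ι ((x : E) * (y : E))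
    rw [map_mul, map_mul]
    exact (hx.2 (ι y) ⟨y, y.2, rfl⟩).symm
  have hu : (d₂ ^ 2)⁻¹ * resAut D δ d₂ ∈ Subgroup.center ↥D := by
    apply QuotientGroup.eq.1
    rw [QuotientGroup.mk_pow, ← hδd₂]
    rfl
  have hfin := Helper26.Rank2G2.weight_lemma (p := p) (by omega) hTp hrk (D.map ι)
    (by
      constructor
      rintro _ ⟨x, hx, rfl⟩ g
      rw [hconj]
      exact ⟨_, hDinv _ x hx, rfl⟩)
    (by rw [Subgroup.card_map_of_injective hιinj, hDc])
    (by
      rintro _ ⟨x, hx, rfl⟩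
      rw [← map_pow, hDe x hx, map_one])
    δ₁
    (by
      rintro _ ⟨x, hx, rfl⟩
      rw [hδι]
      exact ⟨_, hDinv δ x hx, rfl⟩)
    1 2
    (by
      intro z hz
      obtain ⟨x, hx, rfl⟩ := hz.1
      have h1 := hδZ ⟨x, hx⟩ (hCen' ⟨x, hx⟩ hz)
      have h2 : δ x = x := congrArg Subtype.val h1
      rw [hδι, h2, pow_one])
    (ι d₂) (ι (((d₂ ^ 2)⁻¹ * resAut D δ d₂ : D) : E)) ⟨c, hcS, hcN⟩ ⟨d₂, d₂.2, rfl⟩
    (by
      intro hcen
      apply hσd₂
      rw [rho_mk, QuotientGroup.eq_iff_div_mem]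
      apply hCen'
      have e : ι ((resAut D σ d₂ / d₂ : D) : E)
          = (⟨c, hcS, hcN⟩ : normalizerIn S E) * ι d₂ * (⟨c, hcS, hcN⟩ : normalizerIn S E)⁻¹ * (ι d₂)⁻¹ := by
        rw [hconj, ← map_inv, ← map_mul]
        congr 1
        rw [div_eq_mul_inv, hσdef]
        rfl
      rw [e]
      exact hcen)
    ⟨_, ((d₂ ^ 2)⁻¹ * resAut D δ d₂ : D).2, rfl⟩
    (by
      intro g
      rw [hconj, ← map_inv, ← map_mul]
      apply hCen
      have hz : (((d₂ ^ 2)⁻¹ * resAut D δ d₂ : D) : E) ∈ ZP D := ⟨_, hu, rfl⟩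
      exact Subgroup.mul_mem _ (hZinv _ _ hz) (Subgroup.inv_mem _ hz))
    (by
      rw [hδι, ← map_pow, ← map_mul]
      congr 1
      show δ (d₂ : E) = (d₂ : E) ^ 2 * (((d₂ : E) ^ 2)⁻¹ * δ (d₂ : E))
      group)
  have h4 : 4 % p = 4 := Nat.mod_eq_of_lt (by omega)
  have h1' : 1 % p = 1 := Nat.mod_eq_of_lt (by omega)
  rcases hfin with h | h
  · have h' : 4 % p = 1 % p := h
    omega
  · have h' : 1 % p = 4 % p := h
    omega

end Cfsg.Agent.Lib.Helper16.Rank2
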