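import Cfsg.Agent.Lib.Helper16.Rank2G4
import Cfsg.Agent.Lib.Helper59.UniqueOdd

set_option autoImplicit false

/-! RANK2 ladder, rung G3. -/

namespace Cfsg.Agent.Lib.Helper16.Rank2

open Cfsg.Agent.Lib

theorem exponent_of_weights {T : Type*} [Group T] [Finite T] {p : ℕ} [hpf : Fact p.Prime] (hp : p ≠ 2)
    (hT : Nat.card T = p ^ 3) (E : Subgroup T) (hE : Nat.card E = p ^ 2) (hEe : ∀ x ∈ E, x ^ p = 1)
    (e₁ e₂ c : T) (he₁ : e₁ ∈ E) (he₂ : e₂ ∈ E) (he₁1 : e₁ ≠ 1) (hc : c ∉ E)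
    (hc1 : c * e₁ * c⁻¹ = e₁) (hc2 : c * e₂ * c⁻¹ ≠ e₂)
    (δ : MulAut T) (m n : ℕ) (hmn : m * n ≡ 1 [MOD p]) (hm : ¬ m ≡ 1 [MOD p])
    (h1 : δ e₁ = e₁ ^ m) (h2 : δ e₂ = e₂ ^ n) : ∀ x : T, x ^ p = 1 := by
  have hTp : IsPGroup p T := IsPGroup.of_card hT
  have hEab : ∀ a ∈ E, ∀ b ∈ E, a * b = b * a := by
    intro a ha b hb
    have := (IsPGroup.isMulCommutative_of_card_eq_prime_sq hE).is_comm.comm ⟨a, ha⟩ ⟨b, hb⟩
    exact congrArg Subtype.val this
  have top_of : ∀ K : Subgroup T, E ≤ K → ∀ x ∈ K, x ∉ E → K = ⊤ := by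
    intro K hEK x hxK hxE
    have hlt : E < K := lt_of_le_of_ne hEK (fun h => hxE (h ▸ hxK))
    have h3 := p_mul_card_le_of_lt' hTp hlt
    rw [hE, ← pow_succ'] at h3
    exact Subgroup.eq_top_of_le_card _ (hT ▸ h3)
  set Z : Subgroup T := Subgroup.center T with hZ
  have cent_top : ∀ t ∈ E, ∀ x, x ∉ E → x * t = t * x → t ∈ Z := by
    intro t ht x hxE hxt
    have htop := top_of (Subgroup.centralizer {t})
      (fun a ha => Subgroup.mem_centralizer_iff.2 (fun h hh => by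
        rw [Set.mem_singleton_iff] at hh; subst hh; exact hEab _ ht _ ha))
      x (Subgroup.mem_centralizer_iff.2 (fun h hh => by
        rw [Set.mem_singleton_iff] at hh; subst hh; exact hxt.symm)) hxE
    rw [hZ, Subgroup.mem_center_iff]
    intro g
    have hg : g ∈ Subgroup.centralizer {t} := htop ▸ Subgroup.mem_top g
    exact (Subgroup.mem_centralizer_iff.1 hg t rfl).symm
  have he₁Z : e₁ ∈ Z := cent_top e₁ he₁ c hc (by
    calc c * e₁ = c * e₁ * c⁻¹ * c := by group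
      _ = e₁ * c := by rw [hc1])
  have he₂Z : e₂ ∉ Z := by
    intro h
    apply hc2
    rw [Subgroup.mem_center_iff.1 h c]; group
  have hZE : Z ≤ E := by
    intro z hz
    by_contra hzE
    exact he₂Z (cent_top e₂ he₂ z hzE (Subgroup.mem_center_iff.1 hz e₂).symm)
  have hZcard : Nat.card Z = p := by
    have hlt : Z < E := lt_of_le_of_ne hZE (fun h => he₂Z (h ▸ he₂))
    have h3 := p_mul_card_le_of_lt' hTp hlt
    rw [hE, sq] at h3
    have h4 : Nat.card Z ≤ p := Nat.le_of_mul_le_mul_left h3 hpf.out.pos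
    have hlt2 : (⊥ : Subgroup T) < Z := bot_lt_iff_ne_bot.2 (fun h => he₁1 (by
      have := h ▸ he₁Z
      exact Subgroup.mem_bot.1 this))
    have h5 := p_mul_card_le_of_lt' hTp hlt2
    rw [Subgroup.card_bot, mul_one] at h5
    omega
  have hZp : ∀ z ∈ Z, z ^ p = 1 := fun z hz => hEe z (hZE hz)
  have hcomm : ∀ x y : T, x * y * x⁻¹ * y⁻¹ ∈ Z := by
    have hq : Nat.card (T ⧸ Z) = p ^ 2 := by
      have h3 := Z.card_mul_index
      rw [hZcard, hT] at h3
      show Z.index = p ^ 2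
      have e : p ^ 3 = p * p ^ 2 := by ring
      rw [e] at h3
      exact Nat.eq_of_mul_eq_mul_left hpf.out.pos h3
    intro x y
    rw [← QuotientGroup.eq_one_iff]
    have h3 := (IsPGroup.isMulCommutative_of_card_eq_prime_sq hq).is_comm.comm (QuotientGroup.mk x) (QuotientGroup.mk y)
    rw [QuotientGroup.mk_mul, QuotientGroup.mk_mul, QuotientGroup.mk_mul, h3, QuotientGroup.mk_inv,
      QuotientGroup.mk_inv]
    group
  have hEn : E.Normal := by
    constructor
    intro e he g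
    have e1 : g * e * g⁻¹ = (g * e * g⁻¹ * e⁻¹) * e := by group
    rw [e1]
    exact E.mul_mem (hZE (hcomm g e)) he
  have hEidx : E.index = p := by
    have h3 := E.card_mul_index
    rw [hE, hT] at h3
    have e : p ^ 3 = p ^ 2 * p := by ring
    rw [e] at h3
    exact Nat.eq_of_mul_eq_mul_left (pow_pos hpf.out.pos 2) h3
  have hpowZ : ∀ x : T, x ^ p ∈ Z := by
    intro x
    by_cases hx : x ∈ E
    · rw [hEe x hx]; exact Z.one_mem
    · have hxE : x ^ p ∈ E := hEidx ▸ E.pow_index_mem x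
      exact cent_top _ hxE x hx (by rw [← pow_succ', pow_succ])
  have hp2 : 2 < p := by have := hpf.out.two_le; omega
  have hmulpow : ∀ x y : T, (x * y) ^ p = x ^ p * y ^ p := by
    intro x y
    have hcZ := hcomm y x
    have h3 := Helper59.mul_pow_of_central_comm x y (y * x * y⁻¹ * x⁻¹) (by group)
      (fun g => (Subgroup.mem_center_iff.1 hcZ g).symm) p
    obtain ⟨k, hk⟩ := hpf.out.dvd_choose_self (k := 2) (by norm_num) hp2
    rw [h3, hk, pow_mul, hZp _ hcZ, one_pow, one_mul]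
  let π : T →* Subgroup.center T := MonoidHom.mk' (fun x => ⟨x ^ p, hpowZ x⟩) (fun x y => Subtype.ext (hmulpow x y))
  let β : T →* Subgroup.center T := MonoidHom.mk' (fun x => ⟨x * e₂ * x⁻¹ * e₂⁻¹, hcomm x e₂⟩) (fun g h => Subtype.ext (by
    have hc' := Subgroup.mem_center_iff.1 (hcomm h e₂)
    have e : g * h * e₂ * (g * h)⁻¹ * e₂⁻¹ = g * (h * e₂ * h⁻¹ * e₂⁻¹) * e₂ * g⁻¹ * e₂⁻¹ := by group
    show g * h * e₂ * (g * h)⁻¹ * e₂⁻¹ = g * e₂ * g⁻¹ * e₂⁻¹ * (h * e₂ * h⁻¹ * e₂⁻¹)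
    rw [e, hc' g, hc' (g * e₂ * g⁻¹ * e₂⁻¹)]
    group))
  have hπ : ∀ x, ((π x : Subgroup.center T) : T) = x ^ p := fun x => rfl
  have hβ : ∀ x, ((β x : Subgroup.center T) : T) = x * e₂ * x⁻¹ * e₂⁻¹ := fun x => rfl
  have hπE : ∀ a ∈ E, π a = 1 := fun a ha => Subtype.ext (hEe a ha)
  have hβE : ∀ a ∈ E, β a = 1 := fun a ha => Subtype.ext (by
    rw [hβ, hEab a ha e₂ he₂]
    simp)
  by_cases hcp : c ^ p = 1
  · have htop := top_of π.ker (fun a ha => hπE a ha) c (Subtype.ext hcp) hc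
    intro x
    have hx : x ∈ π.ker := htop ▸ Subgroup.mem_top x
    exact congrArg Subtype.val hx
  exfalso
  have hu : π c ≠ 1 := fun h => hcp (congrArg Subtype.val h)
  have hw : β c ≠ 1 := by
    intro h
    apply hc2
    have h3 : c * e₂ * c⁻¹ * e₂⁻¹ = 1 := congrArg Subtype.val h
    calc c * e₂ * c⁻¹ = (c * e₂ * c⁻¹ * e₂⁻¹) * e₂ := by group
      _ = e₂ := by rw [h3, one_mul]
  obtain ⟨j, hj⟩ : β c ∈ Submonoid.powers (π c) := mem_powers_of_prime_card hZcard hu
  have hj' : π c ^ j = β c := hj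
  have heq : ∀ x, β x = π x ^ j := by
    let K : Subgroup T :=
      { carrier := {x | β x = π x ^ j}
        one_mem' := by
          show β 1 = π 1 ^ j
          rw [map_one, map_one, one_pow]
        mul_mem' := by
          intro a b ha hb
          show β (a * b) = π (a * b) ^ j
          have hcm : Commute (π a) (π b) :=
            Subtype.ext (Subgroup.mem_center_iff.1 (π b).2 (π a))
          rw [map_mul, map_mul, hcm.mul_pow, (ha : β a = π a ^ j), (hb : β b = π b ^ j)]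
        inv_mem' := by
          intro a ha
          show β a⁻¹ = π a⁻¹ ^ j
          rw [map_inv, map_inv, inv_pow, (ha : β a = π a ^ j)] }
    have htop := top_of K
      (fun a ha => by
        show β a = π a ^ j
        rw [hβE a ha, hπE a ha, one_pow])
      c hj'.symm hc
    intro x
    have hx : x ∈ K := htop ▸ Subgroup.mem_top x
    exact hx
  have hδZ : ∀ z ∈ Z, δ z = z ^ m := by
    intro z hz
    have hne : (⟨e₁, he₁Z⟩ : Z) ≠ 1 := fun h => he₁1 (congrArg Subtype.val h)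
    obtain ⟨k, hk⟩ : (⟨z, hz⟩ : Z) ∈ Submonoid.powers (⟨e₁, he₁Z⟩ : Z) :=
      mem_powers_of_prime_card hZcard hne
    have hk' : e₁ ^ k = z := congrArg Subtype.val hk
    rw [← hk', map_pow, h1, ← pow_mul, ← pow_mul, mul_comm]
  have hβn : ∀ y : T, y * e₂ ^ n * y⁻¹ * (e₂ ^ n)⁻¹ = ((β y : Subgroup.center T) : T) ^ n := by
    intro y
    have e1 : y * e₂ ^ n * y⁻¹ = (y * e₂ * y⁻¹) ^ n := (conj_pow).symm
    have e2 : y * e₂ * y⁻¹ = ((β y : Subgroup.center T) : T) * e₂ := by rw [hβ]; group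
    have hcm : Commute ((β y : Subgroup.center T) : T) e₂ := (Subgroup.mem_center_iff.1 (β y).2 e₂).symm
    rw [e1, e2, hcm.mul_pow]
    group
  have key : ((β c : Subgroup.center T) : T) ^ m = ((β c : Subgroup.center T) : T) ^ (m * n) := by
    have e1 : δ ((β c : Subgroup.center T) : T) = ((β c : Subgroup.center T) : T) ^ m := hδZ _ (β c).2
    have e2 : δ ((β c : Subgroup.center T) : T) = ((β (δ c) : Subgroup.center T) : T) ^ n := by
      rw [← hβn, hβ, map_mul, map_mul, map_mul, map_inv, map_inv, h2]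
    have e3 : ((β (δ c) : Subgroup.center T) : T) = (((β c : Subgroup.center T) : T)) ^ m := by
      rw [heq (δ c), heq c, Subgroup.coe_pow, Subgroup.coe_pow, hπ, hπ, ← map_pow, hδZ _ (hpowZ c),
        pow_right_comm]
    rw [← e1, e2, e3, pow_mul]
  have hord : orderOf ((β c : Subgroup.center T) : T) = p :=
    orderOf_eq_prime (hZp _ (β c).2) (fun h => hw (Subtype.ext h))
  rw [pow_eq_pow_iff_modEq, hord] at key
  exact hm (key.trans hmn)

end Cfsg.Agent.Lib.Helper16.Rank2
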