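import Mathlib

set_option autoImplicit false

/-! RANK2 ladder, rung G6. -/

namespace Cfsg.Agent.Lib.Helper16.Rank2

theorem fix_nsmul_of_iterate {A : Type*} [AddCommGroup A] {p : ℕ} (hp : p.Prime) (h5 : 5 ≤ p) (D : A →+ A)
    (hD : ∀ x, (D^[p]) x = x) (h2 : ∀ y : A, p • y = 0 → D (D y) + y = D y + D y)
    (x : A) (hx : (p ^ 2) • x = 0) : D (p • x) = p • x := by
  let d : AddMonoid.End A := D
  let n : AddMonoid.End A := d - 1
  have hn : ∀ x, n x = D x - x := fun x => rfl
  have hd : d = n + 1 := by simp [n]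
  have hdp : d ^ p = 1 := by
    ext x
    rw [AddMonoid.End.coe_pow]
    exact hD x
  have hn2 : ∀ y, p • y = 0 → n (n y) = 0 := by
    intro y hy
    have h := h2 y hy
    rw [hn, hn, map_sub]
    have e : D (D y) = D y + D y - y := by rw [← h]; abel
    rw [e]; abel
  have hpe : p • (p • x) = 0 := by rw [smul_smul, ← sq]; exact hx
  have hy2 : p • (n (n x)) = 0 := by
    rw [← map_nsmul, ← map_nsmul]
    exact hn2 _ hpe
  have hpow2 : ∀ m : ℕ, p • (n ^ (m + 2)) x = 0 := by
    intro m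
    have e : (n ^ (m + 2)) x = (n ^ m) (n (n x)) := by
      rw [pow_add, sq]; rfl
    rw [e, ← map_nsmul, hy2, map_zero]
  have hpow4 : ∀ m : ℕ, (n ^ (m + 4)) x = 0 := by
    intro m
    have e : (n ^ (m + 4)) x = (n ^ m) (n (n (n (n x)))) := by
      have : m + 4 = m + 2 + 2 := by ring
      rw [this, pow_add, pow_add, sq]; rfl
    rw [e, hn2 _ hy2, map_zero]
  obtain ⟨q, rfl⟩ : ∃ q, p = q + 2 := ⟨p - 2, by omega⟩
  have hexp := (Commute.one_right n).add_pow (q + 2)
  rw [← hd, hdp] at hexp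
  have hx1 := congrArg (fun f : AddMonoid.End A => f x) hexp
  simp only [one_pow, mul_one] at hx1
  rw [Finset.sum_range_succ', Finset.sum_range_succ'] at hx1
  have key : (∑ m ∈ Finset.range (q + 1), n ^ (m + 1 + 1) * (((q + 2).choose (m + 1 + 1) : ℕ) :
      AddMonoid.End A)) x = 0 := by
    have hterm : ∀ m ∈ Finset.range (q + 1), (n ^ (m + 1 + 1) * (((q + 2).choose (m + 1 + 1) : ℕ) :
        AddMonoid.End A)) x = 0 := by
      intro m hm
      rw [Finset.mem_range] at hm
      have e : (n ^ (m + 1 + 1) * (((q + 2).choose (m + 1 + 1) : ℕ) : AddMonoid.End A)) x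
          = ((q + 2).choose (m + 1 + 1)) • (n ^ (m + 2)) x := by
        show (n ^ (m + 1 + 1)) ((((q + 2).choose (m + 1 + 1) : ℕ) : AddMonoid.End A) x) = _
        rw [AddMonoid.End.natCast_apply, map_nsmul]
      rw [e]
      by_cases hmq : m = q
      · subst hmq
        rw [Nat.choose_self, one_smul]
        obtain ⟨r, rfl⟩ : ∃ r, m = r + 2 := ⟨m - 2, by omega⟩
        exact hpow4 r
      · obtain ⟨c, hc⟩ := hp.dvd_choose_self (k := m + 1 + 1) (by omega) (by omega)
        rw [hc, mul_comm, mul_smul, hpow2 m, smul_zero]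
    let ev : AddMonoid.End A →+ A :=
      { toFun := fun g => g x
        map_zero' := rfl
        map_add' := fun _ _ => rfl }
    show ev _ = _
    rw [map_sum]
    exact Finset.sum_eq_zero hterm
  have hx' : x = (q + 2) • n x + x := by
    have e1 : (n ^ (0 + 1) * (((q + 2).choose (0 + 1) : ℕ) : AddMonoid.End A)) x = (q + 2) • n x := by
      show (n ^ (0 + 1)) ((((q + 2).choose (0 + 1) : ℕ) : AddMonoid.End A) x) = _
      rw [AddMonoid.End.natCast_apply, map_nsmul]
      simp
    have e0 : (n ^ 0 * (((q + 2).choose 0 : ℕ) : AddMonoid.End A)) x = x := by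
      simp
    have hx2 : (1 : AddMonoid.End A) x = (∑ m ∈ Finset.range (q + 1), n ^ (m + 1 + 1) *
        (((q + 2).choose (m + 1 + 1) : ℕ) : AddMonoid.End A)) x
        + (n ^ (0 + 1) * (((q + 2).choose (0 + 1) : ℕ) : AddMonoid.End A)) x
        + (n ^ 0 * (((q + 2).choose 0 : ℕ) : AddMonoid.End A)) x := hx1
    rw [key, e1, e0, zero_add] at hx2
    exact hx2
  have h4 : (q + 2) • n x = 0 := by
    have := hx'
    nth_rewrite 1 [← zero_add x] at this
    exact (add_right_cancel this).symm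
  rw [hn, smul_sub, ← map_nsmul] at h4
  exact sub_eq_zero.1 h4

theorem fix_pow_of_pow_eq_one {P : Type*} [CommGroup P] {p : ℕ} [Fact p.Prime] (hp : 5 ≤ p)
    (σ : MulAut P) (hσ : σ ^ p = 1)
    (h2 : ∀ y : P, y ^ p = 1 → σ (σ y) * y = σ y * σ y)
    (x : P) (hx : x ^ (p ^ 2) = 1) : σ (x ^ p) = x ^ p := by
  have hpow : ∀ (n : ℕ) (x : P), (σ ^ n) x = (σ : P → P)^[n] x := by
    intro n
    induction n with
    | zero => intro x; rfl
    | succ n ih =>
      intro x
      rw [Function.iterate_succ_apply', ← ih, pow_succ']; rfl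
  exact fix_nsmul_of_iterate (A := Additive P) Fact.out hp (MonoidHom.toAdditive (σ : P ≃* P).toMonoidHom)
    (fun y => by
      have h := hpow p (Additive.toMul y)
      rw [hσ] at h
      exact h.symm) h2 x hx

end Cfsg.Agent.Lib.Helper16.Rank2
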