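import Cfsg.Prelude.Def_LieExceptional
import Mathlib

set_option autoImplicit false

namespace Cfsg.Agent.Lib.Helper16

open MulAction
open scoped Pointwise

section
variable {G Ω : Type*} [Group G] [MulAction G Ω]

theorem card_fixedBy_conj (g h : G) :
    Nat.card (fixedBy Ω (h * g * h⁻¹)) = Nat.card (fixedBy Ω g) := by
  rw [← smul_fixedBy, Nat.card_coe_set_eq, Nat.card_coe_set_eq, Set.ncard_smul_set]

/-- a nonidentity element fixing no three points has at most two fixed points -/
theorem card_fixedBy_le_two [Finite Ω]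
    (h3 : ∀ g : G, ∀ a b c : Ω, a ≠ b → b ≠ c → a ≠ c → g • a = a → g • b = b → g • c = c → g = 1)
    (g : G) (hg : g ≠ 1) : Nat.card (fixedBy Ω g) ≤ 2 := by
  by_contra hcon
  push Not at hcon
  rw [Nat.card_coe_set_eq] at hcon
  obtain ⟨a, b, c, ha, hb, hc, hab, hac, hbc⟩ := (Set.two_lt_ncard_iff (Set.toFinite _)).mp hcon
  exact hg (h3 g a b c hab hbc hac ha hb hc)

/-- parity of the number of fixed points of an involution -/
theorem card_fixedBy_modEq_two [Fintype Ω] (s : G) (hs : s ^ 2 = 1) :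
    Nat.card (fixedBy Ω s) ≡ Fintype.card Ω [MOD 2] := by
  classical
  have : Fact (Nat.Prime 2) := ⟨Nat.prime_two⟩
  have hσ : (MulAction.toPerm s : Equiv.Perm Ω) ^ 2 ^ 1 = 1 := by
    ext x
    have : (MulAction.toPerm s : Equiv.Perm Ω) ^ 2 = MulAction.toPerm (s ^ 2) := by
      ext y; simp [pow_two, mul_smul]
    rw [pow_one, this, hs]; simp
  have h1 := Equiv.Perm.card_compl_support_modEq hσ
  have h2 : Nat.card (fixedBy Ω s) = ((MulAction.toPerm s : Equiv.Perm Ω).supportᶜ).card := by
    rw [Nat.card_coe_set_eq, ← Set.ncard_coe_finset]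
    congr 1
    ext x
    simp
  rw [h2]; exact h1

/-- In a faithful doubly transitive action, every involution has a conjugate swapping two given
points. -/
theorem exists_conj_swap [FaithfulSMul G Ω] (h2 : IsMultiplyPretransitive G Ω 2)
    (t : G) (ht : orderOf t = 2) {a b : Ω} (hab : a ≠ b) :
    ∃ h : G, orderOf (h * t * h⁻¹) = 2 ∧ (h * t * h⁻¹) • a = b ∧ (h * t * h⁻¹) • b = a := by
  have ht1 : t ≠ 1 := by
    rintro rfl
    rw [orderOf_one] at ht; omega
  have ht2 : t ^ 2 = 1 := by rw [← ht]; exact pow_orderOf_eq_one t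
  obtain ⟨c, hc⟩ : ∃ c : Ω, t • c ≠ c := by
    by_contra hcon
    push Not at hcon
    apply ht1
    apply FaithfulSMul.eq_of_smul_eq_smul (α := Ω)
    intro x; rw [hcon x, one_smul]
  have htc : t • t • c = c := by rw [← mul_smul, ← pow_two, ht2, one_smul]
  obtain ⟨h, h1, h2'⟩ := (is_two_pretransitive_iff (G := G) (α := Ω)).mp h2 (Ne.symm hc) hab
  refine ⟨h, ?_, ?_, ?_⟩
  · have : h * t * h⁻¹ = MulAut.conj h t := rfl
    rw [this, MulEquiv.orderOf_eq, ht]
  · rw [mul_smul, mul_smul, ← h1, inv_smul_smul, h2']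
  · rw [mul_smul, mul_smul, ← h2', inv_smul_smul, htc, h1]

/-- a doubly transitive group on at least two points contains an involution -/
theorem exists_involution [Finite G] (h2 : IsMultiplyPretransitive G Ω 2) {a b : Ω} (hab : a ≠ b) :
    ∃ t : G, orderOf t = 2 := by
  obtain ⟨g, h1, h2'⟩ := (is_two_pretransitive_iff (G := G) (α := Ω)).mp h2 hab (Ne.symm hab)
  have hpow : ∀ n : ℕ, (g ^ (2 * n)) • a = a ∧ (g ^ (2 * n + 1)) • a = b := by
    intro n
    induction n with
    | zero => simp [h1]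
    | succ n ih =>
      have e1 : g ^ (2 * (n + 1)) = g * g ^ (2 * n + 1) := by rw [← pow_succ']; ring_nf
      have e2 : (g ^ (2 * (n + 1))) • a = a := by rw [e1, mul_smul, ih.2, h2']
      refine ⟨e2, ?_⟩
      rw [pow_succ', mul_smul, e2, h1]
  have heven : Even (orderOf g) := by
    rw [← Nat.not_odd_iff_even]
    rintro ⟨n, hn⟩
    have := (hpow n).2
    rw [← hn, pow_orderOf_eq_one, one_smul] at this
    exact hab this
  obtain ⟨m, hm⟩ := heven
  refine ⟨g ^ m, ?_⟩
  have hpos := orderOf_pos g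
  have : orderOf g / 2 = m := by omega
  rw [← this]
  exact orderOf_pow_orderOf_div hpos.ne' ⟨m, by omega⟩

end

end Cfsg.Agent.Lib.Helper16
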